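import Cfsg.Agent.H2.NonsolvableStructure

/-!
The canonical normal Z-subgroup of a Frobenius complement.
-/

set_option autoImplicit false
set_option linter.style.haveILetI false

namespace H2

universe u

/-- Two commuting involutions prevent a group from being a Z-group and give four elements. -/
theorem not_isZGroup_of_involutions {N : Type*} [Group N] [Finite N] {x y : N} (hx : orderOf x = 2)
    (hy : orderOf y = 2) (hne : x ≠ y) (hc : x * y = y * x) : ¬ IsZGroup N ∧ 4 ≤ Nat.card N := by
  classical
  haveI : Fact (Nat.Prime 2) := ⟨Nat.prime_two⟩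
  have hx2 : x * x = 1 := by rw [← pow_two, ← hx, pow_orderOf_eq_one]
  have hy2 : y * y = 1 := by rw [← pow_two, ← hy, pow_orderOf_eq_one]
  have hc' : ∀ t, x * (y * t) = y * (x * t) := fun t => by rw [← mul_assoc, hc, mul_assoc]
  have hxx : ∀ t, x * (x * t) = t := fun t => by rw [← mul_assoc, hx2, one_mul]
  have hyy : ∀ t, y * (y * t) = t := fun t => by rw [← mul_assoc, hy2, one_mul]
  let V : Subgroup N :=
    { carrier := {1, x, y, x * y}
      one_mem' := by simp
      mul_mem' := by
        rintro a b (rfl | rfl | rfl | rfl) (rfl | rfl | rfl | rfl) <;>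
          simp [hx2, hy2, hc, hc', hxx, hyy, mul_assoc]
      inv_mem' := by
        rintro a (rfl | rfl | rfl | rfl) <;>
          simp [inv_eq_of_mul_eq_one_right hx2, inv_eq_of_mul_eq_one_right hy2, hc] }
  have hV : IsPGroup 2 V := by
    intro v
    refine ⟨1, Subtype.ext ?_⟩
    obtain ⟨v, rfl | rfl | rfl | rfl⟩ := v <;> simp [pow_two, hx2, hy2, hc, hc', hxx, hyy, mul_assoc]
  refine ⟨fun hZ => ?_, ?_⟩
  · haveI := hZ
    haveI := hV.isCyclic_of_isZGroup
    letI : CommGroup V := IsCyclic.commGroup
    haveI : Fintype V := Fintype.ofFinite V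
    have hxV : x ∈ V := Or.inr (Or.inl rfl)
    have hyV : y ∈ V := Or.inr (Or.inr (Or.inl rfl))
    have h2 := IsCyclic.card_orderOf_eq_totient (α := V) (d := 2)
      (by rw [← Nat.card_eq_fintype_card, ← hx]; exact Subgroup.orderOf_dvd_natCard V hxV)
    rw [Nat.totient_two, Finset.card_eq_one] at h2
    obtain ⟨t, ht⟩ := h2
    have h3 : (⟨x, hxV⟩ : V) ∈ ({t} : Finset V) := ht ▸ Finset.mem_filter.mpr
      ⟨Finset.mem_univ _, by rw [← hx, ← Subgroup.orderOf_coe]⟩
    have h4 : (⟨y, hyV⟩ : V) ∈ ({t} : Finset V) := ht ▸ Finset.mem_filter.mpr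
      ⟨Finset.mem_univ _, by rw [← hy, ← Subgroup.orderOf_coe]⟩
    rw [Finset.mem_singleton] at h3 h4
    exact hne (congrArg Subtype.val (h3.trans h4.symm))
  · have h1 : x ≠ 1 := fun h => by rw [h, orderOf_one] at hx; omega
    have h2 : y ≠ 1 := fun h => by rw [h, orderOf_one] at hy; omega
    have h3 : x * y ≠ 1 := fun h => hne (by rw [← hxx y, h, mul_one])
    have h4 : x * y ≠ x := fun h => h2 (by rw [← hxx y, h, hx2])
    have h5 : x * y ≠ y := fun h => h1 (by
      have := congrArg (· * y) h
      simpa [mul_assoc, hy2] using this)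
    have h6 : (Finset.card ({1, x, y, x * y} : Finset N)) = 4 := by
      simp [Finset.card_insert_of_notMem, Ne.symm h1, Ne.symm h2, Ne.symm h3, hne, Ne.symm h4,
        Ne.symm h5]
    have h7 := Set.ncard_le_ncard (s := (↑({1, x, y, x * y} : Finset N) : Set N))
      (t := (Set.univ : Set N)) (Set.subset_univ _) (Set.toFinite _)
    rw [Set.ncard_coe_finset, h6, Set.ncard_univ] at h7
    exact h7

/-- Nontrivial normal subgroups contain two commuting involutions. -/
def HasNormalFours (X : Type*) [Group X] : Prop :=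
  ∀ g : X, g ≠ 1 → ∃ h : X, ∃ k : X,
    (g * h * g⁻¹ * h⁻¹) * (g * h * g⁻¹ * h⁻¹) = 1 ∧ g * h * g⁻¹ * h⁻¹ ≠ 1 ∧
    k * (g * h * g⁻¹ * h⁻¹) * k⁻¹ ≠ g * h * g⁻¹ * h⁻¹ ∧
    (g * h * g⁻¹ * h⁻¹) * (k * (g * h * g⁻¹ * h⁻¹) * k⁻¹) =
      (k * (g * h * g⁻¹ * h⁻¹) * k⁻¹) * (g * h * g⁻¹ * h⁻¹)

theorem perm_four_fours : HasNormalFours (Equiv.Perm (Fin 4)) := by
  unfold HasNormalFours; decide +kernel

theorem alt_four_fours : HasNormalFours (alternatingGroup (Fin 4)) := by
  unfold HasNormalFours; decide +kernel

theorem normal_of_fours {X : Type*} [Group X] [Finite X] (hX : HasNormalFours X) (N : Subgroup X)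
    [N.Normal] (hN : N ≠ ⊥) : ¬ IsZGroup N ∧ 4 ≤ Nat.card N := by
  haveI : Fact (Nat.Prime 2) := ⟨Nat.prime_two⟩
  obtain ⟨g, hg, hg1⟩ := (Subgroup.bot_or_exists_ne_one N).resolve_left hN
  obtain ⟨h, k, hcc, hc1, hkc, hcomm⟩ := hX g hg1
  generalize hc : g * h * g⁻¹ * h⁻¹ = c at hcc hc1 hkc hcomm
  have hcN : c ∈ N := by
    rw [← hc]
    have := N.mul_mem hg (‹N.Normal›.conj_mem g⁻¹ (N.inv_mem hg) h)
    simpa [mul_assoc] using this
  have hkN : k * c * k⁻¹ ∈ N := ‹N.Normal›.conj_mem c hcN k
  have hco : orderOf c = 2 := orderOf_eq_prime (by rw [pow_two]; exact hcc) hc1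
  refine not_isZGroup_of_involutions (x := (⟨c, hcN⟩ : N)) (y := ⟨k * c * k⁻¹, hkN⟩) ?_ ?_ ?_ ?_
  · rw [← hco, ← Subgroup.orderOf_coe]
  · rw [← Subgroup.orderOf_coe]
    change orderOf (MulAut.conj k c) = 2
    rw [MulEquiv.orderOf_eq, hco]
  · exact fun e => hkc (congrArg Subtype.val e).symm
  · exact Subtype.ext hcomm

theorem even_card_of_fours {X : Type*} [Group X] [Finite X] (hX : HasNormalFours X)
    (N : Subgroup X) [N.Normal] (hN : N ≠ ⊥) : 2 ∣ Nat.card N := by
  haveI : Fact (Nat.Prime 2) := ⟨Nat.prime_two⟩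
  obtain ⟨g, hg, hg1⟩ := (Subgroup.bot_or_exists_ne_one N).resolve_left hN
  obtain ⟨h, k, hcc, hc1, -, -⟩ := hX g hg1
  generalize hc : g * h * g⁻¹ * h⁻¹ = c at hcc hc1
  have hcN : c ∈ N := by
    rw [← hc]
    have := N.mul_mem hg (‹N.Normal›.conj_mem g⁻¹ (N.inv_mem hg) h)
    simpa [mul_assoc] using this
  rw [← orderOf_eq_prime (p := 2) (by rw [pow_two]; exact hcc) hc1]
  exact Subgroup.orderOf_dvd_natCard N hcN

theorem alt_five_normal (N : Subgroup (alternatingGroup (Fin 5))) [N.Normal] (hN : N ≠ ⊥) :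
    ¬ IsZGroup N ∧ 60 ≤ Nat.card N := by
  haveI := alternatingGroup.isSimpleGroup (α := Fin 5) (by simp)
  have htop : N = ⊤ := (Subgroup.Normal.eq_bot_or_eq_top ‹N.Normal›).resolve_left hN
  subst htop
  refine ⟨fun h => ?_, ?_⟩
  · haveI := h
    haveI : Group.IsSolvable (alternatingGroup (Fin 5)) :=
      Group.isSolvable_of_surjective
        (f := (Subgroup.topEquiv : _ ≃* alternatingGroup (Fin 5)).toMonoidHom)
        Subgroup.topEquiv.surjective
    have hc := IsSimpleGroup.comm_iff_isSolvable.mpr
      (inferInstance : Group.IsSolvable (alternatingGroup (Fin 5)))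
    have h1 := hc ⟨Equiv.swap 0 1 * Equiv.swap 1 2, by simp [Equiv.Perm.mem_alternatingGroup]⟩
      ⟨Equiv.swap 2 3 * Equiv.swap 3 4, by simp [Equiv.Perm.mem_alternatingGroup]⟩
    revert h1
    decide +kernel
  · rw [Subgroup.card_top, nat_card_alternatingGroup, Nat.card_fin]; decide

theorem perm_five_normal (N : Subgroup (Equiv.Perm (Fin 5))) [N.Normal] (hN : N ≠ ⊥) :
    ¬ IsZGroup N ∧ 60 ≤ Nat.card N := by
  set A := alternatingGroup (Fin 5)
  by_cases h : N.subgroupOf A = ⊥
  · exfalso
    apply hN
    rw [eq_bot_iff]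
    intro n hn
    have hd : Disjoint N A := by rwa [Subgroup.subgroupOf_eq_bot] at h
    have hcen : ∀ a ∈ A, n * a = a * n := by
      intro a ha
      have h1 : n * a * n⁻¹ * a⁻¹ ∈ N := by
        have := N.mul_mem hn (‹N.Normal›.conj_mem n⁻¹ (N.inv_mem hn) a)
        simpa [mul_assoc] using this
      have h2 : n * a * n⁻¹ * a⁻¹ ∈ A :=
        A.mul_mem ((alternatingGroup.normal).conj_mem a ha n) (A.inv_mem ha)
      exact mul_inv_eq_iff_eq_mul.mp (mul_inv_eq_one.mp (Subgroup.disjoint_def.mp hd h1 h2))
    rw [Subgroup.mem_bot]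
    have key : ∀ n : Equiv.Perm (Fin 5),
        n * (Equiv.swap 0 1 * Equiv.swap 1 2) = (Equiv.swap 0 1 * Equiv.swap 1 2) * n →
        n * (Equiv.swap 2 3 * Equiv.swap 3 4) = (Equiv.swap 2 3 * Equiv.swap 3 4) * n → n = 1 := by
      decide +kernel
    exact key n (hcen _ (by simp [A, Equiv.Perm.mem_alternatingGroup]))
      (hcen _ (by simp [A, Equiv.Perm.mem_alternatingGroup]))
  · obtain ⟨h1, h2⟩ := alt_five_normal (N.subgroupOf A) h
    have hinj : Function.Injective (fun x : N.subgroupOf A => (⟨x.1.1, x.2⟩ : N)) := fun a b e =>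
      Subtype.ext (Subtype.ext (congrArg (fun t : N => (t : Equiv.Perm (Fin 5))) e))
    refine ⟨fun hZ => h1 ?_, h2.trans (Nat.card_le_card_of_injective _ hinj)⟩
    haveI := hZ
    exact IsZGroup.of_injective (f := { toFun := fun x : N.subgroupOf A => (⟨x.1.1, x.2⟩ : N)
                                        map_one' := rfl
                                        map_mul' := fun _ _ => rfl }) hinj

theorem not_isZGroup_of_normal_self {X : Type*} [Group X] [Finite X] [Nontrivial X]
    (h : ∀ N : Subgroup X, N.Normal → N ≠ ⊥ → ¬ IsZGroup N) : ¬ IsZGroup X := fun hX => by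
  haveI := hX
  exact h ⊤ inferInstance top_ne_bot inferInstance

variable {G : Type u} [Group G] [Finite G]

/-- The six possible quotients. -/
def IsQuotientType (N : Subgroup G) : Prop :=
  N = ⊤ ∨
    (∃ f : G →* DihedralGroup 2, Function.Surjective f ∧ f.ker = N) ∨
    (∃ f : G →* alternatingGroup (Fin 4), Function.Surjective f ∧ f.ker = N) ∨
    (∃ f : G →* Equiv.Perm (Fin 4), Function.Surjective f ∧ f.ker = N) ∨
    (∃ f : G →* alternatingGroup (Fin 5), Function.Surjective f ∧ f.ker = N) ∨
    (∃ f : G →* Equiv.Perm (Fin 5), Function.Surjective f ∧ f.ker = N)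

theorem card_dihedral_two : Nat.card (DihedralGroup 2) = 4 := by
  rw [DihedralGroup.nat_card]

theorem card_alt_four : Nat.card (alternatingGroup (Fin 4)) = 12 := by
  rw [nat_card_alternatingGroup, Nat.card_fin]; rfl

theorem card_perm_four : Nat.card (Equiv.Perm (Fin 4)) = 24 := by
  rw [Nat.card_perm, Nat.card_fin]; rfl

theorem card_alt_five : Nat.card (alternatingGroup (Fin 5)) = 60 := by
  rw [nat_card_alternatingGroup, Nat.card_fin]; rfl

theorem card_perm_five : Nat.card (Equiv.Perm (Fin 5)) = 120 := by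
  rw [Nat.card_perm, Nat.card_fin]; rfl

omit [Finite G] in
theorem index_ker_of_surjective {X : Type*} [Group X] (f : G →* X) (hf : Function.Surjective f) :
    f.ker.index = Nat.card X := by
  rw [Subgroup.index_ker, MonoidHom.range_eq_top_of_surjective f hf, Subgroup.card_top]

theorem quotient_type_not_z {N : Subgroup G} (hG : IsZGroup G) (hq : IsQuotientType N) : N = ⊤ := by
  haveI := hG
  rcases hq with h | ⟨f, hf, -⟩ | ⟨f, hf, -⟩ | ⟨f, hf, -⟩ | ⟨f, hf, -⟩ | ⟨f, hf, -⟩
  · exact h
  all_goals
    haveI := IsZGroup.of_surjective (f := f) hf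
    exfalso
  · exact (not_isZGroup_of_involutions (N := DihedralGroup 2) (x := DihedralGroup.r 1)
      (y := DihedralGroup.sr 0) (orderOf_eq_prime (by decide) (by decide))
      (orderOf_eq_prime (by decide) (by decide)) (by decide) (by decide)).1 inferInstance
  · haveI : Nontrivial (alternatingGroup (Fin 4)) :=
      Finite.one_lt_card_iff_nontrivial.mp (by rw [card_alt_four]; norm_num)
    exact not_isZGroup_of_normal_self (fun M hM h => (normal_of_fours alt_four_fours M h).1)
      (inferInstance : IsZGroup (alternatingGroup (Fin 4)))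
  · exact not_isZGroup_of_normal_self (fun M hM h => (normal_of_fours perm_four_fours M h).1)
      (inferInstance : IsZGroup (Equiv.Perm (Fin 4)))
  · haveI : Nontrivial (alternatingGroup (Fin 5)) :=
      Finite.one_lt_card_iff_nontrivial.mp (by rw [card_alt_five]; norm_num)
    exact not_isZGroup_of_normal_self (fun M hM h => (alt_five_normal M h).1)
      (inferInstance : IsZGroup (alternatingGroup (Fin 5)))
  · exact not_isZGroup_of_normal_self (fun M hM h => (perm_five_normal M h).1)
      (inferInstance : IsZGroup (Equiv.Perm (Fin 5)))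

/-- A quotient of type `A₄, S₄, A₅, S₅` determines the normal Z-subgroup. -/
theorem eq_ker_of_quotient {X₀ : Type*} [Group X₀] [Finite X₀] (f₀ : G →* X₀)
    (hf₀ : Function.Surjective f₀) (hX₀ : ∀ M : Subgroup X₀, M.Normal → M ≠ ⊥ → ¬ IsZGroup M)
    (hcard : 12 ≤ Nat.card X₀) {N : Subgroup G} [N.Normal] [IsZGroup N] (hq : IsQuotientType N)
    (hsol : 60 ≤ Nat.card X₀ ∨ Group.IsSolvable G) : N = f₀.ker := by
  have hmap : N.map f₀ = ⊥ := by
    by_contra h
    haveI : IsZGroup (N.map f₀) := IsZGroup.of_surjective (f := f₀.subgroupMap N) (f₀.subgroupMap_surjective N)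
    exact hX₀ _ (‹N.Normal›.map f₀ hf₀) h inferInstance
  have hle : N ≤ f₀.ker := (Subgroup.map_eq_bot_iff N).mp hmap
  have hmul : ∀ {X : Type} [Group X] (f : G →* X), Function.Surjective f → f.ker = N →
      Nat.card (f₀.ker.map f) * Nat.card X₀ = Nat.card X := by
    intro X _ f hf hk
    rw [← (f₀.ker.map f).card_mul_index,
      Subgroup.index_map_eq _ hf (hk ▸ hle), index_ker_of_surjective f₀ hf₀]
  have hbot : ∀ {X : Type} [Group X] (f : G →* X), f.ker = N → f₀.ker.map f = ⊥ → N = f₀.ker := by
    intro X _ f hk h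
    exact le_antisymm hle (hk ▸ (Subgroup.map_eq_bot_iff _).mp h)
  rcases hq with h | ⟨f, hf, hk⟩ | ⟨f, hf, hk⟩ | ⟨f, hf, hk⟩ | ⟨f, hf, hk⟩ | ⟨f, hf, hk⟩
  · exact le_antisymm hle (h ▸ le_top)
  · have h1 := hmul f hf hk
    rw [card_dihedral_two] at h1
    have : 0 < Nat.card (f₀.ker.map f) := Nat.card_pos
    nlinarith
  · refine hbot f hk ?_
    by_contra h
    haveI : (f₀.ker.map f).Normal := (inferInstance : f₀.ker.Normal).map f hf
    have h1 := hmul f hf hk
    have h2 := (normal_of_fours alt_four_fours _ h).2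
    rw [card_alt_four] at h1
    nlinarith
  · refine hbot f hk ?_
    by_contra h
    haveI : (f₀.ker.map f).Normal := (inferInstance : f₀.ker.Normal).map f hf
    have h1 := hmul f hf hk
    have h2 := (normal_of_fours perm_four_fours _ h).2
    rw [card_perm_four] at h1
    nlinarith
  · refine hbot f hk ?_
    by_contra h
    haveI : (f₀.ker.map f).Normal := (inferInstance : f₀.ker.Normal).map f hf
    have h1 := hmul f hf hk
    have h2 := (alt_five_normal _ h).2
    rw [card_alt_five] at h1
    nlinarith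
  · refine hbot f hk ?_
    by_contra h
    haveI : (f₀.ker.map f).Normal := (inferInstance : f₀.ker.Normal).map f hf
    have h1 := hmul f hf hk
    have h2 := (perm_five_normal _ h).2
    rw [card_perm_five] at h1
    nlinarith

/-- The map of a quaternion group onto the four-group. -/
def quatToFour (N : ℕ) : QuaternionGroup N → DihedralGroup 2
  | QuaternionGroup.a i => DihedralGroup.r (ZMod.castHom (dvd_mul_right 2 N) (ZMod 2) i)
  | QuaternionGroup.xa i => DihedralGroup.sr (ZMod.castHom (dvd_mul_right 2 N) (ZMod 2) i)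

/-- The map of a quaternion group of order `4N`, `N` even, onto the four-group. -/
def quatToFourHom (N : ℕ) (hN : 2 ∣ N) : QuaternionGroup N →* DihedralGroup 2 where
  toFun := quatToFour N
  map_one' := by simp [QuaternionGroup.one_def, quatToFour, -QuaternionGroup.a_zero]
  map_mul' := by
    have h : ((N : ℕ) : ZMod 2) = 0 := (ZMod.natCast_eq_zero_iff N 2).mpr hN
    rintro (i | i) (j | j)
    · simp [quatToFour]
    · simp [quatToFour]
    · simp [quatToFour]
    · simp [quatToFour, h]

theorem solvable_cases [Group.IsSolvable G] (hG : H28.FCInt G) :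
    IsZGroup G ∨
      (∃ n : ℕ, ∃ ψ : G →* QuaternionGroup (2 ^ (n + 1)), Function.Surjective ψ ∧
        (Nat.card ψ.ker).Coprime 2) ∨
      ∃ f : G →* Equiv.Perm (Fin 4), IsZGroup f.ker ∧ alternatingGroup (Fin 4) ≤ f.range := by
  classical
  haveI : Fact (Nat.Prime 2) := ⟨Nat.prime_two⟩
  obtain ⟨P⟩ : Nonempty (Sylow 2 G) := inferInstance
  have hZ : ∀ (H : Subgroup G), (∀ S : Subgroup G, S ≤ H → IsPGroup 2 S → IsCyclic S) → IsZGroup H := by
    intro H h
    refine ⟨fun p hp S => ?_⟩
    haveI := Fact.mk hp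
    let e := (S : Subgroup H).equivMapOfInjective H.subtype H.subtype_injective
    have hSp : IsPGroup p ((S : Subgroup H).map H.subtype) := S.2.map _
    haveI : IsCyclic ((S : Subgroup H).map H.subtype) := by
      by_cases hp2 : p = 2
      · subst hp2; exact h _ (Subgroup.map_subtype_le _) hSp
      · exact fcInt_isCyclic_sylow hG hp2 hSp
    exact isCyclic_of_surjective e.symm.toMonoidHom e.symm.surjective
  have hcycl : IsCyclic (P : Subgroup G) → IsZGroup G := by
    intro hc
    haveI := hZ ⊤ fun S _ hS => by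
      obtain ⟨Q, hQ⟩ := IsPGroup.exists_le_sylow hS
      haveI : IsCyclic (Q : Subgroup G) :=
        isCyclic_of_surjective (P.equiv Q).toMonoidHom (P.equiv Q).surjective
      exact Subgroup.isCyclic_of_le hQ
    exact IsZGroup.of_surjective (f := (Subgroup.topEquiv (G := G)).toMonoidHom) Subgroup.topEquiv.surjective
  rcases fcInt_isCyclic_or_quaternion hG P.2 with hc | ⟨n, ⟨eP⟩⟩
  · exact Or.inl (hcycl hc)
  rcases n with _ | n
  · refine Or.inl (hcycl ?_)
    haveI : IsCyclic (QuaternionGroup (2 ^ 0)) := by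
      haveI : NeZero (2 ^ 0) := ⟨one_ne_zero⟩
      exact isCyclic_of_orderOf_eq_card (QuaternionGroup.xa 0) (by
        rw [QuaternionGroup.orderOf_xa, Nat.card_eq_fintype_card, QuaternionGroup.card, pow_zero,
          mul_one])
    exact isCyclic_of_surjective eP.symm.toMonoidHom eP.symm.surjective
  right
  haveI := H1.pPrimeCore_characteristic 2 G
  set K := Cfsg.pPrimeCore 2 G with hK
  set π := QuotientGroup.mk' K with hπ
  have hcopK : ∀ S : Subgroup G, IsPGroup 2 S → Function.Injective (π.subgroupMap S) := by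
    intro S hS
    rw [injective_iff_map_eq_one]
    intro s hs
    have h1 : (s : G) ∈ K := (QuotientGroup.eq_one_iff _).mp (congrArg Subtype.val hs)
    obtain ⟨k, hk⟩ := hS s
    have h2 : orderOf (s : G) ∣ 2 ^ k := orderOf_dvd_of_pow_eq_one (congrArg Subtype.val hk)
    refine Subtype.ext (orderOf_eq_one_iff.mp ?_)
    exact Nat.eq_one_of_dvd_coprimes ((H1.card_pPrimeCore_coprime 2 G).symm.pow_left k) h2
      (Subgroup.orderOf_dvd_natCard K h1)
  let P' := P.mapSurjective (QuotientGroup.mk'_surjective K)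
  have eP' : (P' : Subgroup (G ⧸ K)) ≃* QuaternionGroup (2 ^ (n + 1)) := by
    rw [Sylow.coe_mapSurjective]
    exact (MulEquiv.ofBijective (π.subgroupMap (P : Subgroup G))
      ⟨hcopK _ P.2, π.subgroupMap_surjective _⟩).symm.trans eP
  by_cases h2 : IsPGroup 2 (G ⧸ K)
  · left
    have htop : (P' : Subgroup (G ⧸ K)) = ⊤ := (P'.3 (h2.to_subgroup ⊤) le_top).symm
    let e : G ⧸ K ≃* QuaternionGroup (2 ^ (n + 1)) :=
      Subgroup.topEquiv.symm.trans ((MulEquiv.subgroupCongr htop).symm.trans eP')
    refine ⟨n, e.toMonoidHom.comp π, e.surjective.comp (QuotientGroup.mk'_surjective K), ?_⟩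
    rw [MonoidHom.ker_comp_of_injective π e.toMonoidHom e.injective, QuotientGroup.ker_mk']
    exact H1.card_pPrimeCore_coprime 2 G
  right
  haveI : (Cfsg.pPrimeCore 2 G).Normal := H1.pPrimeCore_normal' 2 G
  have hcore : Cfsg.pPrimeCore 2 (G ⧸ K) = ⊥ := H1.pPrimeCore_quotient_pPrimeCore 2
  haveI := H1.pCore_normal' 2 (G ⧸ K)
  set U := Cfsg.pCore 2 (G ⧸ K) with hU
  have haut : ¬ IsPGroup 2 (MulAut U) := fun h => h2 (H70.isPGroup_of_mulAut_pCore hcore h)
  have hUP : U ≤ (P' : Subgroup (G ⧸ K)) := (H1.isPGroup_pCore 2 (G ⧸ K)).le_sylow_of_normal P'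
  have hUc : ¬ IsCyclic U := fun h =>
    haut (H70.isPGroup_two_mulAut_cyclic (H1.isPGroup_pCore 2 (G ⧸ K)))
  let ι : U →* QuaternionGroup (2 ^ (n + 1)) := eP'.toMonoidHom.comp (Subgroup.inclusion hUP)
  have hι : Function.Injective ι := eP'.injective.comp (Subgroup.inclusion_injective hUP)
  let eU : U ≃* ι.range := MonoidHom.ofInjective hι
  obtain ⟨j, ⟨ej⟩⟩ := (H70.cyclic_or_quaternion_of_le ι.range).resolve_left fun h =>
    hUc (isCyclic_of_surjective eU.symm.toMonoidHom eU.symm.surjective)
  have hj : j = 1 := by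
    rcases j with _ | _ | j
    · exfalso
      refine hUc ?_
      haveI : IsCyclic (QuaternionGroup (2 ^ 0)) := by
        haveI : NeZero (2 ^ 0) := ⟨one_ne_zero⟩
        exact isCyclic_of_orderOf_eq_card (QuaternionGroup.xa 0) (by
          rw [QuaternionGroup.orderOf_xa, Nat.card_eq_fintype_card, QuaternionGroup.card, pow_zero,
            mul_one])
      exact isCyclic_of_surjective (eU.trans ej).symm.toMonoidHom (eU.trans ej).symm.surjective
    · rfl
    · exfalso
      exact haut ((H86.isPGroup_two_mulAut_quaternion (j + 2) (by omega)).of_equiv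
        (MulAut.congr (eU.trans ej)).symm)
  subst hj
  obtain ⟨e4⟩ := H34.AutQ8.aut_equiv
  let eU2 : U ≃* QuaternionGroup 2 := eU.trans ej
  let g : G ⧸ K →* Equiv.Perm (Fin 4) :=
    (e4.toMonoidHom.comp (MulAut.congr eU2).toMonoidHom).comp MulAut.conjNormal
  have hgC : ∀ s, g s = 1 → s ∈ Subgroup.centralizer (U : Set (G ⧸ K)) := by
    intro s hs
    have h1 : (MulAut.conjNormal s : MulAut U) = 1 := by
      refine (MulAut.congr eU2).injective (e4.injective ?_)
      rw [map_one, map_one]
      exact hs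
    rw [Subgroup.mem_centralizer_iff]
    intro u hu
    have h3 := congrArg Subtype.val (MulEquiv.congr_fun h1 ⟨u, hu⟩)
    rw [MulAut.conjNormal_apply] at h3
    exact (mul_inv_eq_iff_eq_mul.mp h3).symm
  have hCU : ∀ s ∈ Subgroup.centralizer (U : Set (G ⧸ K)), s ∈ U := fun s hs =>
    H10.centralizer_pCore_le (H10.isPSolvable_of_isSolvable (G := G ⧸ K) (p := 2)) hcore hs
  have hz : ∀ u : U, (u : G ⧸ K) ∈ Subgroup.centralizer (U : Set (G ⧸ K)) →
      eU2 u = QuaternionGroup.a 0 ∨ eU2 u = QuaternionGroup.a 2 := by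
    intro u hu
    have key : ∀ q : QuaternionGroup 2, (∀ r, r * q = q * r) →
        q = QuaternionGroup.a 0 ∨ q = QuaternionGroup.a 2 := by decide
    refine key _ fun r => ?_
    obtain ⟨v, rfl⟩ := eU2.surjective r
    rw [← map_mul, ← map_mul]
    exact congrArg eU2 (Subtype.ext (Subgroup.mem_centralizer_iff.mp hu v v.2))
  refine ⟨g.comp π, hZ _ fun S hS hS2 => ?_, ?_⟩
  · have hcenZ : ∀ s : S, π (s : G) ∈ U ∧ π (s : G) ∈ Subgroup.centralizer (U : Set (G ⧸ K)) :=
      fun s => ⟨hCU _ (hgC _ (hS s.2)), hgC _ (hS s.2)⟩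
    let φ : S →* QuaternionGroup 2 := eU2.toMonoidHom.comp
      ((π.comp S.subtype).codRestrict U fun s => (hcenZ s).1)
    have hφ : Function.Injective φ := fun a b h => hcopK S hS2 (Subtype.ext
      (congrArg (fun t : U => (t : G ⧸ K)) (eU2.injective h)))
    have hle : φ.range ≤ Subgroup.zpowers (QuaternionGroup.a 1) := by
      rintro _ ⟨s, rfl⟩
      rcases hz ⟨_, (hcenZ s).1⟩ (hcenZ s).2 with h | h
      · change eU2 _ ∈ _
        erw [h]
        exact Subgroup.one_mem _
      · change eU2 _ ∈ _
        erw [h]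
        exact ⟨2, by decide⟩
    haveI : IsCyclic φ.range := Subgroup.isCyclic_of_le hle
    exact isCyclic_of_injective φ.rangeRestrict fun a b h => hφ (congrArg Subtype.val h)
  -- the image
  have hrange : (g.comp π).range = g.range := by
    rw [MonoidHom.range_comp, MonoidHom.range_eq_top_of_surjective π (QuotientGroup.mk'_surjective K),
      ← MonoidHom.range_eq_map]
  rw [hrange]
  have hUimg : 4 ∣ Nat.card g.range := by
    have hcU : Nat.card U = 8 := by
      rw [Nat.card_congr eU2.toEquiv, Nat.card_eq_fintype_card, QuaternionGroup.card]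
    have hk : Nat.card (g.comp U.subtype).ker ≤ 2 := by
      let φ : (g.comp U.subtype).ker → ({QuaternionGroup.a 0, QuaternionGroup.a 2} : Finset (QuaternionGroup 2)) :=
        fun u => ⟨eU2 u.1, by
          rcases hz u.1 (hgC _ u.2) with h | h <;> simp [h]⟩
      have hφ : Function.Injective φ := fun a b h => Subtype.ext (eU2.injective (congrArg Subtype.val h))
      refine (Nat.card_le_card_of_injective φ hφ).trans ?_
      rw [Nat.card_eq_fintype_card, Fintype.card_coe]
      exact Finset.card_le_two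
    have h1 := (g.comp U.subtype).ker.card_mul_index
    rw [Subgroup.index_ker, hcU] at h1
    have h4 : 4 ∣ Nat.card (g.comp U.subtype).range := by
      have hpos : 0 < Nat.card (g.comp U.subtype).ker := Nat.card_pos
      interval_cases hh : Nat.card (g.comp U.subtype).ker <;> omega
    exact h4.trans (Subgroup.card_dvd_of_le (by rintro _ ⟨u, rfl⟩; exact ⟨_, rfl⟩))
  have h3 : 3 ∣ Nat.card g.range := by
    by_contra h3
    apply h2
    intro x
    have hd : Nat.card g.range ∣ 24 := card_perm_four ▸ Subgroup.card_subgroup_dvd_card _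
    have h8 : Nat.card g.range ∣ 8 := by
      have hc : (Nat.card g.range).Coprime 3 := (Nat.prime_three.coprime_iff_not_dvd.mpr h3).symm
      exact hc.dvd_of_dvd_mul_left (hd.trans (by norm_num))
    have hx : g (x ^ 8) = 1 := by
      rw [map_pow]
      have h9 := Subgroup.orderOf_dvd_natCard g.range (⟨x, rfl⟩ : g x ∈ g.range)
      exact orderOf_dvd_iff_pow_eq_one.mp (h9.trans h8)
    have hxU : x ^ 8 ∈ U := hCU _ (hgC _ hx)
    obtain ⟨m, hm⟩ := H1.isPGroup_pCore 2 (G ⧸ K) ⟨_, hxU⟩
    refine ⟨3 + m, ?_⟩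
    rw [pow_add, pow_mul]
    exact congrArg Subtype.val hm
  have h12 : 12 ∣ Nat.card g.range := by
    have := Nat.Coprime.mul_dvd_of_dvd_of_dvd (by norm_num : Nat.Coprime 4 3) hUimg h3
    simpa using this
  have hmul := g.range.card_mul_index
  rw [card_perm_four] at hmul
  obtain ⟨c, hc⟩ := h12
  rw [hc] at hmul
  have hidx : g.range.index = 1 ∨ g.range.index = 2 := by
    have h24 : c * g.range.index = 2 := by linarith
    exact (Nat.dvd_prime Nat.prime_two).mp ⟨c, by rw [← h24, mul_comm]⟩
  rcases hidx with h | h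
  · rw [Subgroup.index_eq_one.mp h]; exact le_top
  · rw [Equiv.Perm.eq_alternatingGroup_of_index_eq_two h]

theorem existsUnique_series (hcore : PerfectComplementIsSL25.{u}) (hG : H28.FCInt G) :
    ∃! N : Subgroup G, N.Normal ∧ IsZGroup N ∧ IsQuotientType N := by
  classical
  by_cases hsol : Group.IsSolvable G
  · rcases solvable_cases hG with hZ | ⟨n, ψ, hψ, hψk⟩ | ⟨f, hfZ, hfA⟩
    · haveI := hZ
      exact ⟨⊤, ⟨inferInstance, inferInstance, Or.inl rfl⟩,
        fun N hN => quotient_type_not_z hZ hN.2.2⟩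
    · haveI : Fact (Nat.Prime 2) := ⟨Nat.prime_two⟩
      haveI : NeZero (2 ^ (n + 1)) := ⟨by positivity⟩
      have h2 : 2 ∣ 2 ^ (n + 1) := dvd_pow_self 2 (Nat.succ_ne_zero n)
      let f := (quatToFourHom (2 ^ (n + 1)) h2).comp ψ
      have hq : Function.Surjective (quatToFourHom (2 ^ (n + 1)) h2) := by
        have hsc : Function.Surjective
            (ZMod.castHom (dvd_mul_right 2 (2 ^ (n + 1))) (ZMod 2)) := ZMod.ringHom_surjective _
        rintro (j | j)
        · obtain ⟨i, hi⟩ := hsc j
          exact ⟨QuaternionGroup.a i, congrArg DihedralGroup.r hi⟩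
        · obtain ⟨i, hi⟩ := hsc j
          exact ⟨QuaternionGroup.xa i, congrArg DihedralGroup.sr hi⟩
      have hf : Function.Surjective f := hq.comp hψ
      have hcard : Nat.card (QuaternionGroup (2 ^ (n + 1))) = 2 ^ (n + 3) := by
        rw [Nat.card_eq_fintype_card, QuaternionGroup.card, pow_add 2 n 3, pow_succ]; ring
      have hQp : IsPGroup 2 (QuaternionGroup (2 ^ (n + 1))) := IsPGroup.of_card hcard
      -- the kernel of `ψ` lies in every candidate
      have key : ∀ N : Subgroup G, N.Normal → IsQuotientType N → N ≠ ⊤ →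
          ∃ f' : G →* DihedralGroup 2, Function.Surjective f' ∧ f'.ker = N := by
        intro N hN hq hne
        have h24 : ∀ {X : Type} [Group X] [Finite X] (h : G →* X), Function.Surjective h →
            3 ∣ Nat.card X → (∀ M : Subgroup X, M.Normal → M ≠ ⊥ → 2 ∣ Nat.card M) → False := by
          intro X _ _ h hh h3 hX
          -- the odd kernel maps trivially
          have h1 : ψ.ker.map h = ⊥ := by
            by_contra hb
            have hd : Nat.card (ψ.ker.map h) ∣ Nat.card ψ.ker := Subgroup.card_map_dvd _ _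
            exact absurd (Nat.eq_one_of_dvd_coprimes (hψk.coprime_dvd_left hd)
              (hX _ ((inferInstance : ψ.ker.Normal).map h hh) hb) dvd_rfl) (by norm_num)
          have h2' : 3 ∣ Nat.card (QuaternionGroup (2 ^ (n + 1))) := by
            refine h3.trans ?_
            have hle : ψ.ker ≤ h.ker := (Subgroup.map_eq_bot_iff _).mp h1
            rw [← index_ker_of_surjective h hh, ← index_ker_of_surjective ψ hψ]
            exact Subgroup.index_dvd_of_le hle
          rw [hcard] at h2'
          exact absurd (Nat.Prime.dvd_of_dvd_pow Nat.prime_three h2') (by norm_num)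
        rcases hq with h | h | ⟨h, hh, -⟩ | ⟨h, hh, -⟩ | ⟨h, hh, -⟩ | ⟨h, hh, -⟩
        · exact absurd h hne
        · exact h
        · refine (h24 h hh (by rw [card_alt_four]; norm_num)
            (fun M hM hb => even_card_of_fours alt_four_fours M hb)).elim
        · refine (h24 h hh (by rw [card_perm_four]; norm_num)
            (fun M hM hb => even_card_of_fours perm_four_fours M hb)).elim
        · exfalso
          haveI := Group.isSolvable_of_surjective (f := h) hh
          haveI : Nontrivial (alternatingGroup (Fin 5)) :=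
            Finite.one_lt_card_iff_nontrivial.mp (by rw [card_alt_five]; norm_num)
          haveI := alternatingGroup.isSimpleGroup (α := Fin 5) (by simp)
          have hc := IsSimpleGroup.comm_iff_isSolvable.mpr
            (inferInstance : Group.IsSolvable (alternatingGroup (Fin 5)))
          have h1 := hc ⟨Equiv.swap 0 1 * Equiv.swap 1 2, by simp [Equiv.Perm.mem_alternatingGroup]⟩
            ⟨Equiv.swap 2 3 * Equiv.swap 3 4, by simp [Equiv.Perm.mem_alternatingGroup]⟩
          revert h1
          decide +kernel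
        · exfalso
          haveI := Group.isSolvable_of_surjective (f := h) hh
          exact Equiv.Perm.fin_5_not_solvable inferInstance
      have hsq : ∀ (f' : G →* DihedralGroup 2) (g : G), f' (g * g) = 1 := by
        intro f' g
        have : ∀ d : DihedralGroup 2, d * d = 1 := by decide
        rw [map_mul]; exact this _
      have hoddker : ∀ (f' : G →* DihedralGroup 2), ψ.ker ≤ f'.ker := by
        intro f' k hk
        have h1 : orderOf (f' k) ∣ Nat.card ψ.ker :=
          (orderOf_map_dvd f' k).trans (Subgroup.orderOf_dvd_natCard _ hk)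
        have h2' : orderOf (f' k) ∣ 2 := orderOf_dvd_of_pow_eq_one (by
          rw [pow_two, ← map_mul]; exact hsq f' k)
        exact orderOf_eq_one_iff.mp (Nat.eq_one_of_dvd_coprimes hψk h1 h2')
      let L : Subgroup G := (Subgroup.zpowers (QuaternionGroup.a 1 ^ 2)).comap ψ
      have hLle : ∀ (f' : G →* DihedralGroup 2), L ≤ f'.ker := by
        intro f' g hg
        obtain ⟨k, hk⟩ := Subgroup.mem_zpowers_iff.mp hg
        obtain ⟨g₀, hg₀⟩ := hψ (QuaternionGroup.a 1)
        have h1 : g * ((g₀ * g₀) ^ k)⁻¹ ∈ ψ.ker := by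
          rw [MonoidHom.mem_ker, map_mul, map_inv, map_zpow, map_mul, hg₀, ← pow_two, hk, mul_inv_cancel]
        have h2' := hoddker f' h1
        rwa [MonoidHom.mem_ker, map_mul, map_inv, map_zpow, hsq f', one_zpow, inv_one, mul_one] at h2'
      have hLidx : L.index = 4 := by
        rw [Subgroup.index_comap_of_surjective _ hψ]
        have h1 := (Subgroup.zpowers (QuaternionGroup.a 1 ^ 2 : QuaternionGroup (2 ^ (n + 1)))).card_mul_index
        rw [hcard, Nat.card_zpowers, orderOf_pow_of_dvd two_ne_zero (by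
          rw [QuaternionGroup.orderOf_a_one]; exact dvd_mul_right 2 _), QuaternionGroup.orderOf_a_one,
          Nat.mul_div_cancel_left _ two_pos] at h1
        refine Nat.eq_of_mul_eq_mul_left (show 0 < 2 ^ (n + 1) by positivity) (h1.trans ?_)
        rw [show (4 : ℕ) = 2 ^ 2 from rfl, ← pow_add]
      have hker : ∀ (f' : G →* DihedralGroup 2), Function.Surjective f' → f'.ker = L := by
        intro f' hf'
        refine le_antisymm (fun x hx => ?_) (hLle f')
        have h1 := index_ker_of_surjective f' hf'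
        rw [card_dihedral_two, ← hLidx, ← Subgroup.relIndex_mul_index (hLle f')] at h1
        have hne0 : f'.ker.index ≠ 0 := Subgroup.index_ne_zero_of_finite
        exact (Subgroup.relIndex_eq_one.mp ((mul_eq_right₀ hne0).mp h1.symm)) hx
      haveI hLn : L.Normal := hker f hf ▸ inferInstance
      refine ⟨L, ⟨hLn, ?_, Or.inr (Or.inl ⟨f, hf, hker f hf⟩)⟩, ?_⟩
      · refine ⟨fun p hp S => ?_⟩
        haveI := Fact.mk hp
        let e := (S : Subgroup L).equivMapOfInjective L.subtype L.subtype_injective
        have hSp : IsPGroup p ((S : Subgroup L).map L.subtype) := S.2.map _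
        haveI : IsCyclic ((S : Subgroup L).map L.subtype) := by
          by_cases hp2 : p = 2
          · subst hp2
            have hinj : Function.Injective (ψ.subgroupMap ((S : Subgroup L).map L.subtype)) := by
              rw [injective_iff_map_eq_one]
              intro s hs
              obtain ⟨k, hk⟩ := hSp s
              have h1 : orderOf (s : G) ∣ 2 ^ k := orderOf_dvd_of_pow_eq_one (congrArg Subtype.val hk)
              have h2' : (s : G) ∈ ψ.ker := congrArg Subtype.val hs
              refine Subtype.ext (orderOf_eq_one_iff.mp ?_)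
              exact Nat.eq_one_of_dvd_coprimes (hψk.symm.pow_left k) h1
                (Subgroup.orderOf_dvd_natCard _ h2')
            haveI : IsCyclic (((S : Subgroup L).map L.subtype).map ψ) :=
              Subgroup.isCyclic_of_le (Subgroup.map_le_iff_le_comap.mpr (Subgroup.map_subtype_le _))
            exact isCyclic_of_injective _ hinj
          · exact fcInt_isCyclic_sylow hG hp2 hSp
        exact isCyclic_of_surjective e.symm.toMonoidHom e.symm.surjective
      · rintro N ⟨hNn, hNZ, hNq⟩
        by_cases hne : N = ⊤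
        · exfalso
          subst hne
          haveI := hNZ
          have hZG : IsZGroup G := IsZGroup.of_surjective
            (f := (Subgroup.topEquiv (G := G)).toMonoidHom) Subgroup.topEquiv.surjective
          have h1 := quotient_type_not_z (N := L) hZG (Or.inr (Or.inl ⟨f, hf, hker f hf⟩))
          rw [h1, Subgroup.index_top] at hLidx
          omega
        obtain ⟨f', hf', rfl⟩ := key N hNn hNq hne
        exact hker f' hf'
    · haveI := hfZ
      by_cases htop : f.range = ⊤
      · have hf : Function.Surjective f := MonoidHom.range_eq_top.mp htop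
        refine ⟨f.ker, ⟨inferInstance, hfZ, Or.inr (Or.inr (Or.inr (Or.inl ⟨f, hf, rfl⟩)))⟩, ?_⟩
        rintro N ⟨hNn, hNZ, hNq⟩
        haveI := hNn; haveI := hNZ
        exact eq_ker_of_quotient f hf (fun M hM h => (normal_of_fours perm_four_fours M h).1)
          (by rw [card_perm_four]; norm_num) hNq (Or.inr hsol)
      · have heq : f.range = alternatingGroup (Fin 4) := by
          refine le_antisymm ?_ hfA
          by_contra hlt
          apply htop
          refine Subgroup.eq_top_of_card_eq _ ?_
          have h1 : Nat.card (alternatingGroup (Fin 4)) < Nat.card f.range :=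
            lt_of_le_of_ne (Subgroup.card_le_of_le hfA) fun e =>
              hlt (Subgroup.eq_of_le_of_card_ge hfA e.ge).ge
          have h2 := Subgroup.card_dvd_of_le hfA
          have h3 := Subgroup.card_subgroup_dvd_card f.range
          rw [card_alt_four] at h1 h2
          rw [card_perm_four] at h3 ⊢
          obtain ⟨c, hc⟩ := h2
          have h4 := Nat.le_of_dvd (by norm_num) h3
          omega
        let f₀ : G →* alternatingGroup (Fin 4) :=
          f.codRestrict _ fun x => heq ▸ (⟨x, rfl⟩ : f x ∈ f.range)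
        have hf₀ : Function.Surjective f₀ := by
          rintro ⟨y, hy⟩
          obtain ⟨x, hx⟩ := (heq ▸ hy : y ∈ f.range)
          exact ⟨x, Subtype.ext hx⟩
        have hk : f₀.ker = f.ker := MonoidHom.ker_codRestrict _ _ _
        refine ⟨f.ker, ⟨inferInstance, hfZ, Or.inr (Or.inr (Or.inl ⟨f₀, hf₀, hk⟩))⟩, ?_⟩
        rintro N ⟨hNn, hNZ, hNq⟩
        haveI := hNn; haveI := hNZ
        rw [← hk]
        exact eq_ker_of_quotient f₀ hf₀ (fun M hM h => (normal_of_fours alt_four_fours M h).1)
          (by rw [card_alt_four]) hNq (Or.inr hsol)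
  · obtain ⟨P, hPn, hperf, ⟨eP⟩⟩ := exists_perfect_sl25 hcore hG hsol
    haveI := hPn
    obtain ⟨f, M, -, hfA, hfZ, -⟩ := exists_hom_perm_five hG hperf eP
    haveI := hfZ
    by_cases htop : f.range = ⊤
    · have hf : Function.Surjective f := MonoidHom.range_eq_top.mp htop
      refine ⟨f.ker, ⟨inferInstance, hfZ, Or.inr (Or.inr (Or.inr (Or.inr (Or.inr ⟨f, hf, rfl⟩))))⟩, ?_⟩
      rintro N ⟨hNn, hNZ, hNq⟩
      haveI := hNn; haveI := hNZ
      exact eq_ker_of_quotient f hf (fun M hM h => (perm_five_normal M h).1)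
        (by rw [card_perm_five]; norm_num) hNq (Or.inl (by rw [card_perm_five]; norm_num))
    · have heq : f.range = alternatingGroup (Fin 5) := by
        refine le_antisymm ?_ hfA
        by_contra hlt
        apply htop
        refine Subgroup.eq_top_of_card_eq _ ?_
        have h1 : Nat.card (alternatingGroup (Fin 5)) < Nat.card f.range :=
          lt_of_le_of_ne (Subgroup.card_le_of_le hfA) fun e =>
            hlt (Subgroup.eq_of_le_of_card_ge hfA e.ge).ge
        have h2 := Subgroup.card_dvd_of_le hfA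
        have h3 := Subgroup.card_subgroup_dvd_card f.range
        rw [card_alt_five] at h1 h2
        rw [card_perm_five] at h3 ⊢
        obtain ⟨c, hc⟩ := h2
        have h4 := Nat.le_of_dvd (by norm_num) h3
        omega
      let f₀ : G →* alternatingGroup (Fin 5) :=
        f.codRestrict _ fun x => heq ▸ (⟨x, rfl⟩ : f x ∈ f.range)
      have hf₀ : Function.Surjective f₀ := by
        rintro ⟨y, hy⟩
        obtain ⟨x, hx⟩ := (heq ▸ hy : y ∈ f.range)
        exact ⟨x, Subtype.ext hx⟩
      have hk : f₀.ker = f.ker := MonoidHom.ker_codRestrict _ _ _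
      refine ⟨f.ker, ⟨inferInstance, hfZ,
        Or.inr (Or.inr (Or.inr (Or.inr (Or.inl ⟨f₀, hf₀, hk⟩))))⟩, ?_⟩
      rintro N ⟨hNn, hNZ, hNq⟩
      haveI := hNn; haveI := hNZ
      rw [← hk]
      exact eq_ker_of_quotient f₀ hf₀ (fun M hM h => (alt_five_normal M h).1)
        (by rw [card_alt_five]; norm_num) hNq (Or.inl (by rw [card_alt_five]))

end H2
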