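import Cfsg.Agent.H2.RegularSemilinear
import Cfsg.Agent.H2.ComplementSeries
import Cfsg.Agent.H5.SL23Section

/-!
Solvable linear groups regular on the non-zero vectors: subgroups of index two.
-/

set_option autoImplicit false
set_option linter.style.haveILetI false

namespace H2

open H58.RegLin

theorem quat_sq_of_central {n : ℕ} (h : n = 4) : ∀ q : QuaternionGroup n,
    (∀ r, q * r = r * q) → q * q = 1 := by
  subst h; decide +kernel

theorem alt_four_facts : ∀ x y : alternatingGroup (Fin 4), x * x = 1 → x ≠ 1 → y * y * y = 1 →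
    y ≠ 1 → y * x * y⁻¹ ≠ x ∧ y * y * x * (y * y)⁻¹ ≠ x := by
  decide +kernel

theorem alt_four_sq : ∀ x : alternatingGroup (Fin 4), x ^ 4 = 1 → x * x = 1 := by
  decide +kernel

theorem alt_four_count :
    (Finset.univ.filter fun x : alternatingGroup (Fin 4) => x * x = 1).card = 4 := by
  decide +kernel

variable {G : Type*} [Group G] [Finite G]

/-- A nontrivial map into a 2-group gives a normal subgroup of index two. -/
theorem exists_index_two_of_hom {M : Type*} [Group M] (φ : G →* M) (h2 : IsPGroup 2 φ.range)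
    (hne : φ.range ≠ ⊥) : ∃ N : Subgroup G, N.Normal ∧ N.index = 2 := by
  haveI : Fact (Nat.Prime 2) := ⟨Nat.prime_two⟩
  haveI : Finite φ.range := Finite.of_surjective _ φ.rangeRestrict_surjective
  obtain ⟨k, hk⟩ := h2.exists_card_eq
  obtain ⟨j, rfl⟩ : ∃ j, k = j + 1 := by
    refine ⟨k - 1, ?_⟩
    rcases k with _ | k
    · exfalso
      haveI := (Subgroup.nontrivial_iff_ne_bot _).mpr hne
      have := Finite.one_lt_card (α := φ.range)
      rw [hk, pow_zero] at this
      omega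
    · omega
  obtain ⟨K, hK⟩ := Sylow.exists_subgroup_card_pow_prime 2 (G := φ.range) (n := j)
    (by rw [hk]; exact pow_dvd_pow 2 (Nat.le_succ j))
  have hi : K.index = 2 := by
    have h := K.card_mul_index
    rw [hK, hk, pow_succ] at h
    exact Nat.eq_of_mul_eq_mul_left (pow_pos two_pos j) h
  haveI := Subgroup.normal_of_index_eq_two hi
  exact ⟨K.comap φ.rangeRestrict, inferInstance,
    by rw [Subgroup.index_comap_of_surjective _ φ.rangeRestrict_surjective, hi]⟩

/-- Without subgroups of index two, a map whose possible image order is a power of two is trivial. -/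
theorem range_eq_bot_of_no_index_two (hno : ¬ ∃ N : Subgroup G, N.Normal ∧ N.index = 2)
    {M : Type*} [Group M] [Finite M] (φ : G →* M) (k : ℕ)
    (hk : Nat.gcd (Nat.card G) (Nat.card M) ∣ 2 ^ k) : φ.range = ⊥ := by
  haveI : Fact (Nat.Prime 2) := ⟨Nat.prime_two⟩
  by_contra hne
  have h1 : Nat.card φ.range ∣ 2 ^ k :=
    (Nat.dvd_gcd (Subgroup.card_dvd_of_surjective _ φ.rangeRestrict_surjective)
      (Subgroup.card_subgroup_dvd_card _)).trans hk
  obtain ⟨i, -, hi⟩ := (Nat.dvd_prime_pow Nat.prime_two).mp h1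
  exact hno (exists_index_two_of_hom φ (IsPGroup.of_card hi) hne)

theorem central_of_cyclic_normal (hno : ¬ ∃ N : Subgroup G, N.Normal ∧ N.index = 2)
    (D : Subgroup G) [D.Normal] [IsCyclic D] (k : ℕ)
    (hk : Nat.gcd (Nat.card G) (Nat.totient (Nat.card D)) ∣ 2 ^ k) : D ≤ Subgroup.center G := by
  have h := range_eq_bot_of_no_index_two hno (MulAut.conjNormal : G →* MulAut D) k
    (by rw [IsCyclic.card_mulAut]; exact hk)
  intro d hd
  rw [Subgroup.mem_center_iff]
  intro g
  have h1 : (MulAut.conjNormal g : MulAut D) = 1 := by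
    have : (MulAut.conjNormal g : MulAut D) ∈ (MulAut.conjNormal : G →* MulAut D).range := ⟨g, rfl⟩
    rwa [h, Subgroup.mem_bot] at this
  have h2 := congrArg Subtype.val (MulEquiv.congr_fun h1 ⟨d, hd⟩)
  rw [MulAut.conjNormal_apply] at h2
  exact mul_inv_eq_iff_eq_mul.mp h2

/-- A Z-group of even order has a normal subgroup of index two. -/
theorem exists_index_two_of_zgroup [IsZGroup G] (heven : 2 ∣ Nat.card G) :
    ∃ N : Subgroup G, N.Normal ∧ N.index = 2 := by
  haveI : Fact (Nat.Prime 2) := ⟨Nat.prime_two⟩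
  have hmin : (Nat.card G).minFac = 2 := (Nat.minFac_eq_two_iff _).mpr heven
  obtain ⟨P⟩ : Nonempty (Sylow 2 G) := inferInstance
  have hPc : IsCyclic P := IsZGroup.isZGroup 2 Nat.prime_two P
  have hC := hPc.isComplement' hmin
  set T := MonoidHom.transferSylow P (hPc.normalizer_le_centralizer hmin) with hT
  refine exists_index_two_of_hom T (P.2.to_subgroup _) fun h => ?_
  have h1 : T.ker.index = 1 := by rw [Subgroup.index_ker, h, Subgroup.card_bot]
  have h2 := hC.symm.index_eq_card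
  rw [h1] at h2
  have h3 := P.dvd_card_of_dvd_card heven
  rw [← h2] at h3
  exact absurd (Nat.le_of_dvd one_pos h3) (by norm_num)

theorem not_isZGroup_of_alt_four (f₀ : G →* alternatingGroup (Fin 4))
    (hf₀ : Function.Surjective f₀) : ¬ IsZGroup G := fun hZ => by
  haveI := hZ
  haveI : Nontrivial (alternatingGroup (Fin 4)) :=
    Finite.one_lt_card_iff_nontrivial.mp (by rw [card_alt_four]; norm_num)
  exact not_isZGroup_of_normal_self (fun M _ h => (normal_of_fours alt_four_fours M h).1)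
    (IsZGroup.of_surjective (f := f₀) hf₀)

theorem isZGroup_of_cyclic_sylow (hG : H28.FCInt G) (P : Sylow 2 G) [IsCyclic P] : IsZGroup G := by
  haveI : Fact (Nat.Prime 2) := ⟨Nat.prime_two⟩
  refine ⟨fun p hp S => ?_⟩
  haveI := Fact.mk hp
  by_cases hp2 : p = 2
  · subst hp2
    exact isCyclic_of_surjective (P.equiv S).toMonoidHom (P.equiv S).surjective
  · exact fcInt_isCyclic_sylow hG hp2 S.2

/-- The Sylow 2-subgroup of a group with an `A₄` quotient. -/
theorem sylow_quaternion (hG : H28.FCInt G) (f₀ : G →* alternatingGroup (Fin 4))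
    (hf₀ : Function.Surjective f₀) (P : Sylow 2 G) :
    ∃ n : ℕ, 1 ≤ n ∧ Nonempty ((P : Subgroup G) ≃* QuaternionGroup (2 ^ n)) := by
  haveI : Fact (Nat.Prime 2) := ⟨Nat.prime_two⟩
  rcases fcInt_isCyclic_or_quaternion hG P.2 with hc | ⟨n, ⟨e⟩⟩
  · haveI := hc
    exact absurd (isZGroup_of_cyclic_sylow hG P) (not_isZGroup_of_alt_four f₀ hf₀)
  rcases n with _ | n
  · exfalso
    haveI : IsCyclic (QuaternionGroup (2 ^ 0)) := QuaternionGroup.quaternionGroup_one_isCyclic
    haveI : IsCyclic P := isCyclic_of_surjective e.symm e.symm.surjective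
    exact absurd (isZGroup_of_cyclic_sylow hG P) (not_isZGroup_of_alt_four f₀ hf₀)
  exact ⟨n + 1, Nat.succ_pos n, ⟨e⟩⟩

/-- Order 48 is impossible. -/
theorem not_forty_eight (hG : H28.FCInt G) (hno : ¬ ∃ N : Subgroup G, N.Normal ∧ N.index = 2)
    (f₀ : G →* alternatingGroup (Fin 4)) (hf₀ : Function.Surjective f₀) (hZ : IsZGroup f₀.ker) :
    Nat.card G ≠ 48 := by
  intro h48
  haveI : Fact (Nat.Prime 2) := ⟨Nat.prime_two⟩
  haveI := hZ
  have hN : Nat.card f₀.ker = 4 := by
    have h := f₀.ker.card_mul_index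
    rw [index_ker_of_surjective f₀ hf₀, card_alt_four, h48] at h
    omega
  have hNp : IsPGroup 2 f₀.ker := IsPGroup.of_card (n := 2) (by rw [hN]; norm_num)
  haveI : IsCyclic (⊤ : Subgroup f₀.ker) := (hNp.to_subgroup ⊤).isCyclic_of_isZGroup
  haveI : IsCyclic f₀.ker := isCyclic_of_surjective
    (Subgroup.topEquiv : _ ≃* f₀.ker) Subgroup.topEquiv.surjective
  have hcen := central_of_cyclic_normal hno f₀.ker 1 (by
    rw [hN]; exact (Nat.gcd_dvd_right _ _).trans (by decide))
  obtain ⟨P, hNP⟩ := hNp.exists_le_sylow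
  obtain ⟨n, hn, ⟨e⟩⟩ := sylow_quaternion hG f₀ hf₀ P
  haveI : NeZero (2 ^ n) := ⟨by positivity⟩
  have hP : Nat.card (P : Subgroup G) = 4 * 2 ^ n := by
    rw [Nat.card_congr e.toEquiv, Nat.card_eq_fintype_card, QuaternionGroup.card]
  have hn2 : n = 2 := by
    have h := (P : Subgroup G).card_mul_index
    rw [hP, h48] at h
    have hodd := P.not_dvd_index
    have : n < 4 := by
      by_contra hlt
      have h1 : 2 ^ 4 ≤ 2 ^ n := Nat.pow_le_pow_right (by norm_num) (Nat.le_of_not_lt hlt)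
      have h2 : 0 < (P : Subgroup G).index := Nat.pos_of_ne_zero Subgroup.index_ne_zero_of_finite
      nlinarith
    interval_cases n <;> omega
  obtain ⟨q, hq⟩ := IsCyclic.exists_generator (α := f₀.ker)
  have hq4 : orderOf q = 4 := by rw [orderOf_eq_card_of_forall_mem_zpowers hq, hN]
  have h1 := quat_sq_of_central (n := 2 ^ n) (by rw [hn2]; norm_num) (e ⟨q.1, hNP q.2⟩) fun r => by
    obtain ⟨s, rfl⟩ := e.surjective r
    rw [← map_mul, ← map_mul]
    exact congrArg e (Subtype.ext (Subgroup.mem_center_iff.mp (hcen q.2) s).symm)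
  rw [← map_mul, ← map_one e] at h1
  have h2 : q * q = 1 := Subtype.ext (congrArg (fun t : (P : Subgroup G) => (t : G)) (e.injective h1))
  have h3 : orderOf q ∣ 2 := orderOf_dvd_of_pow_eq_one (by rw [pow_two]; exact h2)
  rw [hq4] at h3
  exact absurd (Nat.le_of_dvd two_pos h3) (by norm_num)

/-- Order 24 gives `SL(2,3)`. -/
theorem sl23_of_twenty_four (hG : H28.FCInt G) (f₀ : G →* alternatingGroup (Fin 4))
    (hf₀ : Function.Surjective f₀) (h24 : Nat.card G = 24) :
    Nonempty (G ≃* Matrix.SpecialLinearGroup (Fin 2) (ZMod 3)) := by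
  classical
  haveI : Fact (Nat.Prime 2) := ⟨Nat.prime_two⟩
  haveI : Fact (Nat.Prime 3) := ⟨by norm_num⟩
  have hN : Nat.card f₀.ker = 2 := by
    have h := f₀.ker.card_mul_index
    rw [index_ker_of_surjective f₀ hf₀, card_alt_four, h24] at h
    omega
  have hNp : IsPGroup 2 f₀.ker := IsPGroup.of_card (n := 1) (by rw [hN, pow_one])
  obtain ⟨P, hNP⟩ := hNp.exists_le_sylow
  obtain ⟨n, hn, ⟨e0⟩⟩ := sylow_quaternion hG f₀ hf₀ P
  haveI : NeZero (2 ^ n) := ⟨by positivity⟩
  have hP0 : Nat.card (P : Subgroup G) = 4 * 2 ^ n := by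
    rw [Nat.card_congr e0.toEquiv, Nat.card_eq_fintype_card, QuaternionGroup.card]
  have hn1 : n = 1 := by
    have h := (P : Subgroup G).card_mul_index
    rw [hP0, h24] at h
    have hodd := P.not_dvd_index
    have : n < 3 := by
      by_contra hlt
      have h1 : 2 ^ 3 ≤ 2 ^ n := Nat.pow_le_pow_right (by norm_num) (Nat.le_of_not_lt hlt)
      have h2 : 0 < (P : Subgroup G).index := Nat.pos_of_ne_zero Subgroup.index_ne_zero_of_finite
      nlinarith
    interval_cases n <;> omega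
  subst hn1
  let e : (P : Subgroup G) ≃* QuaternionGroup 2 := e0
  have hPc : Nat.card (P : Subgroup G) = 8 := by rw [hP0]; norm_num
  -- the image of `P`
  have hPi : (P : Subgroup G).index = 3 := by
    have h := (P : Subgroup G).card_mul_index
    rw [hPc, h24] at h
    omega
  set W := (P : Subgroup G).map f₀ with hW
  have hWc : Nat.card W = 4 := by
    have h := W.card_mul_index
    rw [hW, Subgroup.index_map_eq _ hf₀ hNP, hPi, card_alt_four] at h
    rw [hW]; omega
  have hWeq : ∀ x : alternatingGroup (Fin 4), x ∈ W ↔ x * x = 1 := by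
    have hsub : (W : Set (alternatingGroup (Fin 4))) ⊆
        ↑(Finset.univ.filter fun x : alternatingGroup (Fin 4) => x * x = 1) := by
      intro x hx
      rw [Finset.coe_filter]
      refine ⟨Finset.mem_univ _, alt_four_sq x ?_⟩
      have h := orderOf_dvd_iff_pow_eq_one.mp (Subgroup.orderOf_dvd_natCard W hx)
      rwa [hWc] at h
    have heq := Set.eq_of_subset_of_ncard_le hsub (by
      rw [Set.ncard_coe_finset, alt_four_count, ← Nat.card_coe_set_eq]
      exact hWc.ge)
    intro x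
    rw [← SetLike.mem_coe, heq]
    simp
  have hPmem : ∀ g : G, g ∈ (P : Subgroup G) ↔ f₀ g * f₀ g = 1 := by
    intro g
    rw [← hWeq, hW]
    refine ⟨fun hg => ⟨g, hg, rfl⟩, ?_⟩
    rintro ⟨y, hy, hyg⟩
    have h1 : y⁻¹ * g ∈ (P : Subgroup G) := hNP (by rw [MonoidHom.mem_ker, map_mul, map_inv, hyg, inv_mul_cancel])
    simpa using (P : Subgroup G).mul_mem hy h1
  have hPn : ∀ g x : G, x ∈ (P : Subgroup G) → g * x * g⁻¹ ∈ (P : Subgroup G) := by
    intro g x hx
    rw [hPmem] at hx ⊢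
    rw [← map_mul, show g * x * g⁻¹ * (g * x * g⁻¹) = g * (x * x) * g⁻¹ by group, map_mul, map_mul,
      map_mul, hx, mul_one, ← map_mul, mul_inv_cancel, map_one]
  obtain ⟨t, ht⟩ := exists_prime_orderOf_dvd_card' (G := G) 3 (by rw [h24]; norm_num)
  have ht3 : t * t * t = 1 := by rw [← pow_three', ← ht, pow_orderOf_eq_one]
  have hft3 : f₀ t * f₀ t * f₀ t = 1 := by rw [← map_mul, ← map_mul, ht3, map_one]
  have hft : f₀ t ≠ 1 := by
    intro h
    have h1 := Subgroup.orderOf_dvd_natCard f₀.ker (MonoidHom.mem_ker.mpr h)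
    rw [ht, hN] at h1
    omega
  obtain ⟨x0, hx0, hx01⟩ : ∃ x : alternatingGroup (Fin 4), x * x = 1 ∧ x ≠ 1 := by decide +kernel
  obtain ⟨a, rfl⟩ := hf₀ x0
  have haP : a ∈ (P : Subgroup G) := (hPmem a).mpr hx0
  obtain ⟨z, hz⟩ := exists_prime_orderOf_dvd_card' (G := f₀.ker) 2 (by rw [hN])
  have hinv : ∀ y : (P : Subgroup G), y * y = 1 → f₀ y = 1 := by
    intro y hy
    by_contra hne
    have hy1 : y ≠ 1 := fun h => hne (by rw [h, OneMemClass.coe_one, map_one])
    have hz1 : (⟨z.1, hNP z.2⟩ : (P : Subgroup G)) ≠ 1 := fun h => by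
      have : z = 1 := Subtype.ext (congrArg (fun w : (P : Subgroup G) => (w : G)) h)
      rw [this, orderOf_one] at hz
      omega
    have hz2 : (⟨z.1, hNP z.2⟩ : (P : Subgroup G)) * ⟨z.1, hNP z.2⟩ = 1 := Subtype.ext (by
      have h := pow_orderOf_eq_one z
      rw [hz, pow_two] at h
      simpa using congrArg Subtype.val h)
    have h := H5.q8_involution (e y) (e ⟨z.1, hNP z.2⟩) (fun h => hy1 (e.injective (by rw [h, map_one])))
      (by rw [← map_mul, hy, map_one]) (fun h => hz1 (e.injective (by rw [h, map_one])))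
      (by rw [← map_mul, hz2, map_one])
    apply hne
    rw [congrArg (fun w : (P : Subgroup G) => (w : G)) (e.injective h)]
    exact z.2
  -- elements of `P` outside the kernel
  have hord : ∀ y : G, (hy : y ∈ (P : Subgroup G)) → f₀ y ≠ 1 → e ⟨y, hy⟩ * e ⟨y, hy⟩ ≠ 1 := by
    intro y hy hfy h
    rw [← map_mul, ← map_one e] at h
    exact hfy (hinv ⟨y, hy⟩ (e.injective h))
  set b := t * a * t⁻¹ with hb
  have hbP : b ∈ (P : Subgroup G) := hPn t a haP
  set c := t * b * t⁻¹ with hc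
  have hcP : c ∈ (P : Subgroup G) := hPn t b hbP
  obtain ⟨hy1, hy2⟩ := alt_four_facts (f₀ a) (f₀ t) hx0 hx01 hft3 hft
  have hfa : (f₀ a)⁻¹ = f₀ a := inv_eq_of_mul_eq_one_right hx0
  have hfb : f₀ b ≠ f₀ a := by rw [hb, map_mul, map_mul, map_inv]; exact hy1
  have hfc : f₀ c ≠ f₀ a := by
    rw [hc, hb, map_mul, map_mul, map_mul, map_mul, map_inv]
    intro h
    refine hy2 (Eq.trans ?_ h)
    group
  have hfcb : f₀ c ≠ f₀ b := fun h => hfb (by
    have h' : f₀ t * f₀ b * (f₀ t)⁻¹ = f₀ t * f₀ a * (f₀ t)⁻¹ := by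
      rw [← map_inv, ← map_mul, ← map_mul, ← map_mul, ← map_mul, ← hc, ← hb]; exact h
    exact mul_left_cancel (mul_right_cancel h'))
  have hfb1 : f₀ b ≠ 1 := by
    rw [hb, map_mul, map_mul, map_inv]
    exact fun h => hx01 (mul_eq_left.mp (mul_inv_eq_one.mp h))
  have hfc1 : f₀ c ≠ 1 := by
    rw [hc, map_mul, map_mul, map_inv]
    exact fun h => hfb1 (mul_eq_left.mp (mul_inv_eq_one.mp h))
  have hneq : ∀ u v : G, (hu : u ∈ (P : Subgroup G)) → (hv : v ∈ (P : Subgroup G)) → f₀ u ≠ f₀ v →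
      f₀ v * f₀ v = 1 → e ⟨u, hu⟩ ≠ e ⟨v, hv⟩ ∧ e ⟨u, hu⟩ ≠ (e ⟨v, hv⟩)⁻¹ := by
    intro u v hu hv huv hv2
    refine ⟨fun h => huv (congrArg (fun w : (P : Subgroup G) => f₀ (w : G)) (e.injective h)), fun h => huv ?_⟩
    rw [← map_inv] at h
    have h1 := congrArg (fun w : (P : Subgroup G) => f₀ (w : G)) (e.injective h)
    simpa [map_inv, inv_eq_of_mul_eq_one_right hv2] using h1
  have hfb2 : f₀ b * f₀ b = 1 := (hPmem b).mp hbP
  obtain ⟨hba, hba'⟩ := hneq b a hbP haP hfb hx0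
  obtain ⟨hca, hca'⟩ := hneq c a hcP haP hfc hx0
  obtain ⟨hcb, hcb'⟩ := hneq c b hcP hbP hfcb hfb2
  have hea := hord a haP hx01
  have heb := hord b hbP hfb1
  have hec := hord c hcP hfc1
  obtain ⟨hb2, hbab, htab⟩ := H5.q8_table (e ⟨a, haP⟩) (e ⟨b, hbP⟩) hea hba hba' heb
  obtain ⟨hc2, hcac, -⟩ := H5.q8_table (e ⟨a, haP⟩) (e ⟨c, hcP⟩) hea hca hca' hec
  have back : ∀ u v : (P : Subgroup G), e u = e v → (u : G) = v := fun u v h =>
    congrArg Subtype.val (e.injective h)
  have ha4 : orderOf a = 4 := by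
    rw [show (4 : ℕ) = 2 ^ (1 + 1) from rfl]
    refine orderOf_eq_prime_pow ?_ ?_
    · intro h
      rw [pow_one, pow_two] at h
      exact hea (by rw [← map_mul, ← map_one e]; exact congrArg e (Subtype.ext h))
    · have h := back (⟨a, haP⟩ ^ 4) 1 (by rw [map_pow, H5.q8_pow_four, map_one])
      simpa using h
  obtain ⟨t', ht', ht'P, hrel⟩ : ∃ t' : G, orderOf t' = 3 ∧
      (Subgroup.closure ({a, t'} : Set G) = Subgroup.closure ({a, t} : Set G)) ∧ H5.SL23Rel a t' := by
    have hnot : ∀ d : G, (hd : d ∈ (P : Subgroup G)) →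
        e ⟨d, hd⟩ * e ⟨a, haP⟩ * (e ⟨d, hd⟩)⁻¹ = (e ⟨a, haP⟩)⁻¹ → d ∉ Subgroup.zpowers a := by
      intro d hd hdd hmem
      obtain ⟨i, rfl⟩ := Subgroup.mem_zpowers_iff.mp hmem
      have h1 : e ⟨a ^ i, hd⟩ = e ⟨a, haP⟩ ^ i := by
        rw [← map_zpow]; exact congrArg e (Subtype.ext (by simp))
      rw [h1] at hdd
      rw [← zpow_add_one, ← zpow_neg, ← zpow_add, show i + 1 + -i = 1 by ring, zpow_one] at hdd
      exact hea (by nth_rewrite 2 [hdd]; exact mul_inv_cancel _)
    rcases htab (e ⟨c, hcP⟩) hec hca hca' hcb hcb' with h | h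
    · refine ⟨t, ht, rfl, ha4, ht, hnot b hbP hbab, ?_, ?_, ?_⟩
      · exact back (⟨b, hbP⟩ * ⟨b, hbP⟩) (⟨a, haP⟩ * ⟨a, haP⟩) (by rw [map_mul, map_mul]; exact hb2)
      · exact back (⟨b, hbP⟩ * ⟨a, haP⟩ * ⟨b, hbP⟩⁻¹) (⟨a, haP⟩⁻¹)
          (by rw [map_mul, map_mul, map_inv, map_inv]; exact hbab)
      · exact back ⟨c, hcP⟩ (⟨a, haP⟩ * ⟨b, hbP⟩) (by rw [map_mul]; exact h)
    · have htinv : t⁻¹ = t * t := inv_eq_of_mul_eq_one_left ht3
      have hc' : t⁻¹ * a * (t⁻¹)⁻¹ = c := by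
        rw [hc, hb, show t * (t * a * t⁻¹) * t⁻¹ = (t * t) * a * (t * t)⁻¹ by group, ← htinv]
      have haba : a * b * a = b := by
        simpa using back (⟨a, haP⟩ * ⟨b, hbP⟩ * ⟨a, haP⟩) ⟨b, hbP⟩
          (by rw [map_mul, map_mul]; exact (H5.q8_aba _ _ hea hb2 hbab).1)
      have hcba : c = b * a := by
        simpa using back ⟨c, hcP⟩ (⟨b, hbP⟩ * ⟨a, haP⟩) (by rw [map_mul]; exact h)
      refine ⟨t⁻¹, by rw [orderOf_inv, ht], ?_, ha4, by rw [orderOf_inv, ht], ?_, ?_, ?_, ?_⟩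
      · refine le_antisymm (Subgroup.closure_le _ |>.mpr ?_) (Subgroup.closure_le _ |>.mpr ?_)
        · rintro x (rfl | hx)
          · exact Subgroup.subset_closure (Or.inl rfl)
          · rw [Set.mem_singleton_iff.mp hx]
            exact Subgroup.inv_mem _ (Subgroup.subset_closure (Or.inr rfl))
        · rintro x (rfl | hx)
          · exact Subgroup.subset_closure (Or.inl rfl)
          · rw [Set.mem_singleton_iff.mp hx]
            simpa using Subgroup.inv_mem _ (Subgroup.subset_closure (Or.inr rfl) :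
              t⁻¹ ∈ Subgroup.closure ({a, t⁻¹} : Set G))
      · rw [hc']; exact hnot c hcP hcac
      · rw [hc']
        simpa using back (⟨c, hcP⟩ * ⟨c, hcP⟩) (⟨a, haP⟩ * ⟨a, haP⟩) (by rw [map_mul, map_mul]; exact hc2)
      · rw [hc']
        simpa using back (⟨c, hcP⟩ * ⟨a, haP⟩ * ⟨c, hcP⟩⁻¹) (⟨a, haP⟩⁻¹)
          (by rw [map_mul, map_mul, map_inv, map_inv]; exact hcac)
      · rw [hc']
        have h1 : t⁻¹ * c * (t⁻¹)⁻¹ = b := by rw [hc]; group
        rw [h1, hcba, ← mul_assoc]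
        exact haba.symm
  -- generation
  have hgen : Subgroup.closure ({a, t'} : Set G) = ⊤ := by
    obtain ⟨-, -, hb', hrel2, hrel3, -⟩ := hrel
    obtain ⟨eQ⟩ := H67.quat_iso (k := 2) a (t' * a * t'⁻¹) (by rw [hrel2, sq]) hrel3 (by rw [ha4]) hb'
    set S := Subgroup.closure ({a, t'} : Set G) with hS
    have htS : t' ∈ S := Subgroup.subset_closure (Or.inr rfl)
    have haS : a ∈ S := Subgroup.subset_closure (Or.inl rfl)
    have hQS : Subgroup.closure ({a, t' * a * t'⁻¹} : Set G) ≤ S := by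
      rw [Subgroup.closure_le]
      rintro x (rfl | rfl)
      · exact haS
      · exact S.mul_mem (S.mul_mem htS haS) (S.inv_mem htS)
    have h8 : 8 ∣ Nat.card S := by
      have := Subgroup.card_dvd_of_le hQS
      rwa [Nat.card_congr eQ.toEquiv, Nat.card_eq_fintype_card, QuaternionGroup.card] at this
    have h3' : 3 ∣ Nat.card S := ht' ▸ Subgroup.orderOf_dvd_natCard S htS
    refine Subgroup.eq_top_of_le_card _ ?_
    rw [h24]
    exact Nat.le_of_dvd Nat.card_pos
      (Nat.Coprime.mul_dvd_of_dvd_of_dvd (by norm_num : Nat.Coprime 8 3) h8 h3')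
  obtain ⟨a₂, t₂, hrel2, hgen2, hc24⟩ := H5.exists_sl23Rel
  exact H5.mulEquiv_of_sl23Rel hrel hrel2 h24 hc24 hgen hgen2

/-- A normal subgroup of prime order splits off. -/
theorem exists_split (hno : ¬ ∃ N : Subgroup G, N.Normal ∧ N.index = 2) (p : ℕ) [Fact p.Prime]
    (F : Subgroup G) [F.Normal] (hF : Nat.card F = p) (hcop : p.Coprime F.index) (k : ℕ)
    (hk : Nat.gcd (Nat.card G) (p - 1) ∣ 2 ^ k) :
    ∃ C : Subgroup G, Nat.card C = F.index ∧ F ≤ Subgroup.center G ∧ F ⊓ C = ⊥ ∧ F ⊔ C = ⊤ ∧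
      Nonempty (G ≃* C × Multiplicative (ZMod p)) := by
  haveI : IsCyclic F := isCyclic_of_prime_card hF
  have hcen := central_of_cyclic_normal hno F k (by rwa [hF, Nat.totient_prime Fact.out])
  obtain ⟨C, hC⟩ := Subgroup.exists_right_complement'_of_coprime (N := F) (by rwa [hF])
  let m : C × F →* G :=
    MonoidHom.noncommCoprod C.subtype F.subtype fun c f => Subgroup.mem_center_iff.mp (hcen f.2) c
  have hinj : Function.Injective m := by
    rw [injective_iff_map_eq_one]
    rintro ⟨c, f⟩ h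
    have h1 : (c : G) * f = 1 := h
    have hcF : (c : G) ∈ F := by rw [eq_inv_of_mul_eq_one_left h1]; exact F.inv_mem f.2
    have hc1 : (c : G) = 1 := Subgroup.disjoint_def.mp hC.disjoint hcF c.2
    rw [hc1, one_mul] at h1
    exact Prod.ext (Subtype.ext hc1) (Subtype.ext h1)
  have hbij : Function.Bijective m := by
    rw [Nat.bijective_iff_injective_and_card]
    exact ⟨hinj, by rw [Nat.card_prod, ← hC.card_mul_card]; ring⟩
  refine ⟨C, hC.symm.index_eq_card.symm, hcen, disjoint_iff.mp hC.disjoint, hC.sup_eq_top, ⟨?_⟩⟩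
  refine (MulEquiv.ofBijective m hbij).symm.trans (MulEquiv.prodCongr (MulEquiv.refl C) ?_)
  exact (mulEquivOfPrimeCardEq (p := p) (by simp [Nat.card_eq_fintype_card]) hF).symm

end H2
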