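import Cfsg.Agent.H2.FrobeniusBasic
import Mathlib.GroupTheory.FixedPointFree
import Mathlib.GroupTheory.Perm.Cycle.Type

/-!
Frobenius complements of even order.
-/

set_option autoImplicit false

namespace H2

open Pointwise

variable {G : Type*} [Group G] [Finite G]

omit [Finite G] in
theorem invol_conj {t g : G} (ht2 : t * t = 1) : (g * t * g⁻¹) * (g * t * g⁻¹) = 1 := by
  calc _ = g * (t * t) * g⁻¹ := by group
    _ = 1 := by rw [ht2]; group

omit [Finite G] in
theorem involution_inv {t : G} (ht2 : t * t = 1) : t⁻¹ = t := inv_eq_of_mul_eq_one_right ht2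

section

variable {H : Subgroup G} (hH : Cfsg.IsFrobeniusComplement H)
include hH

omit [Finite G] in
/-- A product of an involution of `H` and an involution outside `H` is in the kernel. -/
theorem involution_mul_mem_kernel {t u : G} (ht : t ∈ H) (ht1 : t ≠ 1) (ht2 : t * t = 1)
    (hu : u ∉ H) (hu2 : u * u = 1) : t * u ∈ Cfsg.frobeniusKernel H := by
  by_cases hz : t * u = 1
  · exact Or.inl hz
  refine Or.inr fun g hg => hu ?_
  have hz0 := mem_conj_smul.1 hg
  have hzne : g⁻¹ * (t * u) * g ≠ 1 := fun h => hz (by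
    simpa [mul_assoc] using congrArg (fun y => g * y * g⁻¹) h)
  have hc : (g⁻¹ * t * g) * (g⁻¹ * (t * u) * g) * (g⁻¹ * t * g)⁻¹
      = (g⁻¹ * (t * u) * g)⁻¹ := by
    simp only [mul_inv_rev, inv_inv, mul_assoc, involution_inv ht2, involution_inv hu2,
      mul_inv_cancel_left]
    rw [← mul_assoc t t, ht2, one_mul]
  have h1 : g⁻¹ * t * g ∈ H :=
    mem_of_conj_mem' hH hz0 hzne (by rw [hc]; exact H.inv_mem hz0)
  have hgH : g ∈ H := mem_of_conj_mem hH ht ht1 h1
  have h2 : t * u ∈ H := by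
    have := H.mul_mem (H.mul_mem hgH hz0) (H.inv_mem hgH)
    simpa [mul_assoc] using this
  have h3 := H.mul_mem ht h2
  rwa [← mul_assoc, ht2, one_mul] at h3

/-- Every nontrivial kernel element is `t * u` for a conjugate `u` of the involution `t`. -/
theorem kernel_eq_involution_mul {t : G} (ht : t ∈ H) (ht1 : t ≠ 1) (ht2 : t * t = 1)
    {x : G} (hx : x ∈ Cfsg.frobeniusKernel H) (hx1 : x ≠ 1) :
    ∃ g : G, x = t * (g * t * g⁻¹) := by
  let b : G ⧸ H := ((1 : G) : G ⧸ H)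
  have hout : ∀ c : G ⧸ H, c ≠ b → c.out * t * c.out⁻¹ ∉ H := by
    intro c hc hmem
    apply hc
    have h1 := mem_of_conj_mem' hH ht ht1 hmem
    rw [← c.out_eq']
    exact QuotientGroup.eq.2 (by simpa using H.inv_mem h1)
  let f : {c : G ⧸ H // c ≠ b} → ((Cfsg.frobeniusKernel H) \ {1} : Set G) := fun c =>
    ⟨t * (c.1.out * t * c.1.out⁻¹), involution_mul_mem_kernel hH ht ht1 ht2 (hout c.1 c.2)
      (invol_conj ht2), by
      intro h
      apply hout c.1 c.2
      have h' : c.1.out * t * c.1.out⁻¹ = t⁻¹ :=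
        eq_inv_of_mul_eq_one_right (Set.mem_singleton_iff.1 h)
      rw [h']; exact H.inv_mem ht⟩
  have hinj : Function.Injective f := by
    intro c₁ c₂ he
    have he' := congrArg Subtype.val he
    simp only [f, mul_right_inj] at he'
    have := conjParam_injective hH
      (a₁ := (c₁.1, ⟨⟨t, ht⟩, ht1⟩)) (a₂ := (c₂.1, ⟨⟨t, ht⟩, ht1⟩)) he'
    exact Subtype.ext (congrArg Prod.fst this)
  have hcard : Nat.card {c : G ⧸ H // c ≠ b}
      = Nat.card ((Cfsg.frobeniusKernel H) \ {1} : Set G) := by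
    rw [Nat.card_coe_set_eq (_ \ _), Set.ncard_diff_singleton_of_mem
      (show (1 : G) ∈ Cfsg.frobeniusKernel H from Or.inl rfl),
      ← Nat.card_coe_set_eq, card_frobeniusKernel hH]
    change Nat.card ({b}ᶜ : Set (G ⧸ H)) = _
    have h := Set.ncard_add_ncard_compl ({b} : Set (G ⧸ H))
    rw [Set.ncard_singleton, ← Nat.card_coe_set_eq] at h
    rw [Subgroup.index]; omega
  obtain ⟨c, hc⟩ := ((Nat.bijective_iff_injective_and_card f).2 ⟨hinj, hcard⟩).2 ⟨x, hx, hx1⟩
  exact ⟨c.1.out, (congrArg Subtype.val hc).symm⟩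

omit hH [Finite G] in
theorem conj_mem_kernel {x : G} (hx : x ∈ Cfsg.frobeniusKernel H) (g : G) :
    g * x * g⁻¹ ∈ Cfsg.frobeniusKernel H := by
  rcases hx with rfl | hx
  · exact Or.inl (by simp)
  · refine Or.inr fun k hk => hx (g⁻¹ * k) ?_
    rw [mem_conj_smul] at hk ⊢
    simpa [mul_assoc] using hk

theorem involution_conj_eq_inv {t : G} (ht : t ∈ H) (ht1 : t ≠ 1) (ht2 : t * t = 1)
    {x : G} (hx : x ∈ Cfsg.frobeniusKernel H) (g : G) :
    (g * t * g⁻¹) * x * (g * t * g⁻¹) = x⁻¹ := by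
  have key : ∀ y ∈ Cfsg.frobeniusKernel H, t * y * t = y⁻¹ := by
    intro y hy
    by_cases hy1 : y = 1
    · simp [hy1, ht2]
    obtain ⟨k, rfl⟩ := kernel_eq_involution_mul hH ht ht1 ht2 hy hy1
    rw [mul_inv_rev, involution_inv ht2,
      involution_inv (invol_conj ht2),
      ← mul_assoc t t, ht2, one_mul]
  have h1 := key _ (conj_mem_kernel hx g⁻¹)
  calc (g * t * g⁻¹) * x * (g * t * g⁻¹)
      = g * (t * (g⁻¹ * x * g⁻¹⁻¹) * t) * g⁻¹ := by simp [mul_assoc]
    _ = g * (g⁻¹ * x * g⁻¹⁻¹)⁻¹ * g⁻¹ := by rw [h1]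
    _ = x⁻¹ := by group

theorem kernel_commute {t : G} (ht : t ∈ H) (ht1 : t ≠ 1) (ht2 : t * t = 1)
    {x y : G} (hx : x ∈ Cfsg.frobeniusKernel H) (hy : y ∈ Cfsg.frobeniusKernel H) :
    x * y = y * x := by
  by_cases hx1 : x = 1
  · simp [hx1]
  obtain ⟨k, rfl⟩ := kernel_eq_involution_mul hH ht ht1 ht2 hx hx1
  generalize hu : k * t * k⁻¹ = u
  have hu2 : u * u = 1 := by rw [← hu]; exact invol_conj ht2
  have huy : u * y * u = y⁻¹ := by rw [← hu]; exact involution_conj_eq_inv hH ht ht1 ht2 hy k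
  have hty : t * y * t = y⁻¹ := by
    simpa using involution_conj_eq_inv hH ht ht1 ht2 hy 1
  have huy' : u * y = y⁻¹ * u := by
    calc u * y = u * y * (u * u) := by rw [hu2, mul_one]
      _ = (u * y * u) * u := by simp [mul_assoc]
      _ = _ := by rw [huy]
  have hty' : t * y⁻¹ = y * t := by
    rw [← hty]
    simp only [← mul_assoc, ht2, one_mul]
  calc t * u * y = t * (u * y) := mul_assoc _ _ _
    _ = t * y⁻¹ * u := by rw [huy', mul_assoc]
    _ = y * (t * u) := by rw [hty', mul_assoc]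

theorem kernel_mul_mem {t : G} (ht : t ∈ H) (ht1 : t ≠ 1) (ht2 : t * t = 1)
    {x y : G} (hx : x ∈ Cfsg.frobeniusKernel H) (hy : y ∈ Cfsg.frobeniusKernel H) :
    x * y ∈ Cfsg.frobeniusKernel H := by
  by_cases hx1 : x = 1
  · simpa [hx1] using hy
  by_cases hxy : x * y = 1
  · exact Or.inl hxy
  refine Or.inr fun g hg => ?_
  have hc : x * (x * y) = (x * y) * x := by
    conv_lhs => rw [kernel_commute hH ht ht1 ht2 hx hy]
    rw [← mul_assoc]
  have h0 := mem_conj_smul.1 hg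
  have h1 : g⁻¹ * x * g ∈ H := by
    refine mem_of_commute hH h0 (fun h => hxy ?_) ?_
    · simpa [mul_assoc] using congrArg (fun z => g * z * g⁻¹) h
    · calc (g⁻¹ * x * g) * (g⁻¹ * (x * y) * g) = g⁻¹ * (x * (x * y)) * g := by group
        _ = _ := by rw [hc]; group
  rcases hx with hx | hx
  · exact hx1 hx
  · exact hx g (mem_conj_smul.2 h1)

end

/-- Frobenius complements of even order, in the semidirect setting. -/
theorem even_complement {K H : Subgroup G} [K.Normal] (hK : K ≠ ⊥)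
    (hfpf : ∀ h ∈ H, h ≠ 1 → K ⊓ Subgroup.centralizer {h} = ⊥)
    (heven : 2 ∣ Nat.card H) :
    (∃ s ∈ H, orderOf s = 2 ∧ (∀ t ∈ H, orderOf t = 2 → t = s) ∧ ∀ k ∈ K, s * k * s⁻¹ = k⁻¹) ∧
      IsMulCommutative K := by
  have fpf : ∀ t ∈ H, t ≠ 1 →
      MonoidHom.FixedPointFree (MulAut.conjNormal t : MulAut K) := by
    intro t ht ht1 k hk
    have hk' : t * (k : G) * t⁻¹ = k := by
      simpa [MulAut.conjNormal_apply] using congrArg Subtype.val hk
    have : (k : G) ∈ K ⊓ Subgroup.centralizer {t} :=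
      ⟨k.2, Subgroup.mem_centralizer_singleton_iff.2 (mul_inv_eq_iff_eq_mul.1 hk').symm⟩
    rw [hfpf t ht ht1] at this
    exact Subtype.ext (Subgroup.mem_bot.1 this)
  have invol : ∀ t : G, t * t = 1 →
      Function.Involutive (MulAut.conjNormal t : MulAut K) := by
    intro t ht2 k
    apply Subtype.ext
    simp only [MulAut.conjNormal_apply, involution_inv ht2, mul_assoc, ht2, mul_one]
    rw [← mul_assoc, ht2, one_mul]
  have inverts : ∀ t ∈ H, orderOf t = 2 → ∀ k ∈ K, t * k * t⁻¹ = k⁻¹ := by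
    intro t ht h2 k hk
    have ht1 : t ≠ 1 := by rintro rfl; simp at h2
    have ht2 : t * t = 1 := by rw [← sq, ← h2, pow_orderOf_eq_one]
    have := congrFun ((fpf t ht ht1).coe_eq_inv_of_involutive (invol t ht2)) ⟨k, hk⟩
    simpa [MulAut.conjNormal_apply] using congrArg Subtype.val this
  obtain ⟨s, hs2⟩ := exists_prime_orderOf_dvd_card' (G := H) 2 heven
  rw [← Subgroup.orderOf_coe] at hs2
  have hs1 : (s : G) ≠ 1 := by intro h; simp [h] at hs2
  have hss : (s : G) * s = 1 := by rw [← sq, ← hs2, pow_orderOf_eq_one]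
  refine ⟨⟨s, s.2, hs2, ?_, inverts s s.2 hs2⟩, ?_⟩
  · intro t ht ht2
    by_contra hne
    apply hK
    rw [eq_bot_iff]
    intro k hk
    have hne' : t⁻¹ * (s : G) ≠ 1 := fun h => hne (inv_mul_eq_one.1 h)
    have h2 : t * k * t⁻¹ = s * k * (s : G)⁻¹ := by
      rw [inverts t ht ht2 k hk, inverts s s.2 hs2 k hk]
    have : k ∈ K ⊓ Subgroup.centralizer {t⁻¹ * (s : G)} := by
      refine ⟨hk, Subgroup.mem_centralizer_singleton_iff.2 ?_⟩
      calc k * (t⁻¹ * (s : G)) = t⁻¹ * (t * k * t⁻¹) * s := by group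
        _ = t⁻¹ * (s * k * (s : G)⁻¹) * s := by rw [h2]
        _ = t⁻¹ * s * k := by group
    rw [hfpf _ (H.mul_mem (H.inv_mem ht) s.2) hne'] at this
    exact this
  · exact ⟨⟨(fpf s s.2 hs1).commute_all_of_involutive (invol s hss)⟩⟩

end H2
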