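import Cfsg.Agent.H2.RegularSolvable

/-!
Solvable linear groups regular on the non-zero vectors: the main theorem.
-/

set_option autoImplicit false
set_option linter.style.haveILetI false

namespace H2

open H58.RegLin
open scoped commutatorElement

variable {p : ℕ} [Fact p.Prime] {V : Type*} [AddCommGroup V] [Module (ZMod p) V] [Finite V]
  [Nontrivial V]

theorem fcInt_of_reg {H : Subgroup (V ≃ₗ[ZMod p] V)} (hreg : Reg H) : H28.FCInt H := by
  haveI := H58.RegLin.finite_group (H := H)
  let R : H →* AddMonoid.End V :=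
    { toFun := fun h => ((h : V ≃ₗ[ZMod p] V) : V →ₗ[ZMod p] V).toAddMonoidHom
      map_one' := rfl
      map_mul' := fun _ _ => rfl }
  obtain ⟨f, hf, hsol⟩ := H28.exists_sol_of_action (ZMod p) R fun g hg v hv => by
    by_contra hne
    exact hg (fpf hreg hne hv)
  refine H28.fcInt_of_sol_charP (fun hd => ?_) hf hsol
  have h1 := card_add_one hreg
  obtain ⟨d, hd'⟩ : ∃ d, Nat.card V = p ^ d := ⟨_, by rw [Module.natCard_eq_pow_finrank (K := ZMod p), Nat.card_zmod]⟩
  have hd0 : d ≠ 0 := fun h => by
    have := Finite.one_lt_card (α := V)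
    rw [hd', h, pow_zero] at this
    omega
  have h2 : p ∣ Nat.card H + 1 := by rw [h1, hd']; exact dvd_pow_self p hd0
  exact (Fact.out : p.Prime).not_dvd_one ((Nat.dvd_add_right hd).mp h2)

/-- An irreducible cyclic normal subgroup makes the derived subgroup lie in a cyclic one. -/
theorem derived_le_cyclic_of_irred {H : Subgroup (V ≃ₗ[ZMod p] V)} (hreg : Reg H) (A : Subgroup H)
    [A.Normal] [IsCyclic A]
    (hirr : ∀ W : Submodule (ZMod p) V, (∀ a ∈ A, ∀ w ∈ W, ((a : H) : V ≃ₗ[ZMod p] V) w ∈ W) →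
      W = ⊥ ∨ W = ⊤) :
    IsCyclic (Subgroup.centralizer (A : Set H)) ∧
      commutator H ≤ Subgroup.centralizer (A : Set H) := by
  haveI := H58.RegLin.finite_group (H := H)
  constructor
  · refine abCyc hreg _ ⟨⟨fun c d => ?_⟩⟩
    -- the commutant of the irreducible abelian group is commutative
    let R : A →* Module.End (ZMod p) V := (toEnd H).comp A.subtype
    have hirr' : ∀ W : Submodule (ZMod p) V, (∀ a, ∀ w ∈ W, R a w ∈ W) → W = ⊥ ∨ W = ⊤ :=
      fun W hW => hirr W fun a ha w hw => hW ⟨a, ha⟩ w hw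
    set K := Algebra.adjoin (ZMod p) (Set.range R) with hK
    have hRc : ∀ a b : A, R a * R b = R b * R a := by
      intro a b
      letI := IsCyclic.commGroup (α := A)
      rw [← map_mul, ← map_mul, mul_comm]
    have hcommK : ∀ f ∈ K, ∀ a, f * R a = R a * f := fun f hf a =>
      (Algebra.commute_of_mem_adjoin_of_forall_mem_commute hf (by
        rintro _ ⟨b, rfl⟩
        exact hRc a b)).symm
    obtain ⟨v, hv⟩ := exists_ne (0 : V)
    have hin : ∀ x ∈ Subgroup.centralizer (A : Set H), toEnd H x ∈ K := by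
      intro x hx
      let W : Submodule (ZMod p) V := Submodule.map (LinearMap.applyₗ v) (Subalgebra.toSubmodule K)
      rcases hirr' W (fun a w hw => by
        obtain ⟨k, hk, rfl⟩ := hw
        exact ⟨R a * k, K.mul_mem (Algebra.subset_adjoin ⟨a, rfl⟩) hk, rfl⟩) with h | h
      · exfalso
        have : v ∈ W := ⟨1, K.one_mem, rfl⟩
        rw [h, Submodule.mem_bot] at this
        exact hv this
      · obtain ⟨k, hk, hkw⟩ : toEnd H x v ∈ W := h ▸ Submodule.mem_top
        by_contra hne
        have hne' : toEnd H x - k ≠ 0 := fun e => hne ((sub_eq_zero.mp e) ▸ hk)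
        have hxc : ∀ a : A, toEnd H x * R a = R a * toEnd H x := fun a => by
          change toEnd H x * toEnd H (a : H) = toEnd H (a : H) * toEnd H x
          rw [← map_mul, ← map_mul, Subgroup.mem_centralizer_iff.mp hx a a.2]
        have h1 := H60.injective_of_commute_irred R hirr'
          (f := toEnd H x - k) (fun a => by rw [sub_mul, mul_sub, hxc a, hcommK k hk a]) hne'
        refine hv (h1 ?_)
        rw [map_zero, LinearMap.sub_apply, sub_eq_zero]
        exact hkw.symm
    refine Subtype.ext (Subtype.ext (LinearEquiv.toLinearMap_injective ?_))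
    haveI : IsMulCommutative K := Algebra.isMulCommutative_adjoin _ (by
      rintro _ ⟨a, rfl⟩ _ ⟨b, rfl⟩
      exact hRc a b)
    have h := congrArg Subtype.val (IsMulCommutative.is_comm.comm
      (⟨_, hin _ c.2⟩ : K) ⟨_, hin _ d.2⟩)
    exact h
  · rw [commutator_def, Subgroup.commutator_le]
    intro g _ h _
    rw [Subgroup.mem_centralizer_iff]
    intro a ha
    obtain ⟨a₀, ha₀⟩ := IsCyclic.exists_generator (α := A)
    letI : CommGroup (ZMod (Nat.card A))ˣ := inferInstance
    let φ : H →* MulAut A := MulAut.conjNormal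
    have hcomm : φ g * φ h = φ h * φ g := by
      apply (IsCyclic.mulAutMulEquiv A).injective
      rw [map_mul, map_mul, mul_comm]
    have h1 : φ ⁅g, h⁆ = 1 := by
      rw [map_commutatorElement, commutatorElement_def, hcomm, mul_inv_cancel_right, mul_inv_cancel]
    have h2 := congrArg Subtype.val (MulEquiv.congr_fun h1 ⟨a, ha⟩)
    rw [MulAut.conjNormal_apply] at h2
    exact (mul_inv_eq_iff_eq_mul.mp h2).symm

theorem semilinear_or_degrees {H : Subgroup (V ≃ₗ[ZMod p] V)} (hreg : Reg H)
    (hsol : Group.IsSolvable H) :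
    ((∃ (F : Type) (_ : Field F) (_ : Fintype F) (e : V ≃+ F),
        ∀ g : H, ∃ (a : F) (σ : F ≃+* F), ∀ v : V,
          e ((g : V ≃ₗ[ZMod p] V) v) = a * σ (e v)) ∧
      ∃ C : Subgroup H, IsCyclic C ∧ commutator H ≤ C) ∨
    Nat.card V ∈ ({25, 49, 121, 529} : Set ℕ) := by
  haveI := H58.RegLin.finite_group (H := H)
  by_cases hI : NoCyc H
  · right
    rcases solvable_degrees hreg hI hsol with h | h | h | h <;> simp [h]
  · left
    unfold NoCyc at hI
    push Not at hI
    obtain ⟨A, hAn, hAc, hA⟩ := hI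
    haveI := hAn
    haveI := hAc
    have hirr : ∀ W : Submodule (ZMod p) V,
        (∀ a ∈ A, ∀ w ∈ W, ((a : H) : V ≃ₗ[ZMod p] V) w ∈ W) → W = ⊥ ∨ W = ⊤ := by
      intro W hW
      by_contra hne
      push Not at hne
      obtain ⟨a, ha, w, hw, hout⟩ := hA W hne.1 hne.2
      exact hout (hW a ha w hw)
    refine ⟨?_, _, derived_le_cyclic_of_irred hreg A hirr⟩
    refine semilinear_of_irred H.subtype A (fun a ha b hb => ?_) hirr
    letI := IsCyclic.commGroup (α := A)
    exact congrArg Subtype.val (mul_comm (⟨a, ha⟩ : A) ⟨b, hb⟩)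

theorem index_two_or_exceptional {H : Subgroup (V ≃ₗ[ZMod p] V)} (hreg : Reg H)
    (hsol : Group.IsSolvable H) (hp2 : p ≠ 2) :
    (∃ N : Subgroup H, N.Normal ∧ N.index = 2) ∨
      (Nat.card V = 25 ∧ Nonempty (H ≃* Matrix.SpecialLinearGroup (Fin 2) (ZMod 3))) ∨
      (Nat.card V = 121 ∧
        Nonempty (H ≃* Matrix.SpecialLinearGroup (Fin 2) (ZMod 3) × Multiplicative (ZMod 5))) := by
  classical
  haveI := H58.RegLin.finite_group (H := H)
  haveI := hsol
  by_cases hno : ∃ N : Subgroup H, N.Normal ∧ N.index = 2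
  · exact Or.inl hno
  right
  have hG := fcInt_of_reg hreg
  have hcard := card_add_one hreg
  have heven : 2 ∣ Nat.card H := by
    obtain ⟨d, hd⟩ : ∃ d, Nat.card V = p ^ d := ⟨_, by rw [Module.natCard_eq_pow_finrank (K := ZMod p), Nat.card_zmod]⟩
    have hodd : Odd (Nat.card V) := hd ▸ ((Fact.out : p.Prime).odd_of_ne_two hp2).pow
    rw [← hcard, Nat.odd_add_one, Nat.not_odd_iff_even] at hodd
    exact even_iff_two_dvd.mp hodd
  haveI : Fact (Nat.Prime 2) := ⟨Nat.prime_two⟩
  rcases solvable_cases hG with hZ | ⟨n, ψ, hψ, -⟩ | ⟨f, hfZ, hfA⟩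
  · haveI := hZ
    exact absurd (exists_index_two_of_zgroup heven) hno
  · exfalso
    haveI : NeZero (2 ^ (n + 1)) := ⟨by positivity⟩
    have hc : Nat.card (QuaternionGroup (2 ^ (n + 1))) = 2 ^ (n + 3) := by
      rw [Nat.card_eq_fintype_card, QuaternionGroup.card, pow_add 2 n 3, pow_succ]; ring
    refine hno (exists_index_two_of_hom ψ ((IsPGroup.of_card hc).to_subgroup _) fun h => ?_)
    rw [MonoidHom.range_eq_top_of_surjective ψ hψ] at h
    have h1 := congrArg (fun K : Subgroup _ => Nat.card K) h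
    simp only [Subgroup.card_top, Subgroup.card_bot] at h1
    rw [hc] at h1
    exact absurd h1 (Nat.one_lt_two_pow (by omega)).ne'
  haveI := hfZ
  by_cases htop : f.range = ⊤
  · exfalso
    refine hno ⟨(alternatingGroup (Fin 4)).comap f, inferInstance, ?_⟩
    rw [Subgroup.index_comap_of_surjective _ (MonoidHom.range_eq_top.mp htop),
      alternatingGroup.index_eq_two]
  have heq : f.range = alternatingGroup (Fin 4) := by
    refine le_antisymm ?_ hfA
    by_contra hlt
    apply htop
    refine Subgroup.eq_top_of_card_eq _ ?_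
    have h1 : Nat.card (alternatingGroup (Fin 4)) < Nat.card f.range :=
      lt_of_le_of_ne (Subgroup.card_le_of_le hfA) fun e =>
        hlt (Subgroup.eq_of_le_of_card_ge hfA e.ge).ge
    have h2 := Subgroup.card_dvd_of_le hfA
    have h3 := Subgroup.card_subgroup_dvd_card f.range
    rw [card_alt_four] at h1 h2
    rw [card_perm_four] at h3 ⊢
    obtain ⟨c, hc⟩ := h2
    have h4 := Nat.le_of_dvd (by norm_num) h3
    omega
  let f₀ : H →* alternatingGroup (Fin 4) :=
    f.codRestrict _ fun x => heq ▸ (⟨x, rfl⟩ : f x ∈ f.range)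
  have hf₀ : Function.Surjective f₀ := by
    rintro ⟨y, hy⟩
    obtain ⟨x, hx⟩ := (heq ▸ hy : y ∈ f.range)
    exact ⟨x, Subtype.ext hx⟩
  have hk : f₀.ker = f.ker := MonoidHom.ker_codRestrict _ _ _
  haveI : IsZGroup f₀.ker := hk ▸ hfZ
  -- the group is not semilinear
  have hdeg : Nat.card V ∈ ({25, 49, 121, 529} : Set ℕ) := by
    rcases semilinear_or_degrees hreg hsol with ⟨-, C, hC, hCle⟩ | h
    · exfalso
      haveI := hC
      have hle : commutator (alternatingGroup (Fin 4)) ≤ C.map f₀ := by
        rw [commutator_def, Subgroup.commutator_le]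
        intro x _ y _
        obtain ⟨x, rfl⟩ := hf₀ x
        obtain ⟨y, rfl⟩ := hf₀ y
        exact ⟨⁅x, y⁆, hCle (Subgroup.commutator_mem_commutator (Subgroup.mem_top x) (Subgroup.mem_top y)),
          map_commutatorElement f₀ x y⟩
      haveI : IsCyclic (C.map f₀) :=
        isCyclic_of_surjective (f₀.subgroupMap C) (f₀.subgroupMap_surjective C)
      haveI : IsCyclic (commutator (alternatingGroup (Fin 4))) := Subgroup.isCyclic_of_le hle
      have hne : commutator (alternatingGroup (Fin 4)) ≠ ⊥ := by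
        intro h
        have h1 : ∀ x y : alternatingGroup (Fin 4), x * y = y * x := fun x y => by
          have := Subgroup.commutator_mem_commutator (Subgroup.mem_top x) (Subgroup.mem_top y)
          rw [← commutator_def, h, Subgroup.mem_bot] at this
          exact commutatorElement_eq_one_iff_mul_comm.mp this
        revert h1
        decide +kernel
      exact (normal_of_fours alt_four_fours _ hne).1 inferInstance
    · exact h
  have hN : Nat.card f₀.ker * 12 = Nat.card H := by
    rw [← card_alt_four, ← index_ker_of_surjective f₀ hf₀, Subgroup.card_mul_index]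
  -- splitting off a normal subgroup of prime order
  have hsplit : ∀ q : ℕ, q.Prime → ∀ m : ℕ, Nat.card f₀.ker = q * m → m < q →
      ∀ k, Nat.gcd (Nat.card H) (q - 1) ∣ 2 ^ k → q.Coprime (12 * m) →
      ∃ C : Subgroup H, Nat.card C = 12 * m ∧ Function.Surjective (f₀.comp C.subtype) ∧
        (¬ ∃ N : Subgroup C, N.Normal ∧ N.index = 2) ∧
        Nonempty (H ≃* C × Multiplicative (ZMod q)) := by
    intro q hq m hm hmq k hk hcop
    haveI := Fact.mk hq
    obtain ⟨S⟩ : Nonempty (Sylow q f₀.ker) := inferInstance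
    have hm0 : 0 < m := by
      rcases Nat.eq_zero_or_pos m with h | h
      · rw [h, mul_zero] at hm; exact absurd hm Nat.card_pos.ne'
      · exact h
    have hqm : ¬ q ∣ m := fun h => absurd (Nat.le_of_dvd hm0 h) (not_le.mpr hmq)
    have hScard : Nat.card (S : Subgroup f₀.ker) = q := by
      rw [S.card_eq_multiplicity, hm, Nat.factorization_mul hq.ne_zero hm0.ne', Finsupp.add_apply,
        hq.factorization_self, Nat.factorization_eq_zero_of_not_dvd hqm, pow_one]
    have hn1 : Nat.card (Sylow q f₀.ker) = 1 := by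
      have h1 := card_sylow_modEq_one q f₀.ker
      have h2 := S.card_dvd_index
      have h3 : (S : Subgroup f₀.ker).index = m := by
        have h := (S : Subgroup f₀.ker).card_mul_index
        rw [hScard, hm] at h
        exact Nat.eq_of_mul_eq_mul_left hq.pos h
      rw [h3] at h2
      have h4 := Nat.le_of_dvd hm0 h2
      rw [Nat.ModEq, Nat.mod_eq_of_lt (lt_of_le_of_lt h4 hmq), Nat.mod_eq_of_lt hq.one_lt] at h1
      exact h1
    haveI : Subsingleton (Sylow q f₀.ker) := (Nat.card_eq_one_iff_unique.mp hn1).1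
    haveI : (S : Subgroup f₀.ker).Characteristic := S.characteristic_of_subsingleton
    set F := (S : Subgroup f₀.ker).map f₀.ker.subtype with hF
    haveI : F.Normal := ConjAct.normal_of_characteristic_of_normal
    have hFc : Nat.card F = q := by
      rw [hF, Subgroup.card_map_of_injective f₀.ker.subtype_injective, hScard]
    have hFi : F.index = 12 * m := by
      have h := F.card_mul_index
      rw [hFc, ← hN, hm] at h
      exact Nat.eq_of_mul_eq_mul_left hq.pos (h.trans (by ring))
    obtain ⟨C, hCc, -, -, hsup, ⟨e⟩⟩ := exists_split hno q F hFc (by rwa [hFi]) k hk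
    refine ⟨C, by rw [hCc, hFi], ?_, ?_, ⟨e⟩⟩
    · intro x
      obtain ⟨y, rfl⟩ := hf₀ x
      have hy : y ∈ F ⊔ C := hsup ▸ Subgroup.mem_top y
      rw [← SetLike.mem_coe, Subgroup.normal_mul] at hy
      obtain ⟨z, hz, c, hc, rfl⟩ := Set.mem_mul.mp hy
      refine ⟨⟨c, hc⟩, ?_⟩
      obtain ⟨z', -, rfl⟩ := hz
      simp [MonoidHom.mem_ker.mp z'.2]
    · rintro ⟨N, hNn, hNi⟩
      let π : H →* C := (MonoidHom.fst C _).comp e.toMonoidHom
      have hπ : Function.Surjective π := fun c =>
        ⟨e.symm (c, 1), by simp [π]⟩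
      exact hno ⟨N.comap π, inferInstance, by rw [Subgroup.index_comap_of_surjective _ hπ, hNi]⟩
  have hH : Nat.card H + 1 ∈ ({25, 49, 121, 529} : Set ℕ) := hcard ▸ hdeg
  simp only [Set.mem_insert_iff, Set.mem_singleton_iff] at hH
  have hfC : ∀ C : Subgroup H, H28.FCInt C := fun C =>
    H28.fcInt_of_injective C.subtype C.subtype_injective hG
  rcases hH with h | h | h | h
  · exact Or.inl ⟨by omega, sl23_of_twenty_four hG f₀ hf₀ (by omega)⟩
  · exact absurd (show Nat.card H = 48 by omega) (not_forty_eight hG hno f₀ hf₀ inferInstance)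
  · refine Or.inr ⟨by omega, ?_⟩
    obtain ⟨C, hC, hCs, -, ⟨e⟩⟩ := hsplit 5 (by norm_num) 2 (by omega) (by norm_num) 2
      ((Nat.gcd_dvd_right _ _).trans (by norm_num)) (by norm_num)
    obtain ⟨e'⟩ := sl23_of_twenty_four (hfC C) _ hCs hC
    exact ⟨e.trans (e'.prodCongr (MulEquiv.refl _))⟩
  · exfalso
    obtain ⟨C, hC, hCs, hCno, -⟩ := hsplit 11 (by norm_num) 4 (by omega) (by norm_num) 1
      (by rw [show Nat.card H = 528 by omega]; decide) (by norm_num)
    refine not_forty_eight (hfC C) hCno _ hCs ?_ hC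
    refine IsZGroup.of_injective (f := ({
      toFun := fun x => ⟨(x.1 : H), x.2⟩
      map_one' := rfl
      map_mul' := fun _ _ => rfl } : (f₀.comp C.subtype).ker →* f₀.ker)) ?_
    intro x y hxy
    exact Subtype.ext (Subtype.ext (congrArg (fun z : f₀.ker => (z : H)) hxy))

end H2
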