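import Mathlib
import Cfsg.Agent.H2.SolvableComplement
import Cfsg.Agent.H59.A5Char

/-!
Structure of non-solvable Frobenius complements, given that the perfect ones are `SL(2,5)`.
-/

set_option autoImplicit false
set_option linter.style.haveILetI false

namespace H2

open scoped commutatorElement Pointwise

variable {G : Type*} [Group G] [Finite G]

/-- A Frobenius complement has at most one involution. -/
theorem fcInt_involution_unique (hG : H28.FCInt G) {x y : G} (hx : orderOf x = 2) (hy : orderOf y = 2) :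
    x = y := by
  classical
  haveI : Fact (Nat.Prime 2) := ⟨Nat.prime_two⟩
  by_contra hxy
  have hx2 : x * x = 1 := by rw [← pow_two, ← hx, pow_orderOf_eq_one]
  have hy2 : y * y = 1 := by rw [← pow_two, ← hy, pow_orderOf_eq_one]
  have huniq : ∀ s : G, orderOf s = 2 → s * x = x * s → s = x := by
    intro s hs hc
    have h1 : s ∈ Subgroup.zpowers x := H28.fcInt_mem_zpowers hG (show Commute x s from hc.symm) hx
      (by rw [← hs, pow_orderOf_eq_one])
    obtain ⟨i, hi, hi'⟩ := Finset.mem_image.mp (mem_zpowers_iff_mem_range_orderOf.mp h1)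
    rw [hx, Finset.mem_range] at hi
    interval_cases i
    · rw [← hi', pow_zero, orderOf_one] at hs; omega
    · rw [← hi', pow_one]
  set r := x * y with hr
  have hr1 : r ≠ 1 := by
    intro h
    apply hxy
    calc x = x * (y * y) := by rw [hy2, mul_one]
      _ = (x * y) * y := by rw [mul_assoc]
      _ = y := by rw [← hr, h, one_mul]
  have hrinv : x * r * x⁻¹ = r⁻¹ := by
    rw [hr, inv_eq_of_mul_eq_one_right hx2, mul_inv_rev, inv_eq_of_mul_eq_one_right hx2,
      inv_eq_of_mul_eq_one_right hy2, ← mul_assoc x x, hx2, one_mul]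
  obtain ⟨p, hp, hpd⟩ := Nat.exists_prime_and_dvd (mt orderOf_eq_one_iff.mp hr1)
  set s := r ^ (orderOf r / p) with hs
  have hso : orderOf s = p := orderOf_pow_orderOf_div (orderOf_pos r).ne' hpd
  have hsinv : x * s * x⁻¹ = s⁻¹ := by rw [hs, ← conj_pow, hrinv, inv_pow]
  by_cases hp2 : p = 2
  · subst hp2
    have hss : s⁻¹ = s := by
      rw [inv_eq_iff_mul_eq_one, ← pow_two, ← hso, pow_orderOf_eq_one]
    rw [hss, mul_inv_eq_iff_eq_mul] at hsinv
    have hsx : s = x := huniq s hso hsinv.symm
    have hsr : Commute r x := hsx ▸ ((Commute.refl r).pow_right _)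
    have hyx : y * x = x * y := by
      have h1 : x * y * x = x * (x * y) := hsr.eq
      rw [mul_assoc x y x] at h1
      exact mul_left_cancel h1
    exact hxy (huniq y hy hyx).symm
  · have hc := fcInt_commute hG Nat.prime_two hp (Ne.symm hp2) hso hx
      (by rw [hsinv]; exact Subgroup.inv_mem _ (Subgroup.mem_zpowers s))
    rw [hc, mul_inv_cancel_right] at hsinv
    have h2 : s ^ 2 = 1 := by rw [pow_two, ← inv_eq_iff_mul_eq_one]; exact hsinv.symm
    have h3 := orderOf_dvd_of_pow_eq_one h2
    rw [hso, Nat.prime_dvd_prime_iff_eq hp Nat.prime_two] at h3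
    exact hp2 h3

/-- Generators of a quaternion subgroup of `SL(2,5)`. -/
def slI : H59.SL25 := ⟨!![2, 0; 0, 3], by decide⟩
/-- Generators of a quaternion subgroup of `SL(2,5)`. -/
def slJ : H59.SL25 := ⟨!![0, 1; 4, 0], by decide⟩
/-- An element of order three normalising the quaternion subgroup. -/
def slX : H59.SL25 := ⟨!![3, 4; 3, 1], by decide⟩

theorem sl25_card_sylow : Nat.card (Sylow 2 H59.SL25) ≠ 15 := by
  classical
  haveI : Fact (Nat.Prime 2) := ⟨Nat.prime_two⟩
  set Q : Subgroup H59.SL25 := Subgroup.closure {slI, slJ} with hQ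
  let elts : Finset H59.SL25 :=
    {1, slI, slI ^ 2, slI ^ 3, slJ, slJ * slI, slJ * slI ^ 2, slJ * slI ^ 3}
  have h1 : ∀ a ∈ elts, ∀ b ∈ elts, a * b ∈ elts := by decide +kernel
  have h2 : ∀ a ∈ elts, a⁻¹ ∈ elts := by decide +kernel
  have h3 : elts.card = 8 := by decide +kernel
  have h4 : ∀ a ∈ elts, slX * a * slX⁻¹ ∈ elts := by decide +kernel
  have h5 : slX ^ 3 = 1 ∧ slX ≠ 1 := by decide +kernel
  let S : Subgroup H59.SL25 :=
    { carrier := ↑elts
      one_mem' := by simp [elts]
      mul_mem' := fun {a b} ha hb => h1 a ha b hb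
      inv_mem' := fun {a} ha => h2 a ha }
  have hS : Nat.card S = 2 ^ 3 := by
    change Nat.card (↑elts : Set H59.SL25) = _
    rw [Nat.card_coe_set_eq, Set.ncard_coe_finset, h3]; rfl
  let P : Sylow 2 H59.SL25 := Sylow.ofCard S (by
    rw [hS, H59.card_SL25]
    congr 1
    rw [show (120 : ℕ) = 2 ^ 3 * 15 by norm_num,
      Nat.factorization_mul (by norm_num) (by norm_num), Finsupp.add_apply,
      Nat.Prime.factorization_pow Nat.prime_two, Finsupp.single_eq_same,
      Nat.factorization_eq_zero_of_not_dvd (by norm_num : ¬ 2 ∣ 15), add_zero])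
  have hX : slX ∈ Subgroup.normalizer (S : Set H59.SL25) := by
    rw [Subgroup.mem_normalizer_iff_map_conj_eq]
    refine Subgroup.eq_of_le_of_card_ge ?_ ?_
    · rintro _ ⟨a, ha, rfl⟩; exact h4 a ha
    · exact (Subgroup.card_map_of_injective (f := (MulAut.conj slX).toMonoidHom)
        (MulAut.conj slX).injective).ge
  intro h15
  rw [P.card_eq_index_normalizer] at h15
  change (Subgroup.normalizer (S : Set H59.SL25)).index = 15 at h15
  have hmul := Subgroup.card_mul_index (Subgroup.normalizer (S : Set H59.SL25))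
  rw [h15, H59.card_SL25] at hmul
  haveI : Fact (Nat.Prime 3) := ⟨Nat.prime_three⟩
  have h7 : orderOf slX ∣ Nat.card (Subgroup.normalizer (S : Set H59.SL25)) :=
    Subgroup.orderOf_dvd_natCard _ hX
  rw [orderOf_eq_prime h5.1 h5.2] at h7
  omega

/-- Properties of a perfect group isomorphic to `SL(2,5)`. -/
theorem perfect_sl25_facts {P : Type*} [Group P] [Finite P] (hperf : commutator P = ⊤)
    (e : P ≃* H59.SL25) :
    Nat.card P = 120 ∧ (∀ N : Subgroup P, N.Normal → N ≠ ⊤ → Nat.card N ≤ 2) ∧
      Nat.card (Sylow 2 P) = 5 := by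
  classical
  haveI : Fact (Nat.Prime 2) := ⟨Nat.prime_two⟩
  have hcard : Nat.card P = 120 := (Nat.card_congr e.toEquiv).trans H59.card_SL25
  have hnorm : ∀ N : Subgroup P, N.Normal → N ≠ ⊤ → Nat.card N ≤ 2 := by
    intro N hN hne
    haveI := hN
    have hmul := N.card_mul_index
    have hdvd : N.index ∣ 120 := hcard ▸ Dvd.intro_left _ hmul
    by_contra hbig
    have hlt : Nat.card (P ⧸ N) < 60 := by
      change N.index < 60
      by_contra h
      have := Nat.mul_le_mul (show 3 ≤ Nat.card N by omega) (show 60 ≤ N.index by omega)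
      omega
    haveI := H59.solvable_of_card hlt hdvd
    haveI : Nontrivial (P ⧸ N) := QuotientGroup.nontrivial_iff.mpr hne
    refine (Group.IsSolvable.commutator_lt_top_of_nontrivial (P ⧸ N)).ne ?_
    rw [commutator_def, ← Subgroup.map_top_of_surjective _ (QuotientGroup.mk'_surjective N),
      ← Subgroup.map_commutator, ← commutator_def, hperf]
  refine ⟨hcard, hnorm, ?_⟩
  obtain ⟨S⟩ : Nonempty (Sylow 2 P) := inferInstance
  have hS : Nat.card S = 8 := by
    rw [S.card_eq_multiplicity, hcard, show (120 : ℕ) = 2 ^ 3 * 15 by norm_num,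
      Nat.factorization_mul (by norm_num) (by norm_num), Finsupp.add_apply,
      Nat.Prime.factorization_pow Nat.prime_two, Finsupp.single_eq_same,
      Nat.factorization_eq_zero_of_not_dvd (by norm_num : ¬ 2 ∣ 15), add_zero]
    norm_num
  have hdvd : Nat.card (Sylow 2 P) ∣ 15 := by
    have h1 := S.card_dvd_index
    have h2 := (S : Subgroup P).card_mul_index
    rw [hS, hcard] at h2
    rwa [show (S : Subgroup P).index = 15 by omega] at h1
  have h15 : Nat.card (Sylow 2 P) ≠ 15 := by
    intro h
    refine sl25_card_sylow (le_antisymm ?_ ?_)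
    · rw [← h]
      exact Nat.card_le_card_of_surjective _ (Sylow.mapSurjective_surjective (f := e.toMonoidHom) e.surjective 2)
    · rw [← h]
      exact Nat.card_le_card_of_surjective _ (Sylow.mapSurjective_surjective (f := e.symm.toMonoidHom) e.symm.surjective 2)
  have h1 : Nat.card (Sylow 2 P) ≠ 1 := by
    intro h
    haveI := (Nat.card_eq_one_iff_unique.mp h).1
    have hn : (S : Subgroup P).Normal := by
      rw [← Subgroup.normalizer_eq_top_iff, ← Subgroup.index_eq_one, ← h, S.card_eq_index_normalizer]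
      rfl
    have := hnorm _ hn fun ht => by rw [ht, Subgroup.card_top, hcard] at hS; omega
    omega
  have h3 : Nat.card (Sylow 2 P) ≠ 3 := by
    intro h
    set f := MulAction.toPermHom P (Sylow 2 P)
    have hk : f.ker ≠ ⊤ := by
      intro ht
      obtain ⟨T, U, hTU⟩ := (Finite.one_lt_card_iff_nontrivial.mp (by omega) : Nontrivial (Sylow 2 P))
      obtain ⟨g, hg⟩ := MulAction.exists_smul_eq P T U
      have hg1 : f g = 1 := (ht ▸ Subgroup.mem_top g : g ∈ f.ker)
      exact hTU ((Equiv.Perm.congr_fun hg1 T).symm.trans hg)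
    have h6 : f.ker.index ∣ 6 := by
      rw [Subgroup.index_ker]
      refine (Subgroup.card_subgroup_dvd_card f.range).trans ?_
      rw [Nat.card_perm, h]; decide
    have := hnorm _ inferInstance hk
    have hmul := f.ker.card_mul_index
    have := Nat.le_of_dvd (by norm_num) h6
    nlinarith
  have := (Nat.mem_divisors.mpr ⟨hdvd, by norm_num⟩)
  rw [show Nat.divisors 15 = {1, 3, 5, 15} from by decide] at this
  simp only [Finset.mem_insert, Finset.mem_singleton] at this
  omega

/-- A nonsolvable finite group has a perfect nontrivial normal subgroup. -/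
theorem exists_perfect_normal (hns : ¬ Group.IsSolvable G) :
    ∃ P : Subgroup G, P.Normal ∧ P ≠ ⊥ ∧ commutator P = ⊤ := by
  obtain ⟨P, ⟨hP0, hPn⟩, hmin⟩ := (wellFounded_lt (α := Subgroup G)).has_min
    {H : Subgroup G | ¬ Group.IsSolvable H ∧ H.Normal}
    ⟨⊤, fun h => hns (Group.isSolvable_of_surjective (f := (Subgroup.topEquiv (G := G)).toMonoidHom)
      Subgroup.topEquiv.surjective), inferInstance⟩
  haveI := hPn
  refine ⟨P, hPn, fun h => hP0 (by subst h; exact Group.isSolvable_of_comm fun a b => Subsingleton.elim _ _), ?_⟩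
  by_contra hne
  refine hmin ⁅P, P⁆ ⟨fun h => hP0 ?_, inferInstance⟩ ?_
  · haveI : Group.IsSolvable (commutator P) := by
      have e := (commutator P).equivMapOfInjective P.subtype P.subtype_injective
      rw [Subgroup.map_subtype_commutator] at e
      exact Group.isSolvable_of_isSolvable_injective (f := e.toMonoidHom) e.injective
    exact Group.isSolvable_of_ker_le_range (commutator P).subtype Abelianization.of
      (by rw [Abelianization.ker_of, Subgroup.range_subtype])
  · refine lt_of_le_of_ne (Subgroup.commutator_le_self P) fun h => hne ?_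
    refine Subgroup.map_injective P.subtype_injective ?_
    rw [Subgroup.map_subtype_commutator, h, ← MonoidHom.range_eq_map, Subgroup.range_subtype]

/-- The structure of a nonsolvable Frobenius complement relative to its perfect part `P`. -/
theorem exists_hom_perm_five (hG : H28.FCInt G) {P : Subgroup G} [P.Normal]
    (hperf : commutator P = ⊤) (eP : P ≃* H59.SL25) :
    ∃ (f : G →* Equiv.Perm (Fin 5)) (M : Subgroup G),
      f.ker = Subgroup.centralizer (P : Set G) ∧ alternatingGroup (Fin 5) ≤ f.range ∧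
      IsZGroup f.ker ∧ P ⊔ M = P ⊔ f.ker ∧ P ⊓ M = ⊥ ∧ M ≤ f.ker ∧ IsZGroup M ∧
      (Nat.card M).Coprime 30 ∧ ((P ⊔ f.ker).index = 1 ∨ (P ⊔ f.ker).index = 2) := by
  classical
  haveI : Fact (Nat.Prime 2) := ⟨Nat.prime_two⟩
  obtain ⟨hcard, hnorm, h5⟩ := perfect_sl25_facts hperf eP
  have htrans : ∀ T U : Sylow 2 P, ∃ g : P,
      (T : Subgroup P).map (MulAut.conj g).toMonoidHom = U := by
    intro T U
    obtain ⟨g, hg⟩ := MulAction.exists_smul_eq P T U
    exact ⟨g, congrArg (fun V : Sylow 2 P => (V : Subgroup P)) hg⟩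
  letI : MulDistribMulAction G P := MulDistribMulAction.compHom P (MulAut.conjNormal : G →* MulAut P)
  obtain ⟨e5⟩ : Nonempty (Sylow 2 P ≃ Fin 5) := ⟨(Finite.equivFin _).trans (finCongr h5)⟩
  let act : G →* Equiv.Perm (Sylow 2 P) := MulAction.toPermHom G (Sylow 2 P)
  let f : G →* Equiv.Perm (Fin 5) := e5.permCongrHom.toMonoidHom.comp act
  have hfker : f.ker = act.ker := MonoidHom.ker_mulEquiv_comp act e5.permCongrHom
  set C := Subgroup.centralizer (P : Set G) with hC
  -- the kernel is the centraliser
  have hact : ∀ (g : G) (T : Sylow 2 P), ((act g T : Sylow 2 P) : Subgroup P) =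
      (T : Subgroup P).map (MulAut.conjNormal g : MulAut P).toMonoidHom := fun g T => rfl
  have hker : f.ker = C := by
    refine le_antisymm ?_ fun c hc => ?_
    · -- elements of the kernel meet `P` in at most two elements
      have hN : (f.ker.subgroupOf P) ≠ ⊤ := by
        intro ht
        obtain ⟨T, U, hTU⟩ := (Finite.one_lt_card_iff_nontrivial.mp (by omega) : Nontrivial (Sylow 2 P))
        obtain ⟨g, hg⟩ := htrans T U
        have hg1 : act (g : G) = 1 := by
          rw [← MonoidHom.mem_ker, ← hfker]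
          exact (ht ▸ Subgroup.mem_top g : g ∈ f.ker.subgroupOf P)
        refine hTU (Sylow.ext ?_)
        rw [← hg]
        have h1 := hact (g : G) T
        rw [hg1] at h1
        refine h1.trans (congrArg (fun φ => (T : Subgroup P).map φ) ?_)
        exact MonoidHom.ext fun x => Subtype.ext (by simp [MulAut.conjNormal_apply])
      have hsmall := hnorm _ inferInstance hN
      have hcen : ∀ p : P, p ∈ f.ker.subgroupOf P → p ∈ Subgroup.center P := by
        intro p hp
        rw [Subgroup.mem_center_iff]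
        intro g
        by_cases hp1 : p = 1
        · simp [hp1]
        have hconj : g * p * g⁻¹ ∈ f.ker.subgroupOf P := (inferInstance : (f.ker.subgroupOf P).Normal).conj_mem p hp g
        by_contra hne
        have h3 : ({1, p, g * p * g⁻¹} : Finset P).card = 3 := by
          refine Finset.card_eq_three.mpr ⟨1, p, g * p * g⁻¹, Ne.symm hp1, ?_, ?_, rfl⟩
          · intro h
            exact hp1 (by simpa [mul_assoc] using congrArg (fun t => g⁻¹ * t * g) h.symm)
          · intro h
            exact hne (mul_inv_eq_iff_eq_mul.mp h.symm)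
        have hsub : (↑({1, p, g * p * g⁻¹} : Finset P) : Set P) ⊆ (f.ker.subgroupOf P : Set P) := by
          intro t ht
          simp only [Finset.coe_insert, Finset.coe_singleton, Set.mem_insert_iff,
            Set.mem_singleton_iff] at ht
          rcases ht with rfl | rfl | rfl
          · exact Subgroup.one_mem _
          · exact hp
          · exact hconj
        have h4 := Set.ncard_le_ncard hsub (Set.toFinite _)
        rw [Set.ncard_coe_finset, h3, ← Nat.card_coe_set_eq] at h4
        exact absurd (h4.trans hsmall) (by norm_num)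
      intro k hk
      rw [Subgroup.mem_centralizer_iff]
      intro p hp
      let ψ : P → P := fun q => ⟨k * q * k⁻¹, ‹P.Normal›.conj_mem q q.2 k⟩ * q⁻¹
      have hψ : ∀ q, ψ q ∈ Subgroup.center P := by
        intro q
        refine hcen _ ?_
        change k * (q : G) * k⁻¹ * (q : G)⁻¹ ∈ f.ker
        have h1 : (q : G) * k⁻¹ * (q : G)⁻¹ ∈ f.ker :=
          (inferInstance : f.ker.Normal).conj_mem _ (f.ker.inv_mem hk) q
        simpa [mul_assoc] using f.ker.mul_mem hk h1
      let Ψ : P →* Subgroup.center P :=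
        { toFun := fun q => ⟨ψ q, hψ q⟩
          map_one' := Subtype.ext (Subtype.ext (by simp [ψ]))
          map_mul' := fun a b => by
            refine Subtype.ext ?_
            change ψ (a * b) = ψ a * ψ b
            have hb := Subgroup.mem_center_iff.mp (hψ b) a⁻¹
            calc ψ (a * b) = (⟨k * a * k⁻¹, ‹P.Normal›.conj_mem a a.2 k⟩ : P) * (ψ b * a⁻¹) := by
                  refine Subtype.ext ?_
                  simp [ψ, mul_assoc]
              _ = (⟨k * a * k⁻¹, ‹P.Normal›.conj_mem a a.2 k⟩ : P) * (a⁻¹ * ψ b) := by rw [hb]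
              _ = ψ a * ψ b := by rw [← mul_assoc] }
      letI : CommGroup (Subgroup.center P) :=
        { (inferInstance : Group (Subgroup.center P)) with
          mul_comm := fun a b => Subtype.ext (Subgroup.mem_center_iff.mp b.2 a) }
      have htriv : commutator P ≤ Ψ.ker := Abelianization.commutator_subset_ker Ψ
      rw [hperf] at htriv
      have h1 : Ψ ⟨p, hp⟩ = 1 := htriv (Subgroup.mem_top _)
      have h2 : k * p * k⁻¹ * p⁻¹ = 1 :=
        congrArg (fun t : Subgroup.center P => ((t : P) : G)) h1
      rw [mul_inv_eq_one, mul_inv_eq_iff_eq_mul] at h2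
      exact h2.symm
    · rw [hfker, MonoidHom.mem_ker]
      refine Equiv.ext fun T => ?_
      apply Sylow.ext
      rw [hact, show ((MulAut.conjNormal c : MulAut P)).toMonoidHom = MonoidHom.id P from
        MonoidHom.ext fun x => Subtype.ext (by
          change c * (x : G) * c⁻¹ = x
          exact mul_inv_eq_iff_eq_mul.mpr (Subgroup.mem_centralizer_iff.mp hc x x.2).symm)]
      exact Subgroup.map_id _
  -- `P ⊓ C` has order two
  have hPC : Nat.card (C.subgroupOf P) ≤ 2 := by
    refine hnorm _ inferInstance fun ht => ?_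
    haveI : Nontrivial P := Finite.one_lt_card_iff_nontrivial.mp (by omega)
    refine (@Group.IsSolvable.commutator_lt_top_of_nontrivial P _ (Group.isSolvable_of_comm fun a b => ?_) _).ne hperf
    have ha : a ∈ C.subgroupOf P := ht ▸ Subgroup.mem_top a
    exact Subtype.ext (Subgroup.mem_centralizer_iff.mp ha b b.2).symm
  obtain ⟨z, hz⟩ := exists_prime_orderOf_dvd_card' (G := P) 2 (by rw [hcard]; norm_num)
  rw [← Subgroup.orderOf_coe] at hz
  have hzcen : ∀ g : G, g * z = z * g := fun g => by
    have h1 : MulAut.conj g (z : G) = z :=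
      fcInt_involution_unique hG (by rw [MulEquiv.orderOf_eq, hz]) hz
    exact mul_inv_eq_iff_eq_mul.mp h1
  have hzC : (z : G) ∈ C := Subgroup.mem_centralizer_iff.mpr fun p _ => hzcen p
  set Z := Subgroup.zpowers (z : G) with hZdef
  have hZ : Nat.card Z = 2 := by rw [Nat.card_zpowers, hz]
  have hPCZ : P ⊓ C = Z := by
    refine (Subgroup.eq_of_le_of_card_ge (Subgroup.zpowers_le.mpr (Subgroup.mem_inf.mpr ⟨z.2, hzC⟩)) ?_).symm
    rw [hZ]
    refine le_trans (le_of_eq ?_) hPC
    have h1 := Subgroup.card_map_of_injective (K := C.subgroupOf P) P.subtype_injective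
    rw [Subgroup.subgroupOf_map_subtype, inf_comm] at h1
    exact h1
  -- `C` has a normal complement to `Z`
  obtain ⟨i₀, hi₀⟩ : ∃ i : P, orderOf (i : G) = 4 := by
    obtain ⟨S⟩ : Nonempty (Sylow 2 P) := inferInstance
    by_contra hno
    push Not at hno
    have hS : Nat.card S = 2 ^ 3 := by
      rw [S.card_eq_multiplicity, hcard, show (120 : ℕ) = 2 ^ 3 * 15 by norm_num,
        Nat.factorization_mul (by norm_num) (by norm_num), Finsupp.add_apply,
        Nat.Prime.factorization_pow Nat.prime_two, Finsupp.single_eq_same,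
        Nat.factorization_eq_zero_of_not_dvd (by norm_num : ¬ 2 ∣ 15), add_zero]
    have hle : (S : Subgroup P).map P.subtype ≤ Z := by
      rintro _ ⟨s, hs, rfl⟩
      obtain ⟨j, hj, hso⟩ := (Nat.dvd_prime_pow Nat.prime_two).mp
        (hS ▸ Subgroup.orderOf_dvd_natCard _ hs)
      rw [← Subgroup.orderOf_coe] at hso
      change (s : G) ∈ Z
      have hpow : ∀ k, 2 ≤ k → orderOf (s : G) = 2 ^ k → False := by
        intro k hk hk'
        refine hno (s ^ 2 ^ (k - 2)) ?_
        rw [SubmonoidClass.coe_pow, orderOf_pow_of_dvd (by positivity) (by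
          rw [hk']; exact pow_dvd_pow 2 (Nat.sub_le k 2)), hk', Nat.pow_div (Nat.sub_le k 2) two_pos,
          Nat.sub_sub_self hk]
        rfl
      interval_cases j
      · rw [orderOf_eq_one_iff.mp hso]; exact Z.one_mem
      · rw [fcInt_involution_unique hG hso hz]; exact Subgroup.mem_zpowers _
      · exact (hpow 2 le_rfl hso).elim
      · exact (hpow 3 (by norm_num) hso).elim
    have h1 := Subgroup.card_le_of_le hle
    rw [Subgroup.card_map_of_injective P.subtype_injective, hS, hZ] at h1
    norm_num at h1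
  have hi2 : (i₀ : G) * i₀ = z := by
    refine fcInt_involution_unique hG ?_ hz
    rw [← pow_two, orderOf_pow_of_dvd two_ne_zero (by rw [hi₀]; norm_num), hi₀]
  have hno4 : ∀ c ∈ C, orderOf c ≠ 4 := by
    intro c hc hc4
    have hc2 : c * c = z := by
      refine fcInt_involution_unique hG ?_ hz
      rw [← pow_two, orderOf_pow_of_dvd two_ne_zero (by rw [hc4]; norm_num), hc4]
    have hcomm : (i₀ : G) * c = c * i₀ := Subgroup.mem_centralizer_iff.mp hc i₀ i₀.2
    have h1 : (c * i₀) ^ 2 = 1 := by
      calc (c * (i₀ : G)) ^ 2 = c * ((i₀ : G) * c) * i₀ := by rw [pow_two]; simp only [mul_assoc]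
        _ = (c * c) * ((i₀ : G) * i₀) := by rw [hcomm]; simp only [mul_assoc]
        _ = 1 := by rw [hc2, hi2, ← pow_two, ← hz, pow_orderOf_eq_one]
    have hmem : c * (i₀ : G) ∈ Z := by
      by_cases h : c * (i₀ : G) = 1
      · rw [h]; exact Z.one_mem
      · rw [fcInt_involution_unique hG (orderOf_eq_prime h1 h) hz]; exact Subgroup.mem_zpowers _
    have hcP : c ∈ P := by
      have := P.mul_mem ((Subgroup.zpowers_le.mpr z.2) hmem) (P.inv_mem i₀.2)
      simpa using this
    have h2 : c ∈ Z := hPCZ ▸ Subgroup.mem_inf.mpr ⟨hcP, hc⟩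
    have h3 := Subgroup.orderOf_dvd_natCard Z h2
    rw [hc4, hZ] at h3
    norm_num at h3
  set Z' := Z.subgroupOf C with hZ'
  have hZ'c : Nat.card Z' = 2 := by
    rw [Nat.card_congr (Subgroup.subgroupOfEquivOfLe (Subgroup.zpowers_le.mpr hzC)).toEquiv, hZ]
  have hodd : ¬ 2 ∣ Z'.index := by
    intro h
    obtain ⟨S⟩ : Nonempty (Sylow 2 C) := inferInstance
    have h4 : 2 ^ 2 ∣ Nat.card C := by
      rw [← Z'.card_mul_index, hZ'c]
      exact mul_dvd_mul_left 2 h
    obtain ⟨U, hU⟩ := Sylow.exists_subgroup_card_pow_prime 2 h4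
    have hUle : U.map C.subtype ≤ Z := by
      rintro _ ⟨u, hu, rfl⟩
      obtain ⟨j, hj, hso⟩ := (Nat.dvd_prime_pow Nat.prime_two).mp
        (hU ▸ Subgroup.orderOf_dvd_natCard _ hu)
      rw [← Subgroup.orderOf_coe] at hso
      change (u : G) ∈ Z
      interval_cases j
      · rw [orderOf_eq_one_iff.mp hso]; exact Z.one_mem
      · rw [fcInt_involution_unique hG hso hz]; exact Subgroup.mem_zpowers _
      · exact (hno4 u u.2 hso).elim
    have h1 := Subgroup.card_le_of_le hUle
    rw [Subgroup.card_map_of_injective C.subtype_injective, hU, hZ] at h1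
    norm_num at h1
  haveI : Z'.Normal := ⟨fun x hx g => by
    have hxz : ∀ k : ℤ, ((g : G)) * (z : G) ^ k = (z : G) ^ k * g := fun k =>
      ((show Commute (g : G) z from hzcen g).zpow_right k).eq
    obtain ⟨k, hk⟩ := Subgroup.mem_zpowers_iff.mp hx
    have hk' : (z : G) ^ k = (x : G) := hk
    change (g : G) * (x : G) * (g : G)⁻¹ ∈ Z
    rw [← hk', hxz, mul_inv_cancel_right]
    exact Subgroup.zpow_mem _ (Subgroup.mem_zpowers _) k⟩
  obtain ⟨M', hM'⟩ := Subgroup.exists_right_complement'_of_coprime (N := Z')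
    (by rw [hZ'c]; exact Nat.prime_two.coprime_iff_not_dvd.mpr hodd)
  set M := M'.map C.subtype with hMdef
  have hMC : M ≤ C := Subgroup.map_subtype_le _
  have hZP : Z ≤ P := Subgroup.zpowers_le.mpr z.2
  have hCle : C ≤ P ⊔ M := by
    intro c hc
    obtain ⟨⟨⟨a, ha⟩, ⟨b, hb⟩⟩, he⟩ :=
      (Subgroup.IsComplement.existsUnique hM' (⟨c, hc⟩ : C)).exists
    have he' : (a : G) * (b : G) = c := congrArg Subtype.val he
    rw [← he']
    exact Subgroup.mul_mem _ (Subgroup.mem_sup_left (hZP ha)) (Subgroup.mem_sup_right ⟨b, hb, rfl⟩)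
  have hsup : P ⊔ M = P ⊔ C :=
    le_antisymm (sup_le_sup_left hMC P) (sup_le le_sup_left hCle)
  have hinf : P ⊓ M = ⊥ := by
    rw [eq_bot_iff]
    rintro x ⟨hxP, m, hm, rfl⟩
    have h1 : (m : G) ∈ Z := hPCZ ▸ Subgroup.mem_inf.mpr ⟨hxP, m.2⟩
    have h2 : m = 1 := H2.complement_inf hM' h1 hm
    rw [h2]; exact Subgroup.one_mem _
  have hcardM : Nat.card M = Z'.index := by
    rw [Subgroup.card_map_of_injective C.subtype_injective, hM'.symm.index_eq_card]
  have hZgrp : ∀ (H : Subgroup G), H ≤ C → IsZGroup H := by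
    intro H hH
    refine ⟨fun p hp S => ?_⟩
    haveI := Fact.mk hp
    let e := (S : Subgroup H).equivMapOfInjective H.subtype H.subtype_injective
    have hSp : IsPGroup p ((S : Subgroup H).map H.subtype) := S.2.map _
    haveI : IsCyclic ((S : Subgroup H).map H.subtype) := by
      by_cases hp2 : p = 2
      · subst hp2
        refine Subgroup.isCyclic_of_le (H' := Z) fun s hs => ?_
        obtain ⟨k, hk⟩ := hSp ⟨s, hs⟩
        obtain ⟨j, -, hso⟩ := (Nat.dvd_prime_pow Nat.prime_two).mp
          (orderOf_dvd_of_pow_eq_one (congrArg Subtype.val hk))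
        change orderOf s = 2 ^ j at hso
        have hsC : s ∈ C := hH (Subgroup.map_subtype_le _ hs)
        rcases Nat.lt_or_ge j 2 with hj | hj
        · interval_cases j
          · rw [orderOf_eq_one_iff.mp hso]; exact Z.one_mem
          · rw [fcInt_involution_unique hG hso hz]; exact Subgroup.mem_zpowers _
        · exfalso
          refine hno4 (s ^ 2 ^ (j - 2)) (C.pow_mem hsC _) ?_
          rw [orderOf_pow_of_dvd (by positivity) (by rw [hso]; exact pow_dvd_pow 2 (Nat.sub_le j 2)),
            hso, Nat.pow_div (Nat.sub_le j 2) two_pos, Nat.sub_sub_self hj]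
          rfl
      · exact fcInt_isCyclic_sylow hG hp2 hSp
    exact isCyclic_of_surjective e.symm.toMonoidHom e.symm.surjective
  have hpM : ∀ p, p.Prime → p ∣ 120 → p ≠ 2 → ¬ p ∣ Nat.card M := by
    intro p hp hp120 _ hd
    haveI := Fact.mk hp
    obtain ⟨a, ha⟩ := exists_prime_orderOf_dvd_card' (G := P) p (hcard ▸ hp120)
    obtain ⟨c, hc⟩ := exists_prime_orderOf_dvd_card' (G := M) p hd
    rw [← Subgroup.orderOf_coe] at ha hc
    have h1 : (c : G) ∈ Subgroup.zpowers (a : G) := H28.fcInt_mem_zpowers hG
      (Subgroup.mem_centralizer_iff.mp (hMC c.2) a a.2) ha (by rw [← hc, pow_orderOf_eq_one])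
    have h2 : (c : G) ∈ P ⊓ M := ⟨(Subgroup.zpowers_le.mpr a.2) h1, c.2⟩
    rw [hinf, Subgroup.mem_bot] at h2
    rw [h2, orderOf_one] at hc
    exact hp.one_lt.ne hc
  have hcop : (Nat.card M).Coprime 30 := by
    rw [show (30 : ℕ) = 2 * (3 * 5) from rfl]
    refine Nat.Coprime.mul_right ?_ (Nat.Coprime.mul_right ?_ ?_)
    · exact (Nat.prime_two.coprime_iff_not_dvd.mpr (hcardM ▸ hodd)).symm
    · exact (Nat.prime_three.coprime_iff_not_dvd.mpr
        (hpM 3 Nat.prime_three (by norm_num) (by norm_num))).symm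
    · exact ((Nat.prime_five).coprime_iff_not_dvd.mpr
        (hpM 5 Nat.prime_five (by norm_num) (by norm_num))).symm
  -- the image contains the alternating group
  have hmapP : Nat.card (P.map f) = 60 := by
    have h1 : (f.comp P.subtype).range = P.map f := by
      rw [MonoidHom.range_eq_map, ← Subgroup.map_map, ← MonoidHom.range_eq_map,
        Subgroup.range_subtype]
    have h2 : (f.comp P.subtype).ker = C.subgroupOf P := by
      rw [← hker, MonoidHom.comap_ker f P.subtype |>.symm]
      rfl
    have h3 : Nat.card (C.subgroupOf P) = 2 := by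
      have h1 := Subgroup.card_map_of_injective (K := C.subgroupOf P) P.subtype_injective
      rw [Subgroup.subgroupOf_map_subtype, inf_comm, hPCZ, hZ] at h1
      exact h1.symm
    rw [← h1, ← Subgroup.index_ker, h2]
    have := (C.subgroupOf P).card_mul_index
    rw [h3, hcard] at this
    omega
  have h120 : Nat.card (Equiv.Perm (Fin 5)) = 120 := by
    rw [Nat.card_perm, Nat.card_fin]; rfl
  have halt : P.map f = alternatingGroup (Fin 5) := by
    refine Equiv.Perm.eq_alternatingGroup_of_index_eq_two ?_
    have := (P.map f).card_mul_index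
    rw [hmapP, h120] at this
    omega
  refine ⟨f, M, hker, halt ▸ (by rw [MonoidHom.range_eq_map]; exact Subgroup.map_mono le_top), ?_,
    by rw [hsup, hker], hinf, hker ▸ hMC, hZgrp M hMC, hcop, ?_⟩
  · exact hZgrp _ hker.le
  · have h1 : (P ⊔ f.ker) = (P.map f).comap f := by rw [Subgroup.comap_map_eq]
    rw [h1, Subgroup.index_comap, halt]
    have h2 : (alternatingGroup (Fin 5)).relIndex f.range ∣ (alternatingGroup (Fin 5)).index :=
      Subgroup.relIndex_dvd_index_of_normal _ _
    rw [show (alternatingGroup (Fin 5)).index = 2 from alternatingGroup.index_eq_two] at h2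
    exact (Nat.dvd_prime Nat.prime_two).mp h2

end H2
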