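import Mathlib
import Cfsg.Agent.H2.FrobeniusEven

/-!
A finite abelian group of odd order with two anticommuting automorphisms has square order;
consequently a Frobenius kernel whose complement contains `x, y` with `x * y = z * (y * x)`,
`z` an involution, has square order.
-/

set_option autoImplicit false
set_option linter.style.haveILetI false

namespace H2

/-- A vector space over `ZMod q`, `q` odd, with two anticommuting injective endomorphisms has
square order. -/
theorem isSquare_card_zmod {V : Type*} [AddCommGroup V] [Finite V] (q : ℕ) [hq : Fact q.Prime]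
    [Module (ZMod q) V]
    (hq2 : q ≠ 2) (f g : V →+ V) (hf : Function.Injective f)
    (hg : Function.Injective g) (hfg : ∀ v, f (g v) = -g (f v)) : IsSquare (Nat.card V) := by
  let lf : V →ₗ[ZMod q] V := f.toZModLinearMap q
  let lg : V →ₗ[ZMod q] V := g.toZModLinearMap q
  have hcomp : lf ∘ₗ lg = (-1 : ZMod q) • (lg ∘ₗ lf) := by
    refine LinearMap.ext fun a => ?_
    rw [LinearMap.smul_apply, neg_one_smul]
    exact hfg a
  have hdet := congrArg LinearMap.det hcomp
  rw [LinearMap.det_smul, LinearMap.det_comp, LinearMap.det_comp,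
    mul_comm (LinearMap.det lg) (LinearMap.det lf)] at hdet
  have hdf : IsUnit (LinearMap.det lf) :=
    (LinearMap.isUnit_iff_isUnit_det lf).mp
      ((Module.End.isUnit_iff _).mpr ⟨hf, Finite.injective_iff_surjective.mp hf⟩)
  have hdg : IsUnit (LinearMap.det lg) :=
    (LinearMap.isUnit_iff_isUnit_det lg).mp
      ((Module.End.isUnit_iff _).mpr ⟨hg, Finite.injective_iff_surjective.mp hg⟩)
  have hpow : (-1 : ZMod q) ^ Module.finrank (ZMod q) V = 1 :=
    mul_right_cancel₀ (hdf.mul hdg).ne_zero (by rw [one_mul]; exact hdet.symm)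
  have heven : Even (Module.finrank (ZMod q) V) := by
    haveI : Fact (2 < q) := ⟨lt_of_le_of_ne hq.out.two_le (Ne.symm hq2)⟩
    by_contra hne
    rw [Nat.not_even_iff_odd] at hne
    rw [hne.neg_one_pow] at hpow
    exact ZMod.neg_one_ne_one hpow
  rw [Module.natCard_eq_pow_finrank (K := ZMod q), Nat.card_zmod]
  exact heven.isSquare_pow q

/-- An elementary abelian `q`-group, `q` odd, with two anticommuting injective endomorphisms has
square order. -/
theorem isSquare_card_elementary {V : Type*} [AddCommGroup V] [Finite V] (q : ℕ) [Fact q.Prime]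
    (hq2 : q ≠ 2) (hV0 : ∀ v : V, q • v = 0) (f g : V →+ V) (hf : Function.Injective f)
    (hg : Function.Injective g) (hfg : ∀ v, f (g v) = -g (f v)) : IsSquare (Nat.card V) :=
  @isSquare_card_zmod V _ _ q _ (AddCommGroup.zmodModule hV0) hq2 f g hf hg hfg

/-- A finite abelian group of odd order with two anticommuting injective endomorphisms has square
order. -/
theorem isSquare_card_of_anticomm {A : Type*} [AddCommGroup A] [Finite A] (hodd : Odd (Nat.card A))
    (α β : A →+ A) (hα : Function.Injective α) (hβ : Function.Injective β)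
    (hab : ∀ a, α (β a) = -β (α a)) : IsSquare (Nat.card A) := by
  suffices ∀ (n : ℕ) (S : AddSubgroup A), Nat.card S = n → (∀ a ∈ S, α a ∈ S) →
      (∀ a ∈ S, β a ∈ S) → IsSquare n from
    this (Nat.card A) ⊤ (by simp) (fun _ _ => trivial) (fun _ _ => trivial)
  intro n
  induction n using Nat.strong_induction_on with
  | _ n ih =>
  intro S hS hSα hSβ
  subst hS
  by_cases h1 : Nat.card S = 1
  · exact ⟨1, by rw [h1]⟩
  obtain ⟨q, hq, hqd⟩ := Nat.exists_prime_and_dvd h1
  haveI := Fact.mk hq
  have hq2 : q ≠ 2 := fun h => by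
    have h2 := hodd.of_dvd_nat (hqd.trans (AddSubgroup.card_addSubgroup_dvd_card S))
    rw [h] at h2
    exact (Nat.not_odd_iff_even.mpr even_two) h2
  let m : S →+ S := nsmulAddMonoidHom q
  -- the kernel of multiplication by `q`
  have hV0 : ∀ v : m.ker, q • v = 0 := fun v => Subtype.ext v.2
  have hres : ∀ γ : A →+ A, (∀ a ∈ S, γ a ∈ S) → ∀ v : m.ker,
      ∃ w : m.ker, ((w : S) : A) = γ ((v : S) : A) := fun γ hγ v =>
    ⟨⟨⟨γ ((v : S) : A), hγ _ (v : S).2⟩, Subtype.ext (by
      have h : q • ((v : S) : A) = 0 := congrArg Subtype.val v.2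
      change q • γ ((v : S) : A) = 0
      rw [← map_nsmul, h, map_zero])⟩, rfl⟩
  choose fα hfα using hres α hSα
  choose fβ hfβ using hres β hSβ
  have hadd : ∀ (γ : A →+ A) (f : m.ker → m.ker), (∀ v, ((f v : S) : A) = γ ((v : S) : A)) →
      ∀ a b, f (a + b) = f a + f b := fun γ f hf a b => Subtype.ext (Subtype.ext (by
    push_cast; rw [hf, hf, hf]; push_cast; exact map_add γ _ _))
  have hsqV : IsSquare (Nat.card m.ker) :=
    isSquare_card_elementary (V := m.ker) q hq2 hV0 (AddMonoidHom.mk' fα (hadd α fα hfα))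
      (AddMonoidHom.mk' fβ (hadd β fβ hfβ))
      (fun a b h => Subtype.ext (Subtype.ext (hα (by
        have h' : fα a = fα b := h
        rw [← hfα, ← hfα, h']))))
      (fun a b h => Subtype.ext (Subtype.ext (hβ (by
        have h' : fβ a = fβ b := h
        rw [← hfβ, ← hfβ, h']))))
      (fun a => Subtype.ext (Subtype.ext (by
        change ((fα (fβ a) : S) : A) = -((fβ (fα a) : S) : A)
        rw [hfα, hfβ, hfβ, hfα, hab])))
  -- the multiples of `q`
  have hcard : Nat.card S = Nat.card m.range * Nat.card m.ker := by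
    rw [AddSubgroup.card_eq_card_quotient_mul_card_addSubgroup m.ker,
      Nat.card_congr (QuotientAddGroup.quotientKerEquivRange m).toEquiv]
  have hrange : Nat.card (m.range.map S.subtype) = Nat.card m.range :=
    AddSubgroup.card_map_of_injective Subtype.val_injective
  have hlt : Nat.card m.range < Nat.card S := by
    obtain ⟨s, hs⟩ := exists_prime_addOrderOf_dvd_card' q hqd
    have hs0 : s ∈ m.ker := by
      change q • s = 0
      rw [← hs, addOrderOf_nsmul_eq_zero]
    have hk : 1 < Nat.card m.ker := by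
      rw [AddSubgroup.one_lt_card_iff_ne_bot]
      intro h
      rw [h, AddSubgroup.mem_bot] at hs0
      rw [hs0, addOrderOf_zero] at hs
      exact hq.one_lt.ne hs
    rw [hcard]
    exact lt_mul_of_one_lt_right Nat.card_pos hk
  have hmap : ∀ γ : A →+ A, (∀ a ∈ S, γ a ∈ S) →
      ∀ a ∈ m.range.map S.subtype, γ a ∈ m.range.map S.subtype := by
    rintro γ hγ _ ⟨_, ⟨b, rfl⟩, rfl⟩
    refine ⟨m ⟨γ b, hγ _ b.2⟩, ⟨_, rfl⟩, ?_⟩
    change q • γ (b : A) = γ (q • (b : A))
    rw [map_nsmul]
  have hsq := ih _ hlt (m.range.map S.subtype) hrange (hmap α hSα) (hmap β hSβ)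
  rw [hcard]
  exact hsq.mul hsqV

/-- A Frobenius kernel whose complement contains `x` and `y` with `x * y = z * (y * x)`, `z` an
involution of the complement, has odd square order. -/
theorem odd_isSquare_card_of_anticomm {G : Type*} [Group G] [Finite G] {K H : Subgroup G}
    [K.Normal] (hc : Subgroup.IsComplement' K H) (hH : Cfsg.IsFrobeniusComplement H) {x y z : G}
    (hx : x ∈ H) (hy : y ∈ H) (hz : z ∈ H) (hz2 : orderOf z = 2) (hxy : x * y = z * (y * x)) :
    Odd (Nat.card K) ∧ IsSquare (Nat.card K) := by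
  have heven : 2 ∣ Nat.card H := hz2 ▸ Subgroup.orderOf_dvd_natCard H hz
  have hKne : K ≠ ⊥ := fun h => by
    rw [h, Subgroup.isComplement'_bot_left] at hc
    exact hH.2.1 hc
  have hidx : Nat.card K = H.index := hc.index_eq_card.symm
  have hodd : Odd (Nat.card K) := by
    rw [← Nat.not_even_iff_odd, even_iff_two_dvd]
    intro h
    have := Nat.dvd_gcd heven (hidx ▸ h)
    rw [H2.coprime_card_index hH] at this
    omega
  obtain ⟨⟨s, -, -, huniq, hinv⟩, hKc⟩ := even_complement hKne (fpf_of_frobenius hc hH) heven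
  have hzs : z = s := huniq z hz hz2
  subst hzs
  refine ⟨hodd, ?_⟩
  letI : CommGroup K := { (inferInstance : Group K) with mul_comm := fun a b => hKc.is_comm.comm a b }
  let γ : G → (Additive K →+ Additive K) := fun g =>
    MonoidHom.toAdditive (MulAut.conjNormal g : MulAut K).toMonoidHom
  have hγinj : ∀ g, Function.Injective (γ g) := fun g =>
    (MulAut.conjNormal g : MulAut K).injective
  have hsq := isSquare_card_of_anticomm (A := Additive K) hodd (γ x) (γ y) (hγinj x) (hγinj y) ?_
  · exact hsq
  intro a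
  refine Additive.toMul.injective (Subtype.ext ?_)
  change x * (y * ((Additive.toMul a : K) : G) * y⁻¹) * x⁻¹ =
    ((y * (x * ((Additive.toMul a : K) : G) * x⁻¹) * y⁻¹))⁻¹
  have hmem : (y * x) * ((Additive.toMul a : K) : G) * (y * x)⁻¹ ∈ K :=
    ‹K.Normal›.conj_mem _ (Additive.toMul a).2 _
  calc x * (y * ((Additive.toMul a : K) : G) * y⁻¹) * x⁻¹
      = (x * y) * ((Additive.toMul a : K) : G) * (x * y)⁻¹ := by simp [mul_assoc]
    _ = z * ((y * x) * ((Additive.toMul a : K) : G) * (y * x)⁻¹) * z⁻¹ := by rw [hxy]; simp [mul_assoc]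
    _ = ((y * x) * ((Additive.toMul a : K) : G) * (y * x)⁻¹)⁻¹ := hinv _ hmem
    _ = _ := by simp [mul_assoc]

end H2
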