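import Cfsg.Agent.H3.MinNormal
import Cfsg.Agent.H3.CoreFree
import Cfsg.Agent.H1.CoprimeAction
import Cfsg.Agent.H2.FrobeniusBasic
import Mathlib.GroupTheory.Nilpotent

/-!
Carter subgroups of finite solvable groups.
-/

set_option autoImplicit false

namespace H2

open Pointwise Subgroup

/-- A Carter subgroup: nilpotent and self-normalising. -/
def IsCarter {G : Type*} [Group G] (C : Subgroup G) : Prop :=
  Group.IsNilpotent C ∧ normalizer (C : Set G) = C

section

variable {G : Type*} [Group G] [Finite G]

omit [Finite G] in
theorem IsCarter.subgroupOf {C L : Subgroup G} (hC : IsCarter C) (h : C ≤ L) :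
    IsCarter (C.subgroupOf L) := by
  refine ⟨(Group.isNilpotent_congr (subgroupOfEquivOfLe h)).2 hC.1, le_antisymm ?_ le_normalizer⟩
  intro x hx
  rw [mem_subgroupOf, ← hC.2, mem_normalizer_iff]
  intro y
  constructor
  · intro hy
    exact (mem_normalizer_iff.1 hx ⟨y, h hy⟩).1 hy
  · intro hy
    have hyL : y ∈ L := by
      have := L.mul_mem (L.mul_mem (L.inv_mem x.2) (h hy)) x.2
      simpa [mul_assoc] using this
    exact (mem_normalizer_iff.1 hx ⟨y, hyL⟩).2 hy

theorem eq_top_of_nilpotent_selfnorm [Group.IsNilpotent G] {C : Subgroup G}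
    (h : normalizer (C : Set G) = C) : C = ⊤ := by
  by_contra hne
  exact (Group.normalizerCondition_of_isNilpotent C (lt_top_iff_ne_top.2 hne)).ne h.symm

omit [Finite G] in
theorem IsCarter.conj {C : Subgroup G} (hC : IsCarter C) (g : G) :
    IsCarter (MulAut.conj g • C) := by
  refine ⟨(Group.isNilpotent_congr (Subgroup.equivSMul (MulAut.conj g) C)).1 hC.1,
    le_antisymm ?_ le_normalizer⟩
  intro x hx
  rw [mem_conj_smul]
  rw [← hC.2, mem_normalizer_iff]
  intro y
  have := mem_normalizer_iff.1 hx (g * y * g⁻¹)
  rw [mem_conj_smul, mem_conj_smul] at this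
  simpa [mul_assoc] using this

end

theorem carter_conj_aux.{u} (n : ℕ) : ∀ (G : Type u) [Group G] [Finite G] [Group.IsSolvable G],
    Nat.card G = n → ∀ C D : Subgroup G, IsCarter C → IsCarter D →
      ∃ g : G, MulAut.conj g • C = D := by
  induction n using Nat.strong_induction_on with
  | _ n ih =>
    intro G _ _ _ hn C D hC hD
    by_cases hCtop : C = ⊤
    · subst hCtop
      have : Group.IsNilpotent G := (Group.isNilpotent_congr Subgroup.topEquiv).1 hC.1
      exact ⟨1, by rw [map_one, one_smul, eq_top_of_nilpotent_selfnorm hD.2]⟩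
    by_cases hDtop : D = ⊤
    · subst hDtop
      have : Group.IsNilpotent G := (Group.isNilpotent_congr Subgroup.topEquiv).1 hD.1
      exact absurd (eq_top_of_nilpotent_selfnorm hC.2) hCtop
    -- conjugacy inside proper subgroups
    have inL : ∀ L : Subgroup G, L ≠ ⊤ → ∀ A B : Subgroup G, IsCarter A → IsCarter B → A ≤ L →
        B ≤ L → ∃ l ∈ L, MulAut.conj l • A = B := by
      intro L hL A B hA hB hAL hBL
      obtain ⟨l, hl⟩ := ih (Nat.card L) (by
        rw [← hn]
        exact lt_of_le_of_ne (Nat.le_of_dvd Nat.card_pos L.card_subgroup_dvd_card)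
          (fun h => hL (L.eq_top_of_card_eq h))) L rfl _ _ (hA.subgroupOf hAL) (hB.subgroupOf hBL)
      refine ⟨l, l.2, ?_⟩
      have h1 := congrArg (Subgroup.map L.subtype) hl
      rw [H1.map_subtype_conj_smul, map_subgroupOf_eq_of_le hAL, map_subgroupOf_eq_of_le hBL] at h1
      exact h1
    by_cases hdone : ∃ g : G, MulAut.conj g • C = D
    · exact hdone
    exfalso
    have : Nontrivial G := by
      by_contra h
      rw [not_nontrivial_iff_subsingleton] at h
      exact hCtop (Subsingleton.elim _ _)
    have key : ∀ N : Subgroup G, N.Normal → N ≠ ⊥ → C ⊔ N = ⊤ ∧ D ⊔ N = ⊤ := by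
      intro N hN hNbot
      let π := QuotientGroup.mk' N
      have hlt : Nat.card (G ⧸ N) < n := by
        rw [← hn, ← Subgroup.index_eq_card, ← N.card_mul_index]
        exact lt_mul_of_one_lt_left (Nat.pos_of_ne_zero N.index_ne_zero_of_finite)
          ((Subgroup.one_lt_card_iff_ne_bot N).2 hNbot)
      have himg : ∀ A : Subgroup G, IsCarter A → IsCarter (A.map π) := by
        intro A hA
        refine ⟨?_, le_antisymm ?_ le_normalizer⟩
        · have := hA.1
          exact Group.nilpotent_of_surjective (π.subgroupMap A) (π.subgroupMap_surjective A)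
        intro x hx
        obtain ⟨g, rfl⟩ := QuotientGroup.mk'_surjective N x
        have hcm : (A.map π).comap π = A ⊔ N := by
          rw [comap_map_eq, QuotientGroup.ker_mk']
        have hgmem : g ∈ A ⊔ N := by
          have hgA : MulAut.conj g • A ≤ A ⊔ N := by
            rintro y ⟨a, ha, rfl⟩
            rw [← hcm, mem_comap]
            show π (g * a * g⁻¹) ∈ A.map π
            rw [map_mul, map_mul, map_inv]
            exact (mem_normalizer_iff.1 hx _).1 (mem_map_of_mem π ha)
          by_cases htop : A ⊔ N = ⊤
          · rw [htop]; exact mem_top g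
          obtain ⟨l, hl, hlA⟩ := inL _ htop A (MulAut.conj g • A) hA (hA.conj g) le_sup_left hgA
          have h2 : g⁻¹ * l ∈ normalizer (A : Set G) := by
            rw [mem_normalizer_iff_map_conj_eq]
            show MulAut.conj (g⁻¹ * l) • A = A
            rw [map_mul, mul_smul, hlA, map_inv, inv_smul_smul]
          rw [hA.2] at h2
          have := (A ⊔ N).mul_mem hl ((A ⊔ N).inv_mem (le_sup_left (b := N) h2))
          simpa using this
        rw [← hcm] at hgmem
        exact hgmem
      obtain ⟨x, hx⟩ := ih _ hlt (G ⧸ N) rfl _ _ (himg C hC) (himg D hD)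
      obtain ⟨g, rfl⟩ := QuotientGroup.mk'_surjective N x
      have hcm : ∀ A : Subgroup G, (A.map π).comap π = A ⊔ N := fun A => by
        rw [comap_map_eq, QuotientGroup.ker_mk']
      have hgC : MulAut.conj g • C ≤ D ⊔ N := by
        rintro y ⟨c, hc, rfl⟩
        rw [← hcm, mem_comap, ← hx]
        exact ⟨π c, mem_map_of_mem π hc, by simp [π, MulAut.smul_def]⟩
      have hDN : D ⊔ N = ⊤ := by
        by_contra hne
        obtain ⟨l, -, hl⟩ := inL _ hne _ _ (hC.conj g) hD hgC le_sup_left
        exact hdone ⟨l * g, by rw [map_mul, mul_smul, hl]⟩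
      refine ⟨?_, hDN⟩
      rw [eq_top_iff]
      intro y _
      have hy : π (g * y * g⁻¹) ∈ D.map π := by
        rw [← mem_comap, hcm, hDN]; exact mem_top _
      rw [← hx] at hy
      rw [← hcm, mem_comap]
      have h4 := mem_conj_smul.1 hy
      simpa [π, map_mul, map_inv, mul_assoc] using h4
    have hcore : ∀ A : Subgroup G, (A = C ∨ A = D) → A ≠ ⊤ → A.normalCore = ⊥ := by
      intro A hA hAtop
      by_contra hne
      obtain ⟨h1, h2⟩ := key _ inferInstance hne
      rcases hA with rfl | rfl
      · exact hAtop (by rwa [sup_eq_left.2 (normalCore_le A)] at h1)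
      · exact hAtop (by rwa [sup_eq_left.2 (normalCore_le A)] at h2)
    obtain ⟨N, hN, hNbot, hmin⟩ := H3.exists_minNormal (G := G)
    have := H3.minNormal_comm N hNbot hmin
    have hmax : ∀ A : Subgroup G, (A = C ∨ A = D) → A ≠ ⊤ → IsCoatom A := by
      intro A hA hAtop
      have hsup : A ⊔ N = ⊤ := by
        rcases hA with rfl | rfl
        · exact (key N hN hNbot).1
        · exact (key N hN hNbot).2
      refine ⟨hAtop, fun M hM => ?_⟩
      by_contra hMtop
      have hNM : ¬ N ≤ M := fun h => hMtop (top_le_iff.1 (hsup ▸ sup_le hM.le h))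
      have hnorm : (N ⊓ M).Normal := by
        refine normalizer_eq_top_iff.1 (top_le_iff.1 (hsup.ge.trans (sup_le ?_ ?_)))
        · intro m hm
          rw [mem_normalizer_iff]
          intro x
          have hmM := hM.le hm
          constructor
          · exact fun hx => ⟨hN.conj_mem x hx.1 m, M.mul_mem (M.mul_mem hmM hx.2) (M.inv_mem hmM)⟩
          · intro hx
            have h1 := hN.conj_mem _ hx.1 m⁻¹
            have h2 := M.mul_mem (M.mul_mem (M.inv_mem hmM) hx.2) hmM
            exact ⟨by simpa [mul_assoc] using h1, by simpa [mul_assoc] using h2⟩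
        · intro a ha
          have hcomm : ∀ y ∈ N, a * y * a⁻¹ = y := fun y hy => by
            rw [mul_inv_eq_iff_eq_mul]
            exact congrArg Subtype.val ((IsMulCommutative.is_comm (M := N)).comm ⟨a, ha⟩ ⟨y, hy⟩)
          rw [mem_normalizer_iff]
          intro x
          constructor
          · intro hx; rwa [hcomm x hx.1]
          · intro hx
            have h1 : x ∈ N := by simpa [mul_assoc] using hN.conj_mem _ hx.1 a⁻¹
            rwa [hcomm x h1] at hx
      have hbot := (hmin _ hnorm inf_le_left).resolve_right fun h => hNM (inf_eq_left.1 h)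
      refine hM.ne (le_antisymm hM.le fun m hm => ?_)
      have hm' : m ∈ N ⊔ A := by rw [sup_comm, hsup]; exact mem_top m
      rw [← SetLike.mem_coe, normal_mul] at hm'
      obtain ⟨k, hk, a, ha, rfl⟩ := Set.mem_mul.1 hm'
      have hkM : k ∈ N ⊓ M := ⟨hk, by simpa using M.mul_mem hm (M.inv_mem (hM.le ha))⟩
      rw [hbot, mem_bot] at hkM
      simpa [hkM] using ha
    exact hdone (H3.solvable_corefree_conj C D (hmax C (Or.inl rfl) hCtop) (hmax D (Or.inr rfl) hDtop)
      (hcore C (Or.inl rfl) hCtop) (hcore D (Or.inr rfl) hDtop))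

theorem carter_conj {G : Type*} [Group G] [Finite G] [Group.IsSolvable G] {C D : Subgroup G}
    (hC : IsCarter C) (hD : IsCarter D) : ∃ g : G, MulAut.conj g • C = D :=
  carter_conj_aux _ G rfl C D hC hD

theorem carter_exists_aux.{u} (n : ℕ) : ∀ (G : Type u) [Group G] [Finite G] [Group.IsSolvable G],
    Nat.card G = n → ∃ C : Subgroup G, IsCarter C := by
  induction n using Nat.strong_induction_on with
  | _ n ih =>
    intro G _ _ _ hn
    by_cases hnil : Group.IsNilpotent G
    · exact ⟨⊤, (Group.isNilpotent_congr Subgroup.topEquiv).2 hnil, top_le_iff.1 le_normalizer⟩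
    have : Nontrivial G := by
      by_contra h
      rw [not_nontrivial_iff_subsingleton] at h
      exact hnil inferInstance
    obtain ⟨N, hN, hNbot, hmin⟩ := H3.exists_minNormal (G := G)
    obtain ⟨Cb, hCb⟩ := ih (Nat.card (G ⧸ N)) (by
      rw [← hn, ← Subgroup.index_eq_card, ← N.card_mul_index]
      exact lt_mul_of_one_lt_left (Nat.pos_of_ne_zero N.index_ne_zero_of_finite)
        ((Subgroup.one_lt_card_iff_ne_bot N).2 hNbot)) (G ⧸ N) rfl
    let π := QuotientGroup.mk' N
    set L := Cb.comap π with hLdef
    have hNL : N ≤ L := by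
      intro x hx
      show (x : G ⧸ N) ∈ Cb
      rw [(QuotientGroup.eq_one_iff x).2 hx]; exact one_mem _
    have hLnorm : normalizer (L : Set G) = L := by
      refine le_antisymm ?_ le_normalizer
      intro g hg
      show π g ∈ Cb
      rw [← hCb.2, mem_normalizer_iff]
      intro y
      obtain ⟨y', rfl⟩ := QuotientGroup.mk'_surjective N y
      have h := mem_normalizer_iff.1 hg y'
      simpa [L, π] using h
    by_cases hL : L = ⊤
    · -- `G ⧸ N` is nilpotent
      have hQ : Group.IsNilpotent (G ⧸ N) := by
        have : Cb = ⊤ := by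
          rw [← map_comap_eq_self_of_surjective (QuotientGroup.mk'_surjective N) Cb, ← hLdef, hL,
            ← MonoidHom.range_eq_map, MonoidHom.range_eq_top.2 (QuotientGroup.mk'_surjective N)]
        subst this
        exact (Group.isNilpotent_congr Subgroup.topEquiv).1 hCb.1
      have := H3.minNormal_comm N hNbot hmin
      obtain ⟨M, hM, hMn⟩ : ∃ M : Subgroup G, IsCoatom M ∧ ¬ M.Normal := by
        by_contra hcon
        push Not at hcon
        exact hnil ((Group.isNilpotent_of_finite_tfae.out 0 2 rfl rfl).2 hcon)
      have hNM : ¬ N ≤ M := by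
        intro h
        apply hMn
        have hbar : IsCoatom (M.map π) := by
          refine ⟨fun htop => hM.1 ?_, fun X hX => ?_⟩
          · have := congrArg (Subgroup.comap π) htop
            rwa [comap_map_eq, QuotientGroup.ker_mk', sup_eq_left.2 h, comap_top] at this
          · have hMX : M < X.comap π := by
              refine lt_of_le_of_ne (map_le_iff_le_comap.1 hX.le) fun heq => ?_
              rw [heq, map_comap_eq_self_of_surjective (QuotientGroup.mk'_surjective N)] at hX
              exact lt_irrefl _ hX
            rw [← map_comap_eq_self_of_surjective (QuotientGroup.mk'_surjective N) X, hM.2 _ hMX,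
              map_top_of_surjective _ (QuotientGroup.mk'_surjective N)]
        have hn' : (M.map π).Normal := (Group.isNilpotent_of_finite_tfae.out 0 2 rfl rfl).1 hQ _ hbar
        have h2 : (M.map π).comap π = M := by rw [comap_map_eq, QuotientGroup.ker_mk', sup_eq_left.2 h]
        rw [← h2]
        exact hn'.comap π
      obtain ⟨hc, -, -⟩ := H3.minNormal_complement hNbot hmin hM hNM
      refine ⟨M, (Group.isNilpotent_congr hc.symm.QuotientMulEquiv).1 hQ, ?_⟩
      by_contra hne
      exact hMn (normalizer_eq_top_iff.1 (hM.2 _ (lt_of_le_of_ne le_normalizer (Ne.symm hne))))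
    · obtain ⟨C', hC'⟩ := ih (Nat.card L) (by
        rw [← hn]
        exact lt_of_le_of_ne (Nat.le_of_dvd Nat.card_pos L.card_subgroup_dvd_card)
          (fun h => hL (L.eq_top_of_card_eq h))) L rfl
      set C := C'.map L.subtype with hCdef
      have hCL : C ≤ L := map_subtype_le C'
      have hsub : C.subgroupOf L = C' := comap_map_eq_self_of_injective L.subtype_injective C'
      -- `C` covers `L ⧸ N`
      have hCN : L ≤ C ⊔ N := by
        have hcm : (C.map π).comap π = C ⊔ N := by rw [comap_map_eq, QuotientGroup.ker_mk']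
        rw [← hcm, hLdef]
        refine comap_mono ?_
        have hle : C.map π ≤ Cb := map_le_iff_le_comap.2 hCL
        have hCbn := hCb.1
        have hself : normalizer (((C.map π).subgroupOf Cb) : Set Cb) = (C.map π).subgroupOf Cb := by
          refine le_antisymm ?_ le_normalizer
          intro x hx
          obtain ⟨g, hg⟩ := QuotientGroup.mk'_surjective N (x : G ⧸ N)
          have hgL : g ∈ L := by show π g ∈ Cb; rw [show π g = x from hg]; exact x.2
          -- `g` normalises `C ⊔ N`; compare the two Carter subgroups inside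
          have hgC : MulAut.conj g • C ≤ C ⊔ N := by
            rintro y ⟨c, hc, rfl⟩
            rw [← hcm, mem_comap]
            show π (g * c * g⁻¹) ∈ C.map π
            have := (mem_normalizer_iff.1 hx ⟨π c, hle (mem_map_of_mem π hc)⟩).1 (mem_map_of_mem π hc)
            rw [map_mul, map_mul, map_inv, show π g = x from hg]
            exact this
          have hCNL : C ⊔ N ≤ L := sup_le hCL hNL
          have hgCL : MulAut.conj g • C ≤ L := hgC.trans hCNL
          have hsolv : Group.IsSolvable ((C ⊔ N).subgroupOf L : Subgroup L) := inferInstance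
          have hgC' : IsCarter ((MulAut.conj g • C).subgroupOf L) := by
            have e : (MulAut.conj g • C).subgroupOf L = MulAut.conj (⟨g, hgL⟩ : L) • C' := by
              rw [← hsub]
              ext z
              rw [mem_subgroupOf, mem_conj_smul, mem_conj_smul, mem_subgroupOf]
              rfl
            rw [e]; exact hC'.conj _
          obtain ⟨l, hl⟩ := carter_conj
            (IsCarter.subgroupOf (L := (C ⊔ N).subgroupOf L)
              (hsub.symm ▸ hC' : IsCarter (C.subgroupOf L))
              (fun z hz => (le_sup_left : C ≤ C ⊔ N) hz))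
            (IsCarter.subgroupOf (L := (C ⊔ N).subgroupOf L) hgC' (fun z hz => hgC hz))
          have hl1 := congrArg (Subgroup.map ((C ⊔ N).subgroupOf L).subtype) hl
          rw [H1.map_subtype_conj_smul, map_subgroupOf_eq_of_le ?_, map_subgroupOf_eq_of_le ?_] at hl1
          rotate_left
          · exact fun z hz => hgC hz
          · exact fun z hz => (le_sup_left : C ≤ C ⊔ N) hz
          have h2 : (⟨g, hgL⟩ : L)⁻¹ * (l : L) ∈ normalizer (C' : Set L) := by
            rw [mem_normalizer_iff_map_conj_eq]
            show MulAut.conj ((⟨g, hgL⟩ : L)⁻¹ * (l : L)) • C' = C'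
            rw [map_mul, mul_smul, map_inv, inv_smul_eq_iff]
            conv_lhs => rw [← hsub]
            rw [hl1, ← hsub]
            ext z
            rw [mem_subgroupOf, mem_conj_smul, mem_conj_smul, mem_subgroupOf]
            rfl
          rw [hC'.2, ← hsub, mem_subgroupOf] at h2
          have h3 : g ∈ C ⊔ N := by
            have := (C ⊔ N).mul_mem l.2 ((C ⊔ N).inv_mem (le_sup_left (b := N) h2))
            simpa using this
          rw [mem_subgroupOf, ← show π g = x from hg]
          rw [← hcm] at h3
          exact h3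
        have := eq_top_of_nilpotent_selfnorm hself
        rwa [subgroupOf_eq_top] at this
      refine ⟨C, (Group.isNilpotent_congr (C'.equivMapOfInjective _ L.subtype_injective)).1 hC'.1, ?_⟩
      refine le_antisymm (fun g hg => ?_) le_normalizer
      have hgL : g ∈ L := by
        rw [← hLnorm, le_antisymm hCN (sup_le hCL hNL), mem_normalizer_iff_map_conj_eq]
        show MulAut.conj g • (C ⊔ N) = C ⊔ N
        rw [smul_sup]
        congr 1
        · exact mem_normalizer_iff_map_conj_eq.1 hg
        · exact mem_normalizer_iff_map_conj_eq.1 ((normalizer_eq_top_iff.2 hN).symm ▸ mem_top g)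
      have h2 : (⟨g, hgL⟩ : L) ∈ normalizer (C' : Set L) := by
        rw [mem_normalizer_iff]
        intro y
        rw [← hsub]
        exact mem_normalizer_iff.1 hg y
      rw [hC'.2] at h2
      exact ⟨_, h2, rfl⟩

theorem carter_exists (G : Type*) [Group G] [Finite G] [Group.IsSolvable G] :
    ∃ C : Subgroup G, IsCarter C :=
  carter_exists_aux _ G rfl

end H2
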