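import Mathlib.GroupTheory.GroupAction.Quotient
import Mathlib.Algebra.Order.BigOperators.Group.Finset
import Mathlib.Tactic.Linarith
import Mathlib.Algebra.BigOperators.Ring.Finset

/-!
# Transitive groups whose derangements are involutions

Counting the points fixed by squares against the rank shows that every other nonidentity element
fixes exactly one point.
-/

set_option autoImplicit false
set_option linter.style.haveILetI false
set_option linter.unusedSectionVars false

namespace H2.DerangeInvol

open MulAction Finset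

variable {G Ω : Type*} [Group G] [Fintype G] [MulAction G Ω] [Fintype Ω] [DecidableEq Ω]

/-- The number of fixed points. -/
def fixCount (g : G) : ℕ := #{a : Ω | g • a = a}

theorem sum_fixCount [IsPretransitive G Ω] [Nonempty Ω] :
    ∑ g : G, fixCount (Ω := Ω) g = Fintype.card G := by
  classical
  haveI : ∀ g : G, Fintype (fixedBy Ω g) := fun g => Fintype.ofFinite _
  haveI : Fintype (Quotient (orbitRel G Ω)) := Fintype.ofFinite _
  have h := sum_card_fixedBy_eq_card_orbits_mul_card_group G Ω
  have h1 : Fintype.card (Quotient (orbitRel G Ω)) = 1 := by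
    haveI : Subsingleton (Quotient (orbitRel G Ω)) := ⟨fun a b => by
      induction a using Quotient.inductionOn
      induction b using Quotient.inductionOn
      rename_i a b
      exact Quotient.sound (by
        obtain ⟨g, hg⟩ := exists_smul_eq G b a
        exact ⟨g, hg⟩)⟩
    exact Fintype.card_eq_one_iff.2 ⟨Quotient.mk _ (Classical.arbitrary Ω),
      fun y => Subsingleton.elim _ _⟩
  rw [h1, one_mul] at h
  rw [← h]
  refine sum_congr rfl fun g _ => ?_
  rw [Fintype.card_subtype]
  rfl

theorem sum_fixCount_sq_le :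
    ∑ g : G, fixCount (Ω := Ω) (g ^ 2) ≤ ∑ g : G, fixCount (Ω := Ω) g ^ 2 := by
  classical
  have h1 : ∀ g : G, fixCount (Ω := Ω) (g ^ 2) =
      #{q : Ω × Ω | g • q.1 = q.2 ∧ g • q.2 = q.1} := by
    intro g
    refine card_bij (fun a _ => (a, g • a)) (fun a ha => ?_) (fun a _ b _ hab => (Prod.ext_iff.1 hab).1)
      fun q hq => ?_
    · simp only [mem_filter, mem_univ, true_and] at ha ⊢
      rwa [smul_smul, ← pow_two]
    · simp only [mem_filter, mem_univ, true_and] at hq
      refine ⟨q.1, ?_, Prod.ext rfl hq.1⟩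
      simp only [mem_filter, mem_univ, true_and]
      rw [pow_two, ← smul_smul, hq.1, hq.2]
  have h2 : ∀ g : G, fixCount (Ω := Ω) g ^ 2 =
      #{q : Ω × Ω | g • q.1 = q.1 ∧ g • q.2 = q.2} := by
    intro g
    rw [pow_two, fixCount, ← card_product]
    refine congrArg Finset.card ?_
    ext q
    simp
  rw [sum_congr rfl fun g _ => h1 g, sum_congr rfl fun g _ => h2 g]
  simp only [card_filter]
  rw [sum_comm, sum_comm (s := (univ : Finset G))]
  refine sum_le_sum fun q _ => ?_
  rw [← card_filter, ← card_filter]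
  rcases eq_empty_or_nonempty ({g : G | g • q.1 = q.2 ∧ g • q.2 = q.1} : Finset G) with he | ⟨h, hh⟩
  · rw [he]; exact Nat.zero_le _
  · simp only [mem_filter, mem_univ, true_and] at hh
    refine card_le_card_of_injOn (fun g => h⁻¹ * g) (fun g hg => ?_) (fun a _ b _ e => mul_left_cancel e)
    simp only [coe_filter, mem_univ, true_and, Set.mem_setOf_eq] at hg ⊢
    exact ⟨by rw [mul_smul, hg.1, inv_smul_eq_iff, hh.1],
      by rw [mul_smul, hg.2, inv_smul_eq_iff, hh.2]⟩

theorem eq_one_of_two_fixed [IsPretransitive G Ω] [FaithfulSMul G Ω]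
    (hinv : ∀ g : G, (∀ ω : Ω, g • ω ≠ ω) → g ^ 2 = 1)
    {g : G} {a b : Ω} (hab : a ≠ b) (ha : g • a = a) (hb : g • b = b) : g = 1 := by
  classical
  haveI : Nonempty Ω := ⟨a⟩
  set n := Fintype.card Ω
  let π : G → ℕ := fun x => fixCount (Ω := Ω) x
  let ε : G → ℕ := fun x => if π x = 0 then 0 else n
  let δ : G → ℕ := fun x => if π x = 0 then n else 0
  have hle : ∀ x, π x ≤ n := fun x => card_le_univ _
  have hsq : ∀ x, π x + δ x ≤ fixCount (Ω := Ω) (x ^ 2) := by
    intro x
    by_cases h0 : π x = 0
    · have hx : x ^ 2 = 1 := hinv x fun ω hω => by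
        have hmem : ω ∈ ({a : Ω | x • a = a} : Finset Ω) := by simpa using hω
        exact (card_ne_zero_of_mem hmem) h0
      simp only [δ, if_pos h0, h0, zero_add, hx]
      refine le_of_eq ?_
      simp [fixCount, n]
    · simp only [δ, if_neg h0, add_zero]
      refine card_le_card fun ω hω => ?_
      simp only [mem_filter, mem_univ, true_and] at hω ⊢
      rw [pow_two, ← smul_smul, hω, hω]
  have hterm : ∀ x, π x ^ 2 + ε x ≤ (n + 1) * π x := by
    intro x
    by_cases h0 : π x = 0
    · simp [ε, h0]
    · simp only [ε, if_neg h0]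
      have h1 : 1 ≤ π x := Nat.one_le_iff_ne_zero.2 h0
      nlinarith [hle x]
  have hg2 : 2 ≤ π g := by
    have hsub : ({a, b} : Finset Ω) ⊆ ({ω : Ω | g • ω = ω} : Finset Ω) := by
      intro ω hω
      simp only [mem_insert, Finset.mem_singleton] at hω
      rcases hω with rfl | rfl <;> simp [ha, hb]
    exact (card_pair hab).ge.trans (card_le_card hsub)
  by_contra hg
  have hgn : π g < n := by
    refine lt_of_le_of_ne (hle g) fun e => hg (FaithfulSMul.eq_of_smul_eq_smul (α := Ω) fun ω => ?_)
    have hu := eq_univ_of_card _ e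
    have : ω ∈ ({ω : Ω | g • ω = ω} : Finset Ω) := hu.symm ▸ mem_univ ω
    rw [one_smul]
    simpa using this
  have hstrict : ∑ x : G, (π x ^ 2 + ε x) < ∑ x : G, (n + 1) * π x := by
    refine sum_lt_sum (fun x _ => hterm x) ⟨g, mem_univ g, ?_⟩
    simp only [ε, if_neg (show π g ≠ 0 by omega)]
    nlinarith
  have h1 : ∑ x : G, (π x + δ x + ε x) ≤ ∑ x : G, (π x ^ 2 + ε x) := by
    rw [sum_add_distrib, sum_add_distrib (f := fun x => π x ^ 2)]
    exact Nat.add_le_add_right ((sum_le_sum fun x _ => hsq x).trans sum_fixCount_sq_le) _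
  have h2 : ∑ x : G, (π x + δ x + ε x) = Fintype.card G + Fintype.card G * n := by
    have : ∀ x, π x + δ x + ε x = π x + n := fun x => by
      by_cases h0 : π x = 0 <;> simp [δ, ε, h0]
    rw [sum_congr rfl fun x _ => this x, sum_add_distrib, sum_fixCount, sum_const, card_univ,
      smul_eq_mul]
  have h3 : ∑ x : G, (n + 1) * π x = (n + 1) * Fintype.card G := by
    rw [← Finset.mul_sum, sum_fixCount]
  rw [h3] at hstrict
  rw [h2] at h1
  nlinarith

end H2.DerangeInvol
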