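import Mathlib

/-!
Galois descent with the normal basis theorem: a semilinear module for a finite group acting
faithfully on a field is free over that group.
-/

set_option autoImplicit false
set_option linter.style.haveILetI false

namespace H2

open Finset

/-- A faithful finite group of automorphisms of a field `L` has an element `θ` such that every
semilinear module `U` is freely generated by `θ • U^S`. -/
theorem semilinear_free {S : Type*} [Group S] [Fintype S] {L : Type*} [Field L] {U : Type*}
    [AddCommGroup U] [Module L U] (φ : S →* RingAut L) (hφ : Function.Injective φ)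
    (T : S →* AddMonoid.End U) (hT : ∀ (s : S) (l : L) (u : U), T s (l • u) = φ s l • T s u) :
    ∃ θ : L, Function.Bijective
      (fun f : S → {u : U // ∀ t, T t u = u} => ∑ s, φ s θ • (f s : U)) := by
  classical
  letI : MulSemiringAction S L := MulSemiringAction.compHom L φ
  have hsmul : ∀ (s : S) (l : L), s • l = φ s l := fun _ _ => rfl
  haveI : FaithfulSMul S L := ⟨fun {s t} h => hφ (RingEquiv.ext fun l => h l)⟩
  let K := FixedPoints.subfield S L
  obtain ⟨θ, hθ⟩ : ∃ θ : L, ∀ f g : L →ₗ[K] L, (∀ s : S, f (φ s θ) = g (φ s θ)) → f = g := by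
    refine ⟨IsGalois.normalBasis K L 1, fun f g h => (IsGalois.normalBasis K L).ext fun e => ?_⟩
    obtain ⟨s, rfl⟩ := (FixedPoints.toAlgAut_bijective S L).2 e
    rw [IsGalois.normalBasis_apply]
    exact h s
  let M : Matrix S S L := Matrix.of fun r s => φ r (φ s θ)
  have hM : IsUnit M := by
    rw [← Matrix.linearIndependent_rows_iff_isUnit, Fintype.linearIndependent_iff]
    intro c hc
    have hz : ∑ r, c r • (MulSemiringAction.toAlgHom K L r : L →ₐ[K] L).toLinearMap = 0 := by
      refine hθ _ _ fun s => ?_
      have h1 := congrFun hc s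
      simpa [M, Matrix.row, Finset.sum_apply, LinearMap.sum_apply, hsmul] using h1
    have hli : LinearIndependent L fun (r : S) => ((φ r).toMonoidHom : L → L) := by
      refine (linearIndependent_monoidHom L L).comp (fun r => (φ r).toRingHom.toMonoidHom) ?_
      intro r t h
      exact hφ (RingEquiv.ext fun l => DFunLike.congr_fun h l)
    rw [Fintype.linearIndependent_iff] at hli
    refine hli c (funext fun l => ?_)
    have h1 := LinearMap.congr_fun hz l
    simpa [Finset.sum_apply, LinearMap.sum_apply, hsmul] using h1
  have hdet := (Matrix.isUnit_iff_isUnit_det M).mp hM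
  -- solving the linear system in `U`
  let N : Matrix S S L := M⁻¹
  have hMN : M * N = 1 := Matrix.mul_nonsing_inv M hdet
  have hNM : N * M = 1 := Matrix.nonsing_inv_mul M hdet
  have hsolve : ∀ (P Q : Matrix S S L), P * Q = 1 → ∀ (x : S → U) (i : S),
      ∑ j, P i j • ∑ k, Q j k • x k = x i := by
    intro P Q h x i
    simp only [Finset.smul_sum, smul_smul]
    rw [Finset.sum_comm]
    simp only [← Finset.sum_smul, ← Matrix.mul_apply, h, Matrix.one_apply, ite_smul, one_smul,
      zero_smul, Finset.sum_ite_eq, Finset.mem_univ, if_true]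
  have hT2 : ∀ (r s : S) (u : U), T r (T s u) = T (r * s) u := fun r s u => by
    rw [map_mul]; rfl
  have hφ2 : ∀ (r s : S) (l : L), φ r (φ s l) = φ (r * s) l := fun r s l => by
    rw [map_mul]; rfl
  have hTsum : ∀ (r : S) (f : S → {u : U // ∀ t, T t u = u}),
      T r (∑ s, φ s θ • (f s : U)) = ∑ s, M r s • (f s : U) := fun r f => by
    rw [map_sum]
    exact Finset.sum_congr rfl fun s _ => by rw [hT, (f s).2 r]; rfl
  refine ⟨θ, fun f g h => ?_, fun v => ?_⟩
  · funext i
    refine Subtype.ext ?_
    have h2 : ∀ r, ∑ s, M r s • (f s : U) = ∑ s, M r s • (g s : U) := fun r => by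
      rw [← hTsum, ← hTsum]; exact congrArg (T r) h
    rw [← hsolve N M hNM (fun s => (f s : U)) i, ← hsolve N M hNM (fun s => (g s : U)) i]
    exact Finset.sum_congr rfl fun r _ => by rw [h2]
  · let x : S → U := fun s => ∑ r, N s r • T r v
    have hx : ∀ r, ∑ s, M r s • x s = T r v := fun r => hsolve M N hMN (fun r => T r v) r
    have hfix : ∀ t s, T t (x s) = x s := by
      intro t s
      have h3 : ∀ r, ∑ j, M r j • T t (x j) = T r v := by
        intro r
        have h4 := congrArg (T t) (hx (t⁻¹ * r))
        rw [map_sum, hT2, mul_inv_cancel_left] at h4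
        rw [← h4]
        refine Finset.sum_congr rfl fun j _ => ?_
        rw [hT]
        congr 1
        change φ r (φ j θ) = φ t (φ (t⁻¹ * r) (φ j θ))
        rw [hφ2 t, mul_inv_cancel_left]
      rw [← hsolve N M hNM (fun j => T t (x j)) s]
      exact Finset.sum_congr rfl fun r _ => by rw [h3]
    refine ⟨fun s => ⟨x s, fun t => hfix t s⟩, ?_⟩
    have h1 := hx 1
    rw [map_one] at h1
    refine Eq.trans ?_ h1
    refine Finset.sum_congr rfl fun s _ => ?_
    change φ s θ • x s = φ 1 (φ s θ) • x s
    rw [hφ2, one_mul]

end H2
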