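import Mathlib
import Cfsg.Agent.H83.PrimeAction
import Cfsg.Agent.H2.SemilinearFree

/-!
If a group `H` acts without fixed points on a solvable group `N` of order invertible in `k`, and
both act compatibly on a finite-dimensional `k`-space without `N`-fixed vectors, then the space
is a free `k[H]`-module.
-/

set_option autoImplicit false
set_option linter.style.haveILetI false

namespace H2

open Finset
open scoped commutatorElement

universe u w

/-- `V` is free over `H`: it is the direct sum of the translates of a subspace. -/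
def IsFreeRep {k : Type*} [Field k] {V : Type*} [AddCommGroup V] [Module k V] {H : Type*} [Group H]
    [Fintype H] (T : H →* Module.End k V) : Prop :=
  ∃ W : Submodule k V, Function.Bijective (fun f : H → W => ∑ h, T h (f h : V))

variable {k : Type*} [Field k] {H : Type*} [Group H] [Fintype H]

theorem isFreeRep_of_map {V : Type*} [AddCommGroup V] [Module k V] (T : H →* Module.End k V)
    {U : Type*} [AddCommGroup U] [Module k U] (ι : U →ₗ[k] V)
    (hι : Function.Bijective (fun f : H → U => ∑ h, T h (ι (f h)))) : IsFreeRep T := by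
  refine ⟨LinearMap.range ι, fun f g hfg => ?_, fun v => ?_⟩
  · choose f' hf' using fun h => LinearMap.mem_range.mp (f h).2
    choose g' hg' using fun h => LinearMap.mem_range.mp (g h).2
    have h1 : f' = g' := hι.1 (by simpa [hf', hg'] using hfg)
    funext h
    exact Subtype.ext (by rw [← hf', ← hg', h1])
  · obtain ⟨f, hf⟩ := hι.2 v
    exact ⟨fun h => ⟨ι (f h), LinearMap.mem_range_self ι _⟩, hf⟩

/-- Extensions of free modules are free. -/
theorem isFreeRep_of_extension {V : Type*} [AddCommGroup V] [Module k V] (T : H →* Module.End k V)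
    (W : Submodule k V) (hW : ∀ g, ∀ v ∈ W, T g v ∈ W)
    (h1 : IsFreeRep (H83.subRep T W hW)) (h2 : IsFreeRep (H83.quotRep T W hW)) : IsFreeRep T := by
  obtain ⟨W1, hW1⟩ := h1
  obtain ⟨W2, hW2⟩ := h2
  obtain ⟨σ, hσ⟩ := W.mkQ.exists_rightInverse_of_surjective (Submodule.range_mkQ W)
  have hσ' : ∀ q, W.mkQ (σ q) = q := fun q => LinearMap.congr_fun hσ q
  refine isFreeRep_of_map T ((W.subtype.comp W1.subtype).coprod (σ.comp W2.subtype)) ⟨?_, ?_⟩
  · intro f g hfg
    simp only [LinearMap.coprod_apply, LinearMap.comp_apply, Submodule.subtype_apply, map_add,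
      Finset.sum_add_distrib] at hfg
    have hq : ∀ f : H → W1 × W2, W.mkQ (∑ h, T h ((f h).1 : W) + ∑ h, T h (σ ((f h).2 : V ⧸ W))) =
        ∑ h, H83.quotRep T W hW h ((f h).2 : V ⧸ W) := by
      intro f
      rw [map_add, map_sum, map_sum]
      have h0 : ∀ h, W.mkQ (T h ((f h).1 : W)) = 0 := fun h =>
        (Submodule.Quotient.mk_eq_zero W).mpr (hW h _ ((f h).1 : W).2)
      simp only [h0, Finset.sum_const_zero, zero_add]
      refine Finset.sum_congr rfl fun h _ => ?_
      conv_rhs => rw [← hσ' ((f h).2 : V ⧸ W)]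
      rfl
    have e2 : (fun h => (f h).2) = fun h => (g h).2 := hW2.1 (by
      change ∑ h, H83.quotRep T W hW h _ = ∑ h, H83.quotRep T W hW h _
      rw [← hq, ← hq, hfg])
    have e2' : ∀ h, (f h).2 = (g h).2 := congrFun e2
    simp only [e2', add_left_inj] at hfg
    have e1 : (fun h => (f h).1) = fun h => (g h).1 := hW1.1 (Subtype.ext (by
      simp only [Submodule.coe_sum]
      exact hfg))
    funext h
    exact Prod.ext (congrFun e1 h) (e2' h)
  · intro v
    obtain ⟨f2, hf2⟩ := hW2.2 (W.mkQ v)
    have hmem : v - ∑ h, T h (σ (f2 h : V ⧸ W)) ∈ W := by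
      rw [← Submodule.Quotient.mk_eq_zero W, ← Submodule.mkQ_apply, map_sub, map_sum, sub_eq_zero]
      rw [← hf2]
      refine Finset.sum_congr rfl fun h _ => ?_
      conv_lhs => rw [← hσ' (f2 h : V ⧸ W)]
      rfl
    obtain ⟨f1, hf1⟩ := hW1.2 ⟨_, hmem⟩
    refine ⟨fun h => (f1 h, f2 h), ?_⟩
    simp only [LinearMap.coprod_apply, LinearMap.comp_apply, Submodule.subtype_apply, map_add,
      Finset.sum_add_distrib]
    have h3 : ∑ h, T h ((f1 h : W) : V) = v - ∑ h, T h (σ (f2 h : V ⧸ W)) := by
      have h4 := congrArg Subtype.val hf1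
      simp only [Submodule.coe_sum] at h4
      exact h4
    rw [h3, sub_add_cancel]

/-- The critical case: the images of `N` commute and `N, H` act irreducibly. -/
theorem isFreeRep_irreducible {V : Type*} [AddCommGroup V] [Module k V] [FiniteDimensional k V]
    [Nontrivial V] {N : Type*} [Group N] [Finite N] (P : N →* Module.End k V)
    (T : H →* Module.End k V) (α : H →* MulAut N)
    (hPT : ∀ h n, T h * P n * T h⁻¹ = P (α h n)) (hfpf : ∀ h, h ≠ 1 → ∀ n, α h n = n → n = 1)
    (hcomm : ∀ a b, Commute (P a) (P b)) (hfix : ∀ v, (∀ n, P n v = v) → v = 0)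
    (hirr : ∀ W : Submodule k V, (∀ n, ∀ v ∈ W, P n v ∈ W) → (∀ h, ∀ v ∈ W, T h v ∈ W) →
      W = ⊥ ∨ W = ⊤) : IsFreeRep T := by
  classical
  -- the commutative algebra generated by the image of `N`
  let E : Subalgebra k (Module.End k V) := Algebra.adjoin k (Set.range P)
  have hEc : IsMulCommutative E := Algebra.isMulCommutative_adjoin k (by
    rintro _ ⟨a, rfl⟩ _ ⟨b, rfl⟩
    exact hcomm a b)
  letI : CommRing E := { (inferInstance : Ring E) with mul_comm := fun a b => hEc.is_comm.comm a b }
  have hTT : ∀ g h : H, ∀ v, T g (T h v) = T (g * h) v := fun g h v => by rw [map_mul]; rfl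
  have hEinv : ∀ (h : H) (x : Module.End k V), x ∈ E → T h * x * T h⁻¹ ∈ E := by
    intro h x hx
    induction hx using Algebra.adjoin_induction with
    | mem x hx =>
      obtain ⟨n, rfl⟩ := hx
      rw [hPT]
      exact Algebra.subset_adjoin ⟨_, rfl⟩
    | algebraMap r =>
      rw [← Algebra.commutes r (T h), mul_assoc, ← map_mul, mul_inv_cancel, map_one, mul_one]
      exact Subalgebra.algebraMap_mem _ r
    | add x y _ _ hx hy => rw [mul_add, add_mul]; exact add_mem hx hy
    | mul x y _ _ hx hy =>
      have : T h * (x * y) * T h⁻¹ = (T h * x * T h⁻¹) * (T h * y * T h⁻¹) := by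
        simp only [mul_assoc]
        rw [← mul_assoc (T h⁻¹) (T h), ← map_mul, inv_mul_cancel, map_one, one_mul]
      rw [this]; exact mul_mem hx hy
  let σf : H → E → E := fun h e => ⟨T h * (e : Module.End k V) * T h⁻¹, hEinv h e e.2⟩
  have hσ1 : ∀ e, σf 1 e = e := fun e => Subtype.ext (by simp [σf, map_one])
  have hσm : ∀ g h e, σf g (σf h e) = σf (g * h) e := fun g h e => Subtype.ext (by
    simp [σf, map_mul, mul_inv_rev, mul_assoc])
  let σe : H → (E ≃+* E) := fun h =>
    { toFun := σf h
      invFun := σf h⁻¹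
      left_inv := fun e => by rw [hσm, inv_mul_cancel, hσ1]
      right_inv := fun e => by rw [hσm, mul_inv_cancel, hσ1]
      map_mul' := fun x y => Subtype.ext (by
        change T h * (x.1 * y.1) * T h⁻¹ = (T h * x.1 * T h⁻¹) * (T h * y.1 * T h⁻¹)
        simp only [mul_assoc]
        rw [← mul_assoc (T h⁻¹) (T h), ← map_mul, inv_mul_cancel, map_one, one_mul])
      map_add' := fun x y => Subtype.ext (by
        change T h * (x.1 + y.1) * T h⁻¹ = T h * x.1 * T h⁻¹ + T h * y.1 * T h⁻¹
        rw [mul_add, add_mul]) }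
  have hσe : ∀ h e, σe h e = σf h e := fun _ _ => rfl
  have hTe : ∀ (h : H) (e : E) (v : V), T h (e.1 v) = (σf h e).1 (T h v) := fun h e v => by
    change _ = T h (e.1 (T h⁻¹ (T h v)))
    rw [hTT, inv_mul_cancel, map_one]; rfl
  -- a maximal ideal killing a nonzero vector
  haveI : IsScalarTower k E V := ⟨fun c e v => rfl⟩
  haveI : IsArtinian E V := isArtinian_of_tower k inferInstance
  obtain ⟨M, hM0, hMmin⟩ := (wellFounded_lt (α := Submodule E V)).has_min {M | M ≠ ⊥}
    ⟨⊤, top_ne_bot⟩
  obtain ⟨u, hu, hu0⟩ := Submodule.exists_mem_ne_zero_of_ne_bot hM0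
  let m : Ideal E := LinearMap.ker (LinearMap.toSpanSingleton E V u)
  have hmu : ∀ e : E, e ∈ m ↔ e • u = 0 := fun e => Iff.rfl
  have hmmax : m.IsMaximal := by
    rw [Ideal.isMaximal_iff]
    refine ⟨fun h => hu0 (by simpa using (hmu 1).mp h), fun J x hJ hx hxJ => ?_⟩
    have hne : Submodule.span E {x • u} ≠ ⊥ := by
      rw [Ne, Submodule.span_singleton_eq_bot]
      exact hx
    have hle : Submodule.span E {x • u} ≤ M :=
      Submodule.span_le.mpr (Set.singleton_subset_iff.mpr (M.smul_mem x hu))
    have heq : Submodule.span E {x • u} = M := by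
      by_contra h
      exact hMmin _ hne (lt_of_le_of_ne hle h)
    rw [← heq, Submodule.mem_span_singleton] at hu
    obtain ⟨c, hc⟩ := hu
    have h1 : c * x - 1 ∈ m := by rw [hmu, sub_smul, one_smul, mul_smul, hc, sub_self]
    have h2 : (1 : E) = c * x - (c * x - 1) := by abel
    rw [h2]
    exact J.sub_mem (J.mul_mem_left c hxJ) (hJ h1)
  let U : Submodule E V := Submodule.torsionBySet E V (m : Set E)
  have hUmem : ∀ v, v ∈ U ↔ ∀ e ∈ m, e • v = 0 := fun v => by
    rw [Submodule.mem_torsionBySet_iff]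
    exact ⟨fun h e he => h ⟨e, he⟩, fun h e => h e e.2⟩
  have huU : u ∈ U := (hUmem u).mpr fun e he => he
  -- the stabiliser of `m`
  let S : Subgroup H :=
    { carrier := {h | ∀ e, σf h e ∈ m ↔ e ∈ m}
      one_mem' := fun e => by rw [hσ1]
      mul_mem' := fun {a b} ha hb e => by rw [← hσm, ha, hb]
      inv_mem' := fun {a} ha e => by
        conv_rhs => rw [← hσ1 e, ← mul_inv_cancel a, ← hσm]
        rw [ha] }
  have hSU : ∀ s ∈ S, ∀ v ∈ U, T s v ∈ U := by
    intro s hs v hv
    rw [hUmem] at hv ⊢
    intro e he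
    have h1 : σf s⁻¹ e ∈ m := ((S.inv_mem hs) e).mpr he
    have h2 := congrArg (T s) (hv _ h1)
    change T s ((σf s⁻¹ e).1 v) = T s 0 at h2
    rwa [hTe, hσm, mul_inv_cancel, hσ1, map_zero] at h2
  letI : Field (E ⧸ m) := Ideal.Quotient.field m
  letI : Module (E ⧸ m) U :=
    Module.IsTorsionBySet.module (Submodule.torsionBySet_isTorsionBySet (m : Set E))
  have hmk : ∀ (e : E) (v : U), (((Ideal.Quotient.mk m e) • v : U) : V) = e.1 v := fun _ _ => rfl
  let qe : S → (E ⧸ m ≃+* E ⧸ m) := fun s => Ideal.quotientEquiv m m (σe s) (by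
    ext e
    refine Iff.trans ?_ (Ideal.mem_map_iff_of_surjective (f := ((σe s : E ≃+* E) : E →+* E)) (σe s).surjective).symm
    constructor
    · intro he
      exact ⟨σf (s : H)⁻¹ e, ((S.inv_mem s.2) e).mpr he, by
        change σf _ (σf _ e) = e
        rw [hσm, mul_inv_cancel, hσ1]⟩
    · rintro ⟨x, hx, rfl⟩
      exact (s.2 x).mpr hx)
  have hqe : ∀ s e, qe s (Ideal.Quotient.mk m e) = Ideal.Quotient.mk m (σf s e) := fun _ _ => rfl
  let φ : S →* RingAut (E ⧸ m) :=
    { toFun := qe
      map_one' := RingEquiv.ext fun x => by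
        obtain ⟨e, rfl⟩ := Ideal.Quotient.mk_surjective x
        rw [hqe, OneMemClass.coe_one, hσ1]; rfl
      map_mul' := fun a b => RingEquiv.ext fun x => by
        obtain ⟨e, rfl⟩ := Ideal.Quotient.mk_surjective x
        rw [hqe, Subgroup.coe_mul, ← hσm]; rfl }
  let TS : S →* AddMonoid.End U :=
    { toFun := fun s =>
        { toFun := fun v => ⟨T s v, hSU s s.2 v v.2⟩
          map_zero' := Subtype.ext (map_zero (T s))
          map_add' := fun x y => Subtype.ext (map_add (T s) _ _) }
      map_one' := AddMonoidHom.ext fun v => Subtype.ext (by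
        change T ((1 : S) : H) (v : V) = v
        rw [OneMemClass.coe_one, map_one]; rfl)
      map_mul' := fun a b => AddMonoidHom.ext fun v => Subtype.ext (by
        change T ((a * b : S) : H) (v : V) = T a (T b v)
        rw [hTT, Subgroup.coe_mul]) }
  have hφinj : Function.Injective φ := by
    rw [injective_iff_map_eq_one]
    intro s hs
    by_contra hs1
    refine hu0 (hfix u fun n => ?_)
    let d : N → N := fun b => b⁻¹ * α (s : H) b
    have hd : Function.Injective d := by
      intro a b hab
      have hab' : a⁻¹ * α (s : H) a = b⁻¹ * α (s : H) b := hab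
      have h1 : α (s : H) (b * a⁻¹) = b * a⁻¹ := by
        rw [map_mul, map_inv]
        calc α (s : H) b * (α (s : H) a)⁻¹
            = b * (b⁻¹ * α (s : H) b) * (a⁻¹ * α (s : H) a)⁻¹ * a⁻¹ := by group
          _ = b * a⁻¹ := by rw [hab']; group
      exact (mul_inv_eq_one.mp (hfpf s (fun e => hs1 (Subtype.ext e)) _ h1)).symm
    obtain ⟨b, rfl⟩ := Finite.injective_iff_surjective.mp hd n
    have hb : P b ∈ E := Algebra.subset_adjoin ⟨b, rfl⟩
    have h1 : Ideal.Quotient.mk m (σf s ⟨P b, hb⟩) = Ideal.Quotient.mk m ⟨P b, hb⟩ := by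
      rw [← hqe]
      exact RingEquiv.congr_fun hs _
    rw [Ideal.Quotient.eq, hmu, sub_smul, sub_eq_zero] at h1
    change (T s * P b * T (s : H)⁻¹) u = P b u at h1
    rw [hPT] at h1
    change P (b⁻¹ * α (s : H) b) u = u
    rw [map_mul, Module.End.mul_apply, h1, ← Module.End.mul_apply, ← map_mul, inv_mul_cancel,
      map_one]
    rfl
  have hT : ∀ (s : S) (l : E ⧸ m) (v : U), TS s (l • v) = φ s l • TS s v := by
    intro s l v
    obtain ⟨e, rfl⟩ := Ideal.Quotient.mk_surjective l
    refine Subtype.ext ?_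
    change T s (e.1 (v : V)) = (σf s e).1 (T s v)
    exact hTe _ _ _
  obtain ⟨θ, hθ⟩ := semilinear_free φ hφinj TS hT
  obtain ⟨t, rfl⟩ := Ideal.Quotient.mk_surjective θ
  let Wk : Submodule k V :=
    { carrier := {v | v ∈ U ∧ ∀ s ∈ S, T s v = v}
      zero_mem' := ⟨U.zero_mem, fun s _ => map_zero _⟩
      add_mem' := fun {a b} ha hb => ⟨U.add_mem ha.1 hb.1,
        fun s hs => by rw [map_add, ha.2 s hs, hb.2 s hs]⟩
      smul_mem' := fun c a ha => ⟨by
          have h1 := U.smul_mem (algebraMap k E c) ha.1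
          exact h1, fun s hs => by rw [map_smul, ha.2 s hs]⟩ }
  have hθterm : ∀ (s : S) (v : Wk) , (((φ s (Ideal.Quotient.mk m t)) • (⟨v.1, v.2.1⟩ : U) : U) : V) =
      T s (t.1 v.1) := by
    intro s v
    change (σf s t).1 v.1 = _
    rw [hTe, v.2.2 s s.2]
  have htU : ∀ v : Wk, t.1 v.1 ∈ U := fun v => U.smul_mem t v.2.1
  -- the orbit decomposition
  let ι : Wk →ₗ[k] V := (t.1).domRestrict Wk
  refine isFreeRep_of_map T ι ⟨?_, ?_⟩
  · intro f f' hff
    rw [← sub_eq_zero] at hff
    simp only [← Finset.sum_sub_distrib, ← map_sub] at hff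
    funext g
    rw [← sub_eq_zero]
    generalize hF : (fun h => f h - f' h) = F
    have hFs : ∑ h, T h (ι (F h)) = 0 := by rw [← hF]; exact hff
    suffices hzero : F g = 0 by rw [← hF] at hzero; exact hzero
    clear hff hF f f'
    -- a separating element
    have hsep : ∀ h : H, g⁻¹ * h ∉ S → ∃ e : E, σf h⁻¹ e ∈ m ∧ σf g⁻¹ e ∉ m := by
      intro h hh
      by_contra hcon
      push Not at hcon
      haveI := hmmax
      have hle : m.comap (σe h⁻¹).toRingHom ≤ m.comap (σe g⁻¹).toRingHom := fun e he => hcon e he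
      have h1 : m.comap (σe h⁻¹).toRingHom = m.comap (σe g⁻¹).toRingHom :=
        (Ideal.comap_isMaximal_of_surjective (σe h⁻¹).toRingHom (σe h⁻¹).surjective).eq_of_le
          (Ideal.comap_isMaximal_of_surjective (σe g⁻¹).toRingHom
            (σe g⁻¹).surjective).ne_top hle
      refine hh fun e => ?_
      have h2 := SetLike.ext_iff.mp h1 (σf h e)
      change σf h⁻¹ (σf h e) ∈ m ↔ σf g⁻¹ (σf h e) ∈ m at h2
      rw [hσm, inv_mul_cancel, hσ1, hσm] at h2
      exact h2.symm
    choose! sep hsep1 hsep2 using hsep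
    let e : E := ∏ h ∈ Finset.univ.filter (fun h : H => g⁻¹ * h ∉ S), sep h
    have he1 : ∀ h, g⁻¹ * h ∉ S → σf h⁻¹ e ∈ m := by
      intro h hh
      rw [← hσe]
      rw [map_prod]
      exact Ideal.prod_mem _ (Finset.mem_filter.mpr ⟨Finset.mem_univ h, hh⟩) (hsep1 h hh)
    have he2 : σf g⁻¹ e ∉ m := by
      rw [← hσe, map_prod]
      intro hmem
      obtain ⟨h, hh, hh'⟩ := (hmmax.isPrime.prod_mem_iff).mp hmem
      exact hsep2 h (Finset.mem_filter.mp hh).2 hh'
    set e' := σf g⁻¹ e with he'
    have hTe' : ∀ (h : H) (v : V), e.1 (T h v) = T h ((σf h⁻¹ e).1 v) := fun h v => by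
      rw [hTe, hσm, mul_inv_cancel, hσ1]
    have h0 : ∑ h, T h ((σf h⁻¹ e).1 (ι (F h))) = 0 := by
      simp only [← hTe', ← map_sum, hFs, map_zero]
    let w : U := ∑ s : S, φ s (Ideal.Quotient.mk m t) • (⟨(F (g * s)).1, (F (g * s)).2.1⟩ : U)
    have hw : (w : V) = ∑ s : S, T s (ι (F (g * s))) := by
      simp only [w, Submodule.coe_sum, hθterm]
      rfl
    have h1 : T g (e'.1 (w : V)) = 0 := by
      rw [hw, map_sum, map_sum, ← h0]
      refine Fintype.sum_of_injective (fun s : S => g * (s : H))
        (fun a b h => Subtype.ext (mul_left_cancel h)) _ _ ?_ ?_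
      · intro h hh
        have hh' : g⁻¹ * h ∉ S := fun hm => hh ⟨⟨_, hm⟩, mul_inv_cancel_left g h⟩
        have h2 : (σf h⁻¹ e).1 (ι (F h)) = 0 := (hUmem _).mp (htU (F h)) _ (he1 h hh')
        rw [h2, map_zero]
      · intro s
        rw [hTe g, he', hσm, mul_inv_cancel, hσ1, hTT, hTe']
    have h2 : e'.1 (w : V) = 0 := by
      have := congrArg (T g⁻¹) h1
      rwa [hTT, inv_mul_cancel, map_one, map_zero] at this
    have h3 : w = 0 := by
      have h4 : Ideal.Quotient.mk m e' • w = 0 := Subtype.ext h2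
      exact (smul_eq_zero.mp h4).resolve_left (fun h => he2 (Ideal.Quotient.eq_zero_iff_mem.mp h))
    let f1 : S → {v : U // ∀ r, TS r v = v} := fun s =>
      ⟨⟨(F (g * s)).1, (F (g * s)).2.1⟩, fun r => Subtype.ext ((F (g * s)).2.2 r r.2)⟩
    let f0 : S → {v : U // ∀ r, TS r v = v} := fun _ => ⟨0, fun r => map_zero _⟩
    have h5 : f1 = f0 := hθ.1 (by
      change w = ∑ _s : S, _
      simp [h3, f0])
    have h6 := congrArg (fun x : {v : U // ∀ r, TS r v = v} => ((x.1 : U) : V)) (congrFun h5 1)
    simp only [f1, f0, OneMemClass.coe_one, mul_one] at h6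
    exact Subtype.ext h6
  · intro v
    let Φ : (H → Wk) →ₗ[k] V := ∑ h, ((T h).comp ι).comp (LinearMap.proj h)
    suffices hsurj : LinearMap.range Φ = ⊤ by
      obtain ⟨f, hf⟩ := LinearMap.range_eq_top.mp hsurj v
      exact ⟨f, by simpa [Φ, LinearMap.sum_apply] using hf⟩
    let Z : Submodule k V := ⨆ h : H, (U.restrictScalars k).map (T h)
    have hZ : Z ≤ LinearMap.range Φ := by
      refine iSup_le fun h => ?_
      rintro _ ⟨v, hv, rfl⟩
      obtain ⟨f, hf⟩ := hθ.2 ⟨v, hv⟩
      have hv' : v = ∑ s : S, T s (t.1 ((f s).1 : V)) := by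
        have h1 := congrArg Subtype.val hf
        simp only [Submodule.coe_sum] at h1
        rw [← h1]
        exact Finset.sum_congr rfl fun s _ =>
          hθterm s ⟨((f s).1 : V), (f s).1.2,
            fun r hr => congrArg Subtype.val ((f s).2 ⟨r, hr⟩)⟩
      rw [hv', map_sum]
      refine Submodule.sum_mem _ fun s _ => ?_
      rw [hTT]
      refine ⟨Pi.single (h * s) (⟨((f s).1 : V), (f s).1.2,
        fun r hr => congrArg Subtype.val ((f s).2 ⟨r, hr⟩)⟩ : Wk), ?_⟩
      simp only [Φ, LinearMap.sum_apply, LinearMap.comp_apply, LinearMap.proj_apply]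
      rw [Finset.sum_eq_single (h * (s : H))]
      · rw [Pi.single_eq_same]; rfl
      · intro j _ hj
        rw [Pi.single_eq_of_ne hj, map_zero, map_zero]
      · exact fun hj => absurd (Finset.mem_univ _) hj
    rw [eq_top_iff]
    refine le_trans ?_ hZ
    have hZP : ∀ n, ∀ v ∈ Z, P n v ∈ Z := by
      intro n v hv
      have hle : Z ≤ Z.comap (P n) := by
        refine iSup_le fun h => ?_
        rintro _ ⟨x, hx, rfl⟩
        have hn : P n ∈ E := Algebra.subset_adjoin ⟨n, rfl⟩
        have h1 : P n (T h x) = T h ((σf h⁻¹ ⟨P n, hn⟩).1 x) := by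
          rw [hTe, hσm, mul_inv_cancel, hσ1]
        rw [Submodule.mem_comap, h1]
        exact Submodule.mem_iSup_of_mem h ⟨_, U.smul_mem (σf h⁻¹ ⟨P n, hn⟩) hx, rfl⟩
      exact hle hv
    have hZT : ∀ g, ∀ v ∈ Z, T g v ∈ Z := by
      intro g v hv
      have hle : Z ≤ Z.comap (T g) := by
        refine iSup_le fun h => ?_
        rintro _ ⟨x, hx, rfl⟩
        rw [Submodule.mem_comap, hTT]
        exact Submodule.mem_iSup_of_mem (g * h) ⟨x, hx, rfl⟩
      exact hle hv
    rcases hirr Z hZP hZT with hbot | htop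
    · exfalso
      have h1 : T 1 u ∈ Z :=
        Submodule.mem_iSup_of_mem (p := fun h : H => (U.restrictScalars k).map (T h)) 1
          ⟨u, huU, rfl⟩
      rw [hbot, Submodule.mem_bot, map_one] at h1
      exact hu0 h1
    · exact htop.ge

theorem isFreeRep_aux (n : ℕ) :
    ∀ (V : Type u) [AddCommGroup V] [Module k V] [FiniteDimensional k V] (N : Type w) [Group N]
      [Finite N] (P : N →* Module.End k V) (T : H →* Module.End k V) (α : H →* MulAut N),
      Module.finrank k V + Nat.card N ≤ n → (∀ h x, T h * P x * T h⁻¹ = P (α h x)) →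
      (∀ h, h ≠ 1 → ∀ x, α h x = x → x = 1) → Group.IsSolvable N → (Nat.card N : k) ≠ 0 →
      (∀ v, (∀ x, P x v = v) → v = 0) → IsFreeRep T := by
  induction n using Nat.strong_induction_on with
  | _ n ih => ?_
  intro V _ _ _ N _ _ P T α hn hPT hfpf hsol hNk hfix
  classical
  by_cases hV : Subsingleton V
  · exact ⟨⊥, fun f g _ => Subsingleton.elim f g, fun v => ⟨0, Subsingleton.elim _ _⟩⟩
  haveI : Nontrivial V := not_subsingleton_iff_nontrivial.mp hV
  by_cases hirr : ∀ W : Submodule k V, (∀ x, ∀ v ∈ W, P x v ∈ W) → (∀ h, ∀ v ∈ W, T h v ∈ W) →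
      W = ⊥ ∨ W = ⊤
  · by_cases hab : ∀ x ∈ commutator N, P x = 1
    · refine isFreeRep_irreducible P T α hPT hfpf (fun a b => ?_) hfix hirr
      have h1 := hab ⁅a, b⁆ (by
        rw [commutator_def]
        exact Subgroup.commutator_mem_commutator (Subgroup.mem_top a) (Subgroup.mem_top b))
      have h2 : P (a * b) = P (⁅a, b⁆ * (b * a)) := by
        rw [commutatorElement_def]; congr 1; group
      rw [map_mul P ⁅a, b⁆, h1, one_mul, map_mul, map_mul] at h2
      exact h2
    · push Not at hab
      obtain ⟨x₀, hx₀, hx₀ne⟩ := hab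
      let B := commutator N
      have hBinv : ∀ h, ∀ b ∈ B, α h b ∈ B := fun h b hb =>
        (Subgroup.characteristic_iff_le_comap.mp (inferInstance : B.Characteristic) (α h)) hb
      let αB : H →* MulAut B :=
        { toFun := fun h =>
            { toFun := fun b => ⟨α h b, hBinv h b b.2⟩
              invFun := fun b => ⟨α h⁻¹ b, hBinv _ b b.2⟩
              left_inv := fun b => Subtype.ext (by
                change α h⁻¹ (α h b) = _
                rw [← MulAut.mul_apply, ← map_mul, inv_mul_cancel, map_one]; rfl)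
              right_inv := fun b => Subtype.ext (by
                change α h (α h⁻¹ b) = _
                rw [← MulAut.mul_apply, ← map_mul, mul_inv_cancel, map_one]; rfl)
              map_mul' := fun a b => Subtype.ext (map_mul (α h) _ _) }
          map_one' := MulEquiv.ext fun b => Subtype.ext (by
            change α 1 b = _
            rw [map_one]; rfl)
          map_mul' := fun g h => MulEquiv.ext fun b => Subtype.ext (by
            change α (g * h) b = α g (α h b)
            rw [map_mul]; rfl) }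
      haveI : Nontrivial N := by
        refine ⟨x₀, 1, fun e => hx₀ne ?_⟩
        rw [e, map_one]
      have hlt : Nat.card B < Nat.card N :=
        lt_of_le_of_ne (Subgroup.card_le_card_group B) fun e =>
          (Group.IsSolvable.commutator_lt_top_of_nontrivial N).ne (Subgroup.eq_top_of_card_eq B e)
      let C : Submodule k V :=
        { carrier := {v | ∀ b ∈ B, P b v = v}
          zero_mem' := fun b _ => map_zero _
          add_mem' := fun {a c} ha hc b hb => by rw [map_add, ha b hb, hc b hb]
          smul_mem' := fun r a ha b hb => by rw [map_smul, ha b hb] }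
      have hPP : ∀ a b : N, ∀ v, P a (P b v) = P (a * b) v := fun a b v => by rw [map_mul]; rfl
      have hC : C = ⊥ := by
        refine (hirr C ?_ ?_).resolve_right fun htop => hx₀ne (LinearMap.ext fun v => ?_)
        · intro x v hv b hb
          have h1 : P (x⁻¹ * b * x) v = v := hv _ (by
            simpa using (inferInstance : B.Normal).conj_mem b hb x⁻¹)
          calc P b (P x v) = P x (P (x⁻¹ * b * x) v) := by
                rw [hPP, hPP]; congr 2; group
            _ = P x v := by rw [h1]
        · intro h v hv b hb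
          have h1 : P (α h⁻¹ b) v = v := hv _ (hBinv _ b hb)
          have h2 := LinearMap.congr_fun (hPT h (α h⁻¹ b)) (T h v)
          rw [← MulAut.mul_apply, ← map_mul, mul_inv_cancel, map_one, MulAut.one_apply] at h2
          rw [← h2]
          change T h (P (α h⁻¹ b) (T h⁻¹ (T h v))) = T h v
          rw [← Module.End.mul_apply (T h⁻¹), ← map_mul, inv_mul_cancel, map_one,
            Module.End.one_apply, h1]
        · exact (htop.symm ▸ Submodule.mem_top : v ∈ C) x₀ hx₀
      refine ih (Module.finrank k V + Nat.card B) (by omega) V B (P.comp B.subtype) T αB le_rfl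
        (fun h b => hPT h b) (fun h hh b hb => Subtype.ext (hfpf h hh _ (congrArg Subtype.val hb)))
        inferInstance ?_ ?_
      · intro h0
        obtain ⟨c, hc⟩ := Subgroup.card_subgroup_dvd_card B
        exact hNk (by rw [hc, Nat.cast_mul, h0, zero_mul])
      · intro v hv
        have h1 : v ∈ C := fun b hb => hv ⟨b, hb⟩
        rwa [hC, Submodule.mem_bot] at h1
  · push Not at hirr
    obtain ⟨W, hWP, hWT, hW0, hW1⟩ := hirr
    haveI : Fintype N := Fintype.ofFinite N
    refine isFreeRep_of_extension T W hWT ?_ ?_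
    · refine ih (Module.finrank k W + Nat.card N) ?_ W N (H83.subRep P W hWP) _ α le_rfl ?_ hfpf
        hsol hNk ?_
      · have := Submodule.finrank_lt hW1; omega
      · intro h x
        refine LinearMap.ext fun v => Subtype.ext ?_
        exact LinearMap.congr_fun (hPT h x) v.1
      · intro v hv
        exact Subtype.ext (hfix v.1 fun x => congrArg Subtype.val (hv x))
    · refine ih (Module.finrank k (V ⧸ W) + Nat.card N) ?_ (V ⧸ W) N (H83.quotRep P W hWP) _ α
        le_rfl ?_ hfpf hsol hNk ?_
      · have h1 := W.finrank_quotient_add_finrank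
        have h2 : 0 < Module.finrank k W :=
          Nat.pos_of_ne_zero fun h => hW0 (Submodule.finrank_eq_zero.mp h)
        omega
      · intro h x
        refine LinearMap.ext fun v => ?_
        obtain ⟨v, rfl⟩ := Submodule.Quotient.mk_surjective W v
        exact congrArg Submodule.Quotient.mk (LinearMap.congr_fun (hPT h x) v)
      · intro q hq
        obtain ⟨v, rfl⟩ := Submodule.Quotient.mk_surjective W q
        have hsum : ∀ x, P x v - v ∈ W := fun x => (Submodule.Quotient.eq W).mp (hq x)
        have hfixsum : ∑ x, P x v = 0 := hfix _ fun y => by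
          rw [map_sum]
          exact Fintype.sum_equiv (Equiv.mulLeft y) _ _ fun x => by
            rw [Equiv.coe_mulLeft, map_mul]; rfl
        have h3 := W.sum_mem (t := Finset.univ) fun x _ => hsum x
        rw [Finset.sum_sub_distrib, hfixsum, zero_sub, W.neg_mem_iff, Finset.sum_const,
          Finset.card_univ, ← Nat.card_eq_fintype_card, ← Nat.cast_smul_eq_nsmul k,
          W.smul_mem_iff hNk] at h3
        exact (Submodule.Quotient.mk_eq_zero W).mpr h3

end H2
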