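/-
A normal elementary abelian p-subgroup N whose nonidentity elements form one class with Sylow
centralisers, and with centralisers outside N of the same order as in the quotient: N is the whole
p-core only in a doubly transitive Frobenius group.
-/
import Mathlib.GroupTheory.SchurZassenhaus
import Mathlib.GroupTheory.Sylow
import Cfsg.Agent.H1.Cores
import Cfsg.Agent.H30.Basic
import Cfsg.Agent.H65.BaerSuzuki
import Cfsg.Prelude.Def_Solvable

set_option autoImplicit false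
set_option linter.style.haveILetI false
set_option linter.unusedSectionVars false

open Subgroup
open scoped Pointwise

namespace H2.Gagola

variable {G : Type*} [Group G]

/-- The standing hypotheses. -/
structure Data (p : ℕ) (N : Subgroup G) : Prop where
  comm : ∀ x ∈ N, ∀ y ∈ N, x * y = y * x
  exp : ∀ x ∈ N, x ^ p = 1
  ne_bot : N ≠ ⊥
  pgroup : IsPGroup p N
  trans : ∀ x ∈ N, ∀ y ∈ N, x ≠ 1 → y ≠ 1 → ∃ g : G, g * x * g⁻¹ = y
  cent : ∀ x ∈ N, x ≠ 1 → IsPGroup p (centralizer ({x} : Set G))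
  card_cent : ∀ [N.Normal] (x : G), x ∉ N → Nat.card (centralizer ({x} : Set G)) =
    Nat.card (centralizer ({(x : G ⧸ N)} : Set (G ⧸ N)))

namespace Data

variable [Finite G] {p : ℕ} [Fact p.Prime] {N : Subgroup G} [hNn : N.Normal] (h : Data p N)
include h

theorem fpf {g x : G} (hg : (orderOf g).Coprime p) (hx : x ∈ N) (hx1 : x ≠ 1)
    (hc : g * x = x * g) : g = 1 := by
  obtain ⟨k, hk⟩ := (h.cent x hx hx1) ⟨g, mem_centralizer_singleton_iff.mpr hc⟩
  have h1 : orderOf g ∣ p ^ k := orderOf_dvd_of_pow_eq_one (congrArg Subtype.val hk)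
  exact orderOf_eq_one_iff.mp (Nat.Coprime.eq_one_of_dvd (Nat.Coprime.pow_right k hg) h1)

/-- If a noncentral element outside `N` has a centraliser covering that of its image, contradiction.
-/
theorem false_of_lift {g : G} (hgN : g ∉ N) (hfix : ∃ y ∈ N, y ≠ 1 ∧ g * y = y * g)
    (lift : ∀ c : G, (c * g * c⁻¹) * g⁻¹ ∈ N → ∃ n ∈ N, (n * c) * g = g * (n * c)) : False := by
  let f : centralizer ({g} : Set G) → centralizer ({(g : G ⧸ N)} : Set (G ⧸ N)) := fun c =>
    ⟨((c : G) : G ⧸ N), mem_centralizer_singleton_iff.mpr (by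
      rw [← QuotientGroup.mk_mul, ← QuotientGroup.mk_mul, mem_centralizer_singleton_iff.mp c.2])⟩
  have hs : Function.Surjective f := by
    rintro ⟨q, hq⟩
    induction q using QuotientGroup.induction_on with
    | _ c =>
      have hc : (c * g * c⁻¹) * g⁻¹ ∈ N := by
        rw [← QuotientGroup.eq_one_iff]
        simp only [QuotientGroup.mk_mul, QuotientGroup.mk_inv]
        rw [mem_centralizer_singleton_iff.mp hq]
        group
      obtain ⟨n, hn, e⟩ := lift c hc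
      refine ⟨⟨n * c, mem_centralizer_singleton_iff.mpr e⟩, Subtype.ext ?_⟩
      show ((n * c : G) : G ⧸ N) = c
      rw [QuotientGroup.mk_mul, (QuotientGroup.eq_one_iff n).mpr hn, one_mul]
  have hb := (Nat.bijective_iff_surjective_and_card f).mpr ⟨hs, h.card_cent g hgN⟩
  obtain ⟨y, hy, hy1, hyg⟩ := hfix
  have := @hb.1 ⟨y, mem_centralizer_singleton_iff.mpr hyg.symm⟩ 1 (Subtype.ext (by
    show ((y : G) : G ⧸ N) = ((1 : G) : G ⧸ N)
    rw [(QuotientGroup.eq_one_iff y).mpr hy, QuotientGroup.mk_one]))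
  exact hy1 (congrArg Subtype.val this)

theorem exists_fixed {g : G} (P : Sylow p G) (hg : g ∈ (P : Subgroup G)) :
    ∃ y ∈ N, y ≠ 1 ∧ g * y = y * g := by
  have hNP : N ≤ (P : Subgroup G) := h.pgroup.le_sylow_of_normal P
  have hne : N.subgroupOf (P : Subgroup G) ⊓ center ↥(P : Subgroup G) ≠ ⊥ :=
    H30.inf_center_ne_bot P.isPGroup' inferInstance (by
      rw [Ne, subgroupOf_eq_bot]
      exact fun hd => h.ne_bot (hd.eq_bot_of_le hNP))
  obtain ⟨⟨y, hy, hy1⟩⟩ : Nonempty {y : ↥(P : Subgroup G) //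
      y ∈ N.subgroupOf (P : Subgroup G) ⊓ center ↥(P : Subgroup G) ∧ y ≠ 1} := by
    by_contra hcon
    exact hne ((eq_bot_iff_forall _).mpr fun z hz => by
      by_contra hz1; exact hcon ⟨⟨z, hz, hz1⟩⟩)
  exact ⟨y, mem_subgroupOf.mp (Subgroup.mem_inf.mp hy).1, fun e => hy1 (Subtype.ext e),
    congrArg Subtype.val (mem_center_iff.mp (Subgroup.mem_inf.mp hy).2 ⟨g, hg⟩)⟩

theorem even_card (hp : p ≠ 2) : 2 ∣ Nat.card G := by
  obtain ⟨x, hx, hx1⟩ := (N.bot_or_exists_ne_one).resolve_left h.ne_bot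
  have hx2 : x⁻¹ ≠ x := fun e => by
    have h1 : orderOf x ∣ 2 := orderOf_dvd_of_pow_eq_one (by
      rw [pow_two]; nth_rw 1 [← e]; exact inv_mul_cancel x)
    have h2 : orderOf x ∣ p := orderOf_dvd_of_pow_eq_one (h.exp x hx)
    exact hx1 (orderOf_eq_one_iff.mp (Nat.Coprime.eq_one_of_dvd
      ((Nat.coprime_primes (Fact.out : p.Prime) Nat.prime_two).mpr hp |>.coprime_dvd_left h2)
      h1))
  obtain ⟨g, hg⟩ := h.trans x hx x⁻¹ (inv_mem hx) hx1 (inv_ne_one.mpr hx1)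
  by_contra hodd
  have ho : Odd (orderOf g) := Nat.not_even_iff_odd.mp fun he =>
    hodd ((even_iff_two_dvd.mp he).trans (orderOf_dvd_natCard g))
  obtain ⟨m, hm⟩ := ho
  have hinv : g * x⁻¹ * g⁻¹ = x := by
    calc g * x⁻¹ * g⁻¹ = (g * x * g⁻¹)⁻¹ := by group
      _ = x := by rw [hg, inv_inv]
  have h2 : Commute (g ^ 2) x := by
    show g ^ 2 * x = x * g ^ 2
    calc g ^ 2 * x = g * (g * x * g⁻¹) * g⁻¹ * g ^ 2 := by rw [pow_two]; group
      _ = x * g ^ 2 := by rw [hg, hinv]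
  have h3 : (g ^ 2) ^ (m + 1) = g := by
    rw [← pow_mul, show 2 * (m + 1) = orderOf g + 1 by omega, pow_succ, pow_orderOf_eq_one,
      one_mul]
  have h4 : Commute g x := h3 ▸ h2.pow_left (m + 1)
  exact hx2 (by rw [← hg, h4.eq]; group)

variable (hcore : N = Cfsg.pCore p G)
include hcore

theorem centralizer_le : centralizer (N : Set G) ≤ N := by
  haveI : (centralizer (N : Set G)).Normal := Subgroup.normal_centralizer
  obtain ⟨x, hx, hx1⟩ := (N.bot_or_exists_ne_one).resolve_left h.ne_bot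
  have hle : centralizer (N : Set G) ≤ centralizer ({x} : Set G) :=
    Subgroup.centralizer_le (Set.singleton_subset_iff.mpr hx)
  refine le_of_le_of_eq (H1.le_pCore ((h.cent x hx hx1).to_le hle)) hcore.symm

theorem index_coprime_odd (hp : p ≠ 2) : ¬ p ∣ N.index := by
  intro hd
  obtain ⟨s, hs⟩ := exists_prime_orderOf_dvd_card' 2 (h.even_card hp)
  have hs2 : s * s = 1 := by rw [← pow_two, ← hs, pow_orderOf_eq_one]
  have hcop : (orderOf s).Coprime p := by
    rw [hs]; exact (Nat.coprime_primes Nat.prime_two Fact.out).mpr (Ne.symm hp)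
  have hs1 : s ≠ 1 := fun e => by rw [e, orderOf_one] at hs; omega
  have hinv : ∀ v ∈ N, s * v * s⁻¹ = v⁻¹ := by
    intro v hv
    have hsv := hNn.conj_mem v hv s
    refine eq_inv_of_mul_eq_one_right ?_
    by_contra hne
    refine hs1 (h.fpf hcop (mul_mem hv hsv) hne ?_)
    have e : s⁻¹ = s := inv_eq_of_mul_eq_one_right hs2
    calc s * (v * (s * v * s⁻¹)) = (s * v * s⁻¹) * (s * s) * v * s⁻¹ := by group
      _ = (s * v * s⁻¹) * v * s⁻¹ := by rw [hs2, mul_one]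
      _ = v * (s * v * s⁻¹) * s := by rw [h.comm _ hsv v hv, e]
  -- the image of `s` is central
  have hcent : ∀ a : G, a * s * a⁻¹ * s⁻¹ ∈ N := by
    intro a
    refine h.centralizer_le hcore (mem_centralizer_iff.mpr fun v hv => ?_)
    have h1 : a * s * a⁻¹ * v * (a * s * a⁻¹)⁻¹ = v⁻¹ := by
      have := hinv (a⁻¹ * v * a) (by simpa using hNn.conj_mem v hv a⁻¹)
      calc a * s * a⁻¹ * v * (a * s * a⁻¹)⁻¹ = a * (s * (a⁻¹ * v * a) * s⁻¹) * a⁻¹ := by group
        _ = v⁻¹ := by rw [this]; group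
    have h2 : s⁻¹ * v * s = v⁻¹ := by
      have := hinv v⁻¹ (inv_mem hv)
      rw [inv_inv] at this
      calc s⁻¹ * v * s = s⁻¹ * (s * v⁻¹ * s⁻¹) * s := by rw [this]
        _ = v⁻¹ := by group
    have h3 : a * s * a⁻¹ * v⁻¹ * (a * s * a⁻¹)⁻¹ = v := by
      calc a * s * a⁻¹ * v⁻¹ * (a * s * a⁻¹)⁻¹
          = (a * s * a⁻¹ * v * (a * s * a⁻¹)⁻¹)⁻¹ := by group
        _ = v := by rw [h1, inv_inv]
    symm
    calc a * s * a⁻¹ * s⁻¹ * v = a * s * a⁻¹ * (s⁻¹ * v * s) * s⁻¹ := by group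
      _ = (a * s * a⁻¹ * v⁻¹ * (a * s * a⁻¹)⁻¹) * (a * s * a⁻¹ * s⁻¹) := by rw [h2]; group
      _ = v * (a * s * a⁻¹ * s⁻¹) := by rw [h3]
  -- `C(s)` supplements `N`
  have hsup : ∀ a : G, ∃ m ∈ N, (m * a) * s = s * (m * a) := by
    intro a
    set n := a * s * a⁻¹ * s⁻¹ with hn
    have hnN : n ∈ N := hcent a
    obtain ⟨j, hj⟩ := (Fact.out : p.Prime).odd_of_ne_two hp
    refine ⟨n ^ j, pow_mem hnN j, ?_⟩
    have e1 : a * s = n * s * a := by rw [hn]; group
    have e2 : n ^ j * n = s * n ^ j * s⁻¹ := by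
      rw [hinv _ (pow_mem hnN j), ← pow_succ, eq_inv_iff_mul_eq_one, ← pow_add,
        show j + 1 + j = p by omega, h.exp n hnN]
    calc n ^ j * a * s = (n ^ j * n) * s * a := by rw [mul_assoc (n ^ j) a s, e1]; group
      _ = s * (n ^ j * a) := by rw [e2]; group
  obtain ⟨P⟩ : Nonempty (Sylow p G) := inferInstance
  obtain ⟨g₀, hg₀, hg₀N⟩ : ∃ g₀ ∈ (P : Subgroup G), g₀ ∉ N := by
    by_contra hcon
    push Not at hcon
    exact P.not_dvd_index (hd.trans (index_dvd_of_le hcon))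
  obtain ⟨m, hm, hms⟩ := hsup g₀
  set g := m * g₀ with hg
  have hgP : g ∈ (P : Subgroup G) := mul_mem (h.pgroup.le_sylow_of_normal P hm) hg₀
  have hgN : g ∉ N := fun hgN => hg₀N (by simpa [hg] using mul_mem (inv_mem hm) hgN)
  refine h.false_of_lift hgN (h.exists_fixed P hgP) fun c hc => ?_
  obtain ⟨n, hn, hns⟩ := hsup c
  refine ⟨n, hn, ?_⟩
  set k := n * c with hk
  have hkN : k * g * k⁻¹ * g⁻¹ ∈ N := by
    have : k * g * k⁻¹ * g⁻¹ = n * (c * g * c⁻¹ * g⁻¹) * (g * n⁻¹ * g⁻¹) := by rw [hk]; group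
    rw [this]
    exact mul_mem (mul_mem hn hc) (hNn.conj_mem _ (inv_mem hn) g)
  have hks : Commute (k * g * k⁻¹ * g⁻¹) s := by
    have a1 : Commute k s := hns
    have a2 : Commute g s := hms
    exact ((a1.mul_left a2).mul_left a1.inv_left).mul_left a2.inv_left
  by_contra hne
  refine hs1 (h.fpf hcop hkN (fun e => hne ?_) hks.symm.eq)
  calc k * g = (k * g * k⁻¹ * g⁻¹) * (g * k) := by group
    _ = g * k := by rw [e, one_mul]

theorem index_coprime_two (hp : p = 2) : ¬ p ∣ N.index := by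
  subst hp
  intro hd
  subst hcore
  obtain ⟨tb, htb⟩ := exists_prime_orderOf_dvd_card' 2
    (G := G ⧸ Cfsg.pCore 2 G) hd
  have htc : tb ∉ Cfsg.pCore 2 (G ⧸ Cfsg.pCore 2 G) := by
    rw [H1.pCore_quotient_pCore, Subgroup.mem_bot]
    intro e; rw [e, orderOf_one] at htb; omega
  obtain ⟨yb, hyb1, hyodd, hyinv⟩ := H65.exists_odd_inverted htb htc
  obtain ⟨y₀, rfl⟩ := QuotientGroup.mk_surjective yb
  obtain ⟨t₀, rfl⟩ := QuotientGroup.mk_surjective tb
  set N := Cfsg.pCore 2 G with hN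
  obtain ⟨a, m, hm, hym⟩ := Nat.exists_eq_two_pow_mul_odd (orderOf_pos y₀).ne'
  set y := y₀ ^ 2 ^ a with hy
  have hyo : Odd (orderOf y) := by
    rw [hy, orderOf_pow, hym, Nat.gcd_mul_right_left, Nat.mul_div_cancel_left _ (by positivity)]
    exact hm
  have hyc : (orderOf y).Coprime 2 := Nat.coprime_two_right.mpr hyo
  have hyN : y ∉ N := by
    intro hyN
    apply hyb1
    have h1 : (y₀ : G ⧸ N) ^ 2 ^ a = 1 := by
      rw [← QuotientGroup.mk_pow]; exact (QuotientGroup.eq_one_iff _).mpr hyN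
    exact orderOf_eq_one_iff.mp (Nat.Coprime.eq_one_of_dvd
      (Nat.Coprime.pow_right a (Nat.coprime_two_right.mpr hyodd)) (orderOf_dvd_of_pow_eq_one h1))
  have hy1 : y ≠ 1 := fun e => hyN (e ▸ one_mem N)
  have hyfix : ∀ v ∈ N, y * v = v * y → v = 1 := fun v hv e => by
    by_contra hv1; exact hy1 (h.fpf hyc hv hv1 e)
  -- an involution inverting `y`
  set n₀ := t₀ * y * t₀⁻¹ * y with hn₀
  have hn₀N : n₀ ∈ N := by
    rw [← QuotientGroup.eq_one_iff]
    simp only [hn₀, hy, QuotientGroup.mk_mul, QuotientGroup.mk_inv, QuotientGroup.mk_pow,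
      ← conj_pow]
    rw [hyinv, inv_pow, inv_mul_cancel]
  have hinvol : ∀ v ∈ N, v⁻¹ = v := fun v hv =>
    inv_eq_of_mul_eq_one_right (by rw [← pow_two]; exact h.exp v hv)
  let φ : N → N := fun v => ⟨(v : G) * (y⁻¹ * (v : G)⁻¹ * y), mul_mem v.2 (by
    simpa using hNn.conj_mem _ (inv_mem v.2) y⁻¹)⟩
  have hφ : Function.Surjective φ := Finite.injective_iff_surjective.mp fun u v e => by
    have e' : (u : G) * (y⁻¹ * (u : G)⁻¹ * y) = (v : G) * (y⁻¹ * (v : G)⁻¹ * y) :=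
      congrArg Subtype.val e
    have hw : (v : G)⁻¹ * (u : G) ∈ N := mul_mem (inv_mem v.2) u.2
    have := hyfix _ hw (by
      have e'' : (v : G)⁻¹ * (u : G) * y⁻¹ = y⁻¹ * ((v : G)⁻¹ * u) := by
        calc (v : G)⁻¹ * (u : G) * y⁻¹
            = (v : G)⁻¹ * ((u : G) * (y⁻¹ * (u : G)⁻¹ * y)) * y⁻¹ * u := by group
          _ = y⁻¹ * ((v : G)⁻¹ * u) := by rw [e']; group
      calc y * ((v : G)⁻¹ * u) = y * ((v : G)⁻¹ * u * y⁻¹) * y := by group
        _ = (v : G)⁻¹ * u * y := by rw [e'']; group)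
    exact Subtype.ext (by rw [inv_mul_eq_one] at this; exact this.symm)
  obtain ⟨⟨v₀, hv₀⟩, hv₀'⟩ := hφ ⟨n₀⁻¹, inv_mem hn₀N⟩
  have hv₀e : v₀ * (y⁻¹ * v₀⁻¹ * y) = n₀⁻¹ := congrArg Subtype.val hv₀'
  set t := v₀ * t₀ with ht
  have hty : t * y * t⁻¹ = y⁻¹ := by
    have e1 : t * y * t⁻¹ = v₀ * (n₀ * y⁻¹) * v₀⁻¹ := by rw [ht, hn₀]; group
    have e2 : y⁻¹ * v₀⁻¹ = v₀⁻¹ * n₀⁻¹ * y⁻¹ := by rw [← hv₀e]; group
    rw [e1]
    calc v₀ * (n₀ * y⁻¹) * v₀⁻¹ = v₀ * n₀ * (y⁻¹ * v₀⁻¹) := by group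
      _ = v₀ * (n₀ * v₀⁻¹) * n₀⁻¹ * y⁻¹ := by rw [e2]; group
      _ = y⁻¹ := by rw [h.comm n₀ hn₀N _ (inv_mem hv₀)]; group
  have htN : t ∉ N := fun e => htc (by
    have : t₀ ∈ N := by simpa [ht] using mul_mem (inv_mem hv₀) e
    rw [(QuotientGroup.eq_one_iff t₀).mpr this]; exact one_mem _)
  have ht2N : t * t ∈ N := by
    rw [← QuotientGroup.eq_one_iff, ht]
    simp only [QuotientGroup.mk_mul, (QuotientGroup.eq_one_iff v₀).mpr hv₀, one_mul]
    rw [← pow_two, ← htb, pow_orderOf_eq_one]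
  have htt : t * t = 1 := hyfix _ ht2N (by
    calc y * (t * t) = (t * y⁻¹ * t⁻¹) * (t * t) := by
          rw [show t * y⁻¹ * t⁻¹ = (t * y * t⁻¹)⁻¹ by group, hty, inv_inv]
      _ = t * t * (t⁻¹ * y⁻¹ * t) := by group
      _ = t * t * y := by
          rw [show t⁻¹ * y⁻¹ * t = t⁻¹ * (t * y * t⁻¹) * t by rw [hty]]; group)
  have hti : t⁻¹ = t := inv_eq_of_mul_eq_one_right htt
  -- `C_N(t) = [N, t]`
  let ψ : N →* N :=
    { toFun := fun v => ⟨(v : G) * (t * v * t⁻¹), mul_mem v.2 (hNn.conj_mem _ v.2 t)⟩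
      map_one' := by ext; simp
      map_mul' := fun u v => by
        ext
        show (u : G) * v * (t * (u * v) * t⁻¹) = (u : G) * (t * u * t⁻¹) * ((v : G) * (t * v * t⁻¹))
        have hc := h.comm _ v.2 _ (hNn.conj_mem _ u.2 t)
        calc (u : G) * v * (t * (u * v) * t⁻¹)
            = (u : G) * ((v : G) * (t * u * t⁻¹)) * (t * v * t⁻¹) := by group
          _ = _ := by rw [hc]; group }
  have hker : ∀ v : N, v ∈ ψ.ker ↔ t * (v : G) = (v : G) * t := fun v => by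
    rw [MonoidHom.mem_ker]
    constructor
    · intro e
      have e' : (v : G) * (t * v * t⁻¹) = 1 := congrArg Subtype.val e
      have : t * v * t⁻¹ = (v : G)⁻¹ := eq_inv_of_mul_eq_one_right e'
      rw [hinvol _ v.2] at this
      calc t * (v : G) = t * v * t⁻¹ * t := by group
        _ = v * t := by rw [this]
    · intro e
      refine Subtype.ext ?_
      show (v : G) * (t * v * t⁻¹) = 1
      rw [e, mul_assoc (v : G) t, mul_inv_cancel, mul_one, ← pow_two]
      exact h.exp _ v.2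
  have hrk : ψ.range ≤ ψ.ker := by
    rintro _ ⟨v, rfl⟩
    rw [hker]
    show t * ((v : G) * (t * v * t⁻¹)) = (v : G) * (t * v * t⁻¹) * t
    have hc := h.comm _ v.2 _ (hNn.conj_mem _ v.2 t)
    calc t * ((v : G) * (t * v * t⁻¹)) = (t * v * t⁻¹) * (t * t) * v * t⁻¹ := by group
      _ = (t * v * t⁻¹) * v * t := by rw [htt, mul_one, hti]
      _ = (v : G) * (t * v * t⁻¹) * t := by rw [hc]
  have hsq : Nat.card ψ.ker * Nat.card ψ.ker ≤ Nat.card N := by
    rw [← Nat.card_prod]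
    refine Nat.card_le_card_of_injective
      (fun z => (⟨(z.1 : G) * (y * (z.2 : G) * y⁻¹),
        mul_mem (z.1 : N).2 (hNn.conj_mem _ (z.2 : N).2 y)⟩ : N)) ?_
    rintro ⟨a₁, b₁⟩ ⟨a₂, b₂⟩ e
    have e' : (a₁ : G) * (y * (b₁ : G) * y⁻¹) = (a₂ : G) * (y * (b₂ : G) * y⁻¹) :=
      congrArg Subtype.val e
    set w := (a₂⁻¹ * a₁ : ψ.ker) with hw
    have hwe : ((w : N) : G) = y * ((b₂ * b₁⁻¹ : ψ.ker) : N) * y⁻¹ := by
      show (a₂ : G)⁻¹ * a₁ = y * ((b₂ : G) * (b₁ : G)⁻¹) * y⁻¹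
      calc (a₂ : G)⁻¹ * a₁
          = (a₂ : G)⁻¹ * ((a₁ : G) * (y * (b₁ : G) * y⁻¹)) * (y * (b₁ : G)⁻¹ * y⁻¹) := by group
        _ = _ := by rw [e']; group
    have c1 : Commute t ((w : N) : G) := (hker _).mp w.2
    have c2 : Commute (y * t * y⁻¹) ((w : N) : G) := by
      rw [hwe, ← MulAut.conj_apply, ← MulAut.conj_apply]
      exact Commute.map (show Commute t (((b₂ * b₁⁻¹ : ψ.ker) : N) : G) from (hker _).mp
        (b₂ * b₁⁻¹).2) (MulAut.conj y).toMonoidHom
    have e3 : y * t * y⁻¹ * t = y ^ 2 := by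
      calc y * t * y⁻¹ * t = y * (t * y⁻¹ * t⁻¹) := by rw [hti]; group
        _ = y ^ 2 := by
          rw [show t * y⁻¹ * t⁻¹ = (t * y * t⁻¹)⁻¹ by group, hty, inv_inv, pow_two]
    have c3 : Commute (y ^ 2) ((w : N) : G) := e3 ▸ c2.mul_left c1
    obtain ⟨j, hj⟩ := hyo
    have e4 : (y ^ 2) ^ (j + 1) = y := by
      rw [← pow_mul, show 2 * (j + 1) = orderOf y + 1 by omega, pow_succ, pow_orderOf_eq_one,
        one_mul]
    have hw1 : ((w : N) : G) = 1 := hyfix _ (w : N).2 (e4 ▸ c3.pow_left (j + 1)).eq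
    have hw1' : w = 1 := Subtype.ext (Subtype.ext hw1)
    have hb1 : b₂ * b₁⁻¹ = 1 := by
      refine Subtype.ext (Subtype.ext ?_)
      have := hwe.symm.trans hw1
      rwa [conj_eq_one_iff] at this
    rw [mul_inv_eq_one] at hb1
    rw [hw, inv_mul_eq_one] at hw1'
    rw [Prod.mk.injEq]
    exact ⟨hw1'.symm, hb1.symm⟩
  have hprod : Nat.card ψ.range * Nat.card ψ.ker = Nat.card N := by
    rw [← index_ker ψ, mul_comm]; exact ψ.ker.card_mul_index
  have heq : ψ.range = ψ.ker := eq_of_le_of_card_ge hrk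
    (Nat.le_of_mul_le_mul_right (hsq.trans hprod.ge) Nat.card_pos)
  refine h.false_of_lift htN ?_ fun c hc => ?_
  · have hne : ψ.ker ≠ ⊥ := fun e => by
      have hb : ψ.range = ⊥ := heq.trans e
      rw [hb, e, Subgroup.card_bot] at hprod
      exact h.ne_bot (eq_bot_of_card_eq N hprod.symm)
    obtain ⟨v, hv, hv1⟩ := (ψ.ker.bot_or_exists_ne_one).resolve_left hne
    exact ⟨v, v.2, fun e => hv1 (Subtype.ext e), (hker v).mp hv⟩
  · set n := c * t * c⁻¹ * t⁻¹ with hn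
    have hnk : (⟨n, hc⟩ : N) ∈ ψ.ker := by
      rw [hker]
      show t * n = n * t
      have e5 : t * n * t = n⁻¹ := eq_inv_of_mul_eq_one_right (by
        calc n * (t * n * t) = c * (t * t) * c⁻¹ := by rw [hn]; group
            _ = 1 := by rw [htt]; group)
      rw [hinvol n hc] at e5
      calc t * n = t * n * (t * t) := by rw [htt, mul_one]
        _ = n * t := by rw [← mul_assoc, e5]
    rw [← heq] at hnk
    obtain ⟨v, hv⟩ := hnk
    have hve : (v : G) * (t * v * t⁻¹) = n := congrArg Subtype.val hv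
    refine ⟨v, v.2, ?_⟩
    have h1 := h.exp (v : G) v.2
    rw [pow_two] at h1
    calc (v : G) * c * t = (v : G) * n * t * c := by rw [hn]; group
      _ = ((v : G) * v) * t * (v : G) * c := by rw [← hve]; group
      _ = t * ((v : G) * c) := by rw [h1, one_mul, mul_assoc]

theorem index_coprime : ¬ p ∣ N.index := by
  by_cases hp : p = 2
  · exact h.index_coprime_two hcore hp
  · exact h.index_coprime_odd hcore hp

end Data

end H2.Gagola
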