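import Cfsg.Agent.H2.NonsolvableComplement

/-!
Zassenhaus's theorem on non-solvable Frobenius complements, given the perfect case.
-/

set_option autoImplicit false
set_option linter.style.haveILetI false

namespace H2

universe u

/-- The statement that a perfect Frobenius complement is `SL(2,5)`. -/
def PerfectComplementIsSL25 : Prop :=
  ∀ {P : Type u} [Group P] [Finite P] [Nontrivial P], H28.FCInt P → commutator P = ⊤ →
    Nonempty (P ≃* Matrix.SpecialLinearGroup (Fin 2) (ZMod 5))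

theorem exists_perfect_sl25 (hcore : PerfectComplementIsSL25.{u}) {G : Type u} [Group G] [Finite G]
    (hG : H28.FCInt G) (hns : ¬ Group.IsSolvable G) :
    ∃ P : Subgroup G, P.Normal ∧ commutator P = ⊤ ∧
      Nonempty (P ≃* Matrix.SpecialLinearGroup (Fin 2) (ZMod 5)) := by
  obtain ⟨P, hPn, hP0, hperf⟩ := exists_perfect_normal hns
  haveI : Nontrivial P := (Subgroup.nontrivial_iff_ne_bot P).mpr hP0
  exact ⟨P, hPn, hperf, hcore (H28.fcInt_of_injective P.subtype P.subtype_injective hG) hperf⟩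

theorem nonsolvable_structure (hcore : PerfectComplementIsSL25.{u}) {G : Type u} [Group G] [Finite G]
    (hns : ¬ Group.IsSolvable G) (hG : H28.FCInt G) :
    ∃ G₀ : Subgroup G, G₀.Normal ∧ (G₀.index = 1 ∨ G₀.index = 2) ∧
      ∃ S M : Subgroup G, S ⊔ M = G₀ ∧ S ⊓ M = ⊥ ∧ (∀ s ∈ S, ∀ x ∈ M, s * x = x * s) ∧
        Nonempty (S ≃* Matrix.SpecialLinearGroup (Fin 2) (ZMod 5)) ∧
        (∀ (p : ℕ) [Fact p.Prime] (P : Sylow p M), IsCyclic P) ∧ (Nat.card M).Coprime 30 := by
  obtain ⟨P, hPn, hperf, ⟨eP⟩⟩ := exists_perfect_sl25 hcore hG hns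
  haveI := hPn
  obtain ⟨f, M, hker, -, -, hsup, hinf, hMf, hM, hcop, hidx⟩ := exists_hom_perm_five hG hperf eP
  refine ⟨P ⊔ f.ker, inferInstance, hidx, P, M, hsup, hinf, fun s hs x hx => ?_, ⟨eP⟩,
    fun p _ S => inferInstance, hcop⟩
  have h : x ∈ Subgroup.centralizer (P : Set G) := hker ▸ hMf hx
  exact Subgroup.mem_centralizer_iff.mp h s hs

end H2
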