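import Mathlib
import Cfsg.Agent.H2.FrobeniusKernel
import Cfsg.Agent.H2.AnticommutingSquare

/-!
Frobenius groups with complement `Q₈`: the kernel orders are the odd squares greater than one.
-/

set_option autoImplicit false
set_option linter.style.haveILetI false

namespace H2

/-- Modulo an odd number, `-1` is a sum of two squares. -/
theorem exists_sq_add_sq_eq_neg_one {r : ℕ} (hr : Odd r) :
    ∃ a b : ZMod r, a * a + b * b = -1 := by
  obtain ⟨t, ht⟩ := hr
  haveI : NeZero r := ⟨by omega⟩
  haveI : NeZero (4 * r) := ⟨by omega⟩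
  have hcop : Nat.Coprime 4 r := by
    have h2 : Nat.Coprime 2 r :=
      (Nat.prime_two.coprime_iff_not_dvd).mpr (by omega)
    exact h2.pow_left 2
  obtain ⟨c, hc4, hcr⟩ := Nat.chineseRemainder hcop 1 (r - 1)
  have hc : Nat.Coprime c (4 * r) := by
    refine Nat.Coprime.mul_right ?_ ?_
    · exact hc4.gcd_eq.trans (Nat.gcd_one_left 4)
    · refine hcr.gcd_eq.trans ?_
      have h : Nat.Coprime (r - 1) (r - 1 + 1) := (Nat.coprime_self_add_right).mpr (Nat.coprime_one_right _)
      rwa [Nat.sub_add_cancel (by omega)] at h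
  obtain ⟨p, -, hp, hpc⟩ := Nat.forall_exists_prime_gt_and_modEq 0 (NeZero.ne (4 * r)) hc
  haveI := Fact.mk hp
  have hp4 : p % 4 ≠ 3 := by
    have h : p % 4 = 1 := (Nat.ModEq.of_mul_right r hpc).trans hc4
    omega
  obtain ⟨a, b, hab⟩ := Nat.Prime.sq_add_sq hp4
  refine ⟨a, b, ?_⟩
  have h1 : p ≡ r - 1 [MOD r] := (Nat.ModEq.of_mul_left 4 hpc).trans hcr
  have h2 : (p : ZMod r) = ((r - 1 : ℕ) : ZMod r) := (ZMod.natCast_eq_natCast_iff _ _ _).mpr h1
  rw [← hab, Nat.cast_sub (by omega), ZMod.natCast_self, Nat.cast_one, zero_sub] at h2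
  rw [← h2]
  push_cast
  ring

/-- For odd `r > 1` there is a Frobenius group with complement `Q₈` and kernel of order `r ^ 2`. -/
theorem exists_quaternion_complement {r : ℕ} (hr : Odd r) (hr1 : 1 < r) :
    ∃ (L : Type) (_ : Group L) (_ : Finite L) (H : Subgroup L), Cfsg.IsFrobeniusComplement H ∧
      Nonempty (H ≃* QuaternionGroup 2) ∧ Nat.card (Cfsg.frobeniusKernel H) = r * r := by
  classical
  haveI : NeZero r := ⟨by omega⟩
  haveI : Fact (1 < r) := ⟨hr1⟩
  obtain ⟨a, b, hab⟩ := exists_sq_add_sq_eq_neg_one hr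
  let I : Matrix (Fin 2) (Fin 2) (ZMod r) := !![0, -1; 1, 0]
  let J : Matrix (Fin 2) (Fin 2) (ZMod r) := !![a, b; b, -a]
  have hI2 : I ^ 2 = -1 := by
    ext i j; fin_cases i <;> fin_cases j <;> simp [I, pow_two, Matrix.mul_apply]
  have hI4 : I ^ 4 = 1 := by rw [show 4 = 2 * 2 from rfl, pow_mul, hI2]; simp
  have hJ2 : J * J = I ^ 2 := by
    rw [hI2]
    ext i j
    fin_cases i <;> fin_cases j <;> simp [J, Matrix.mul_apply] <;>
      first
        | linear_combination hab
        | ring
  have hIJ : I * J = J * I ^ 3 := by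
    rw [pow_succ, hI2, neg_one_mul, mul_neg]
    ext i j
    fin_cases i <;> fin_cases j <;> simp [I, J, Matrix.mul_apply]
  have hInJ : ∀ n : ℕ, I ^ n * J = J * I ^ (3 * n) := by
    intro n
    induction n with
    | zero => simp
    | succ n ih => rw [pow_succ, mul_assoc, hIJ, ← mul_assoc, ih, mul_assoc, ← pow_add, mul_add_one]
  have hmod : ∀ {s t : ℕ}, s % 4 = t % 4 → I ^ s = I ^ t := fun {s t} h => by
    rw [pow_eq_pow_mod s hI4, pow_eq_pow_mod t hI4, h]
  let F : QuaternionGroup 2 → Matrix (Fin 2) (Fin 2) (ZMod r) := fun q =>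
    match q with
    | QuaternionGroup.a i => I ^ i.val
    | QuaternionGroup.xa i => J * I ^ i.val
  let φ : QuaternionGroup 2 →* Matrix (Fin 2) (Fin 2) (ZMod r) :=
    { toFun := F
      map_one' := by
        change I ^ (0 : ZMod (2 * 2)).val = 1
        rw [ZMod.val_zero, pow_zero]
      map_mul' := by
        rintro (i | i) (j | j)
        · simp only [F, QuaternionGroup.a_mul_a, ← pow_add]
          exact hmod (by revert i j; decide)
        · simp only [F, QuaternionGroup.a_mul_xa, ← mul_assoc, hInJ]
          rw [mul_assoc, ← pow_add]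
          exact congrArg (J * ·) (hmod (by revert i j; decide))
        · simp only [F, QuaternionGroup.xa_mul_a, mul_assoc, ← pow_add]
          exact congrArg (J * ·) (hmod (by revert i j; decide))
        · simp only [F, QuaternionGroup.xa_mul_xa]
          rw [mul_assoc, ← mul_assoc (I ^ i.val), hInJ, mul_assoc J, ← mul_assoc, hJ2, ← pow_add,
            ← pow_add]
          exact hmod (by revert i j; decide) }
  have hz : φ (QuaternionGroup.a 2) = -1 := hI2
  have hcases : ∀ g : QuaternionGroup 2, g ≠ 1 →
      g = QuaternionGroup.a 2 ∨ g * g = QuaternionGroup.a 2 := by decide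
  have hfix : ∀ g : QuaternionGroup 2, g ≠ 1 → ∀ v : Fin 2 → ZMod r, (φ g).mulVec v = v → v = 0 := by
    intro g hg v hv
    have hneg : (φ (QuaternionGroup.a 2)).mulVec v = v := by
      rcases hcases g hg with h | h
      · rw [← h]; exact hv
      · rw [← h, map_mul, ← Matrix.mulVec_mulVec, hv, hv]
    rw [hz, Matrix.neg_mulVec, Matrix.one_mulVec] at hneg
    funext i
    exact (ZMod.neg_eq_self_iff _).mp (congrFun hneg i) |>.resolve_right (by
      intro h; obtain ⟨t, ht⟩ := hr; omega)
  let τ : QuaternionGroup 2 →* MulAut (Multiplicative (Fin 2 → ZMod r)) :=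
    { toFun := fun g => MulEquiv.mk'
        { toFun := fun v => Multiplicative.ofAdd ((φ g).mulVec v.toAdd)
          invFun := fun v => Multiplicative.ofAdd ((φ g⁻¹).mulVec v.toAdd)
          left_inv := fun v => by
            change Multiplicative.ofAdd ((φ g⁻¹).mulVec ((φ g).mulVec v.toAdd)) = v
            rw [Matrix.mulVec_mulVec, ← map_mul, inv_mul_cancel, map_one, Matrix.one_mulVec]
            rfl
          right_inv := fun v => by
            change Multiplicative.ofAdd ((φ g).mulVec ((φ g⁻¹).mulVec v.toAdd)) = v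
            rw [Matrix.mulVec_mulVec, ← map_mul, mul_inv_cancel, map_one, Matrix.one_mulVec]
            rfl }
        (fun v w => by
          change Multiplicative.ofAdd ((φ g).mulVec (v.toAdd + w.toAdd)) = _
          rw [Matrix.mulVec_add]
          rfl)
      map_one' := by
        refine MulEquiv.ext fun v => ?_
        change Multiplicative.ofAdd ((φ 1).mulVec v.toAdd) = v
        simp
      map_mul' := fun x y => by
        refine MulEquiv.ext fun v => ?_
        change Multiplicative.ofAdd ((φ (x * y)).mulVec v.toAdd) =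
          Multiplicative.ofAdd ((φ x).mulVec ((φ y).mulVec v.toAdd))
        rw [map_mul, Matrix.mulVec_mulVec] }
  haveI : Finite (Multiplicative (Fin 2 → ZMod r) ⋊[τ] QuaternionGroup 2) :=
    Finite.of_equiv _ SemidirectProduct.equivProd.symm
  let K : Subgroup (Multiplicative (Fin 2 → ZMod r) ⋊[τ] QuaternionGroup 2) :=
    SemidirectProduct.inl.range
  haveI : K.Normal := by
    rw [show K = SemidirectProduct.rightHom.ker from SemidirectProduct.range_inl_eq_ker_rightHom]
    infer_instance
  let H : Subgroup (Multiplicative (Fin 2 → ZMod r) ⋊[τ] QuaternionGroup 2) :=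
    SemidirectProduct.inr.range
  have hcK : Nat.card K = r * r := by
    rw [Nat.card_congr (MonoidHom.ofInjective SemidirectProduct.inl_injective).toEquiv.symm,
      Nat.card_congr Multiplicative.toAdd, Nat.card_fun, Nat.card_fin, Nat.card_zmod, pow_two]
  have hc : Subgroup.IsComplement' K H := by
    refine Subgroup.isComplement'_of_card_mul_and_disjoint ?_ ?_
    · rw [Nat.card_congr SemidirectProduct.equivProd, Nat.card_prod]
      congr 1
      · exact (Nat.card_congr (MonoidHom.ofInjective SemidirectProduct.inl_injective).toEquiv).symm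
      · exact (Nat.card_congr (MonoidHom.ofInjective SemidirectProduct.inr_injective).toEquiv).symm
    · rw [Subgroup.disjoint_def]
      rintro x ⟨v, rfl⟩ ⟨g, hg⟩
      have h1 := congrArg SemidirectProduct.left hg
      simp at h1
      rw [← h1, map_one]
  have hK : K ≠ ⊥ := by
    intro h
    rw [h, Subgroup.card_bot] at hcK
    nlinarith
  have hH : H ≠ ⊥ := by
    intro h
    have : SemidirectProduct.inr (QuaternionGroup.a 1 : QuaternionGroup 2) ∈ H := ⟨_, rfl⟩
    rw [h, Subgroup.mem_bot] at this
    exact absurd (SemidirectProduct.inr_injective (this.trans (map_one _).symm)) (by decide)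
  have hF : Cfsg.IsFrobeniusComplement H := by
    refine frobenius_of_fpf hc hK hH ?_
    rintro _ ⟨g, rfl⟩ hg
    rw [eq_bot_iff]
    rintro _ ⟨⟨v, rfl⟩, hv⟩
    have h1 := congrArg SemidirectProduct.left (Subgroup.mem_centralizer_singleton_iff.mp hv)
    simp at h1
    have h2 : v.toAdd = 0 := hfix g (fun h => hg (by rw [h, map_one])) _
      (congrArg Multiplicative.toAdd h1.symm)
    have h3 : v = 1 := h2
    rw [h3, map_one]
    exact Subgroup.one_mem _
  refine ⟨_, inferInstance, inferInstance, H, hF,
    ⟨(MonoidHom.ofInjective SemidirectProduct.inr_injective).symm⟩, ?_⟩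
  rw [← coe_eq_frobeniusKernel hc hF]
  exact hcK

end H2
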