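import Mathlib.GroupTheory.GroupAction.MultipleTransitivity
import Mathlib.GroupTheory.PGroup
import Mathlib.GroupTheory.Sylow

/-!
A regular normal subgroup of a 2-transitive group is elementary abelian.
-/

set_option autoImplicit false

namespace H2

theorem regular_normal_elementary {G : Type*} [Group G] [Finite G]
    {X : Type*} [Nonempty X] [MulAction G X] (h2 : MulAction.IsMultiplyPretransitive G X 2)
    (N : Subgroup G) [N.Normal] (htrans : MulAction.IsPretransitive N X)
    (hreg : ∀ x : X, MulAction.stabilizer N x = ⊥) :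
    IsMulCommutative N ∧ ∃ p : ℕ, p.Prime ∧ ∀ n ∈ N, n ^ p = 1 := by
  classical
  obtain ⟨x⟩ := (inferInstance : Nonempty X)
  rcases subsingleton_or_nontrivial N with hs | hn
  · exact ⟨⟨⟨fun a b => Subsingleton.elim _ _⟩⟩, 2, Nat.prime_two, fun n hn => by
      have := congrArg Subtype.val (Subsingleton.elim (⟨n, hn⟩ : N) 1)
      simp only [OneMemClass.coe_one] at this
      simp [this]⟩
  have hinj : ∀ a b : N, a • x = b • x → a = b := by
    intro a b h
    have h1 : b⁻¹ * a ∈ MulAction.stabilizer N x := by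
      rw [MulAction.mem_stabilizer_iff, mul_smul, h, inv_smul_smul]
    rw [hreg x, Subgroup.mem_bot, inv_mul_eq_one] at h1
    exact h1.symm
  -- nontrivial elements of `N` are conjugate in `G`
  have hconj : ∀ a b : N, a ≠ 1 → b ≠ 1 → ∃ g : G, g * (a : G) * g⁻¹ = b := by
    intro a b ha hb
    have ha' : a • x ≠ x := fun h => ha (hinj a 1 (by simpa using h))
    have hb' : b • x ≠ x := fun h => hb (hinj b 1 (by simpa using h))
    obtain ⟨g, hg1, hg2⟩ := (MulAction.is_two_pretransitive_iff (G := G) (α := X)).1 h2 ha'.symm hb'.symm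
    refine ⟨g, ?_⟩
    have hmem : g * (a : G) * g⁻¹ ∈ N := (inferInstance : N.Normal).conj_mem _ a.2 g
    have := hinj ⟨_, hmem⟩ b (by
      show (g * (a : G) * g⁻¹) • x = b • x
      have hgx : g⁻¹ • x = x := inv_smul_eq_iff.2 hg1.symm
      rw [mul_smul, mul_smul, hgx]
      exact hg2)
    exact congrArg Subtype.val this
  obtain ⟨p, hp, hpd⟩ := Nat.exists_prime_and_dvd (Finite.one_lt_card (α := N)).ne'
  have := Fact.mk hp
  obtain ⟨a, ha⟩ := exists_prime_orderOf_dvd_card' (G := N) p hpd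
  have ha1 : a ≠ 1 := by rintro rfl; simp at ha; exact hp.one_lt.ne ha
  have hord : ∀ b : N, b ^ p = 1 := by
    intro b
    by_cases hb : b = 1
    · simp [hb]
    obtain ⟨g, hg⟩ := hconj a b ha1 hb
    apply Subtype.ext
    rw [SubmonoidClass.coe_pow, ← hg, conj_pow, ← SubmonoidClass.coe_pow, ← ha, pow_orderOf_eq_one]
    simp
  have hpG : IsPGroup p N := fun b => ⟨1, by rw [pow_one]; exact hord b⟩
  refine ⟨?_, p, hp, fun n hn' => congrArg Subtype.val (hord ⟨n, hn'⟩)⟩
  have := hpG.center_nontrivial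
  obtain ⟨⟨z, hz⟩, hz1⟩ := exists_ne (1 : Subgroup.center N)
  have hz1' : z ≠ 1 := fun h => hz1 (Subtype.ext h)
  refine ⟨⟨fun c d => ?_⟩⟩
  by_cases hc : c = 1
  · simp [hc]
  obtain ⟨g, hg⟩ := hconj z c hz1' hc
  have hmem : g⁻¹ * (d : G) * g ∈ N := by
    simpa using (inferInstance : N.Normal).conj_mem _ d.2 g⁻¹
  have h1 := congrArg Subtype.val (Subgroup.mem_center_iff.1 hz ⟨_, hmem⟩)
  simp only [Subgroup.coe_mul] at h1
  apply Subtype.ext
  simp only [Subgroup.coe_mul]
  rw [← hg]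
  calc g * (z : G) * g⁻¹ * (d : G) = g * ((z : G) * (g⁻¹ * (d : G) * g)) * g⁻¹ := by group
    _ = g * ((g⁻¹ * (d : G) * g) * (z : G)) * g⁻¹ := by rw [h1]
    _ = _ := by group

end H2
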