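import Cfsg.Agent.H3.SubnormalJoin
import Cfsg.Agent.H2.FrobeniusBasic

/-!
Wielandt's subnormality criterion.
-/

set_option autoImplicit false

namespace H2

open Pointwise

theorem subgroupOf_smul {G : Type*} [Group G] {A V : Subgroup G} (g : V) (hA : A ≤ V) :
    (MulAut.conj (g : G) • A).subgroupOf V = MulAut.conj g • A.subgroupOf V := by
  ext x
  rw [Subgroup.mem_subgroupOf, mem_conj_smul, mem_conj_smul, Subgroup.mem_subgroupOf]
  rfl

theorem wielandt_criterion_aux.{u} (n : ℕ) : ∀ (G : Type u) [Group G] [Finite G], Nat.card G = n →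
    ∀ A : Subgroup G, (∀ g : G, (A.subgroupOf (A ⊔ MulAut.conj g • A)).IsSubnormal) →
      A.IsSubnormal := by
  induction n using Nat.strong_induction_on with
  | _ n ih =>
    intro G _ _ hn A h
    by_contra hsn
    -- conjugates of `A` inherit the hypothesis and are subnormal in proper overgroups
    have hB : ∀ (g : G) (V : Subgroup G), V ≠ ⊤ → MulAut.conj g • A ≤ V →
        ((MulAut.conj g • A).subgroupOf V).IsSubnormal := by
      intro g V hV hle
      refine ih (Nat.card V) ?_ V rfl _ ?_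
      · rw [← hn]
        exact lt_of_le_of_ne (Nat.le_of_dvd Nat.card_pos V.card_subgroup_dvd_card)
          (fun h => hV (V.eq_top_of_card_eq h))
      intro v
      set B := MulAut.conj g • A with hBdef
      have hvB : MulAut.conj (v : G) • B ≤ V := by
        rintro x ⟨b, hb, rfl⟩
        exact V.mul_mem (V.mul_mem v.2 (hle hb)) (V.inv_mem v.2)
      rw [← subgroupOf_smul v hle, ← Subgroup.subgroupOf_sup hle hvB]
      set J := B ⊔ MulAut.conj (v : G) • B with hJ
      have hJV : J ≤ V := sup_le hle hvB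
      have hBJ : (B.subgroupOf J).IsSubnormal := by
        have h0 := h (g⁻¹ * v * g)
        set J₀ := A ⊔ MulAut.conj (g⁻¹ * (v : G) * g) • A with hJ₀
        have hJeq : J = MulAut.conj g • J₀ := by
          rw [hJ, hJ₀, Subgroup.smul_sup, ← mul_smul, hBdef, ← mul_smul, ← map_mul, ← map_mul]
          congr 3; group
        let e : J₀ ≃* J := (Subgroup.equivSMul (MulAut.conj g) J₀).trans
          (MulEquiv.subgroupCongr hJeq.symm)
        have hm := h0.map (f := e.toMonoidHom) e.surjective
        convert hm using 1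
        ext x
        constructor
        · intro hx
          obtain ⟨a, ha, hax⟩ := (Subgroup.mem_subgroupOf.1 hx : (x : G) ∈ B)
          exact ⟨⟨a, (le_sup_left : A ≤ J₀) ha⟩, ha, Subtype.ext hax⟩
        · rintro ⟨a, ha, rfl⟩
          exact Subgroup.mem_subgroupOf.2 ⟨(a : G), ha, rfl⟩
      let e' : J ≃* J.subgroupOf V := (Subgroup.subgroupOfEquivOfLe hJV).symm
      have hm := hBJ.map (f := e'.toMonoidHom) e'.surjective
      convert hm using 1
      ext x
      constructor
      · intro hx
        exact ⟨⟨((x : V) : G), x.2⟩, hx, Subtype.ext (Subtype.ext rfl)⟩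
      · rintro ⟨a, ha, rfl⟩
        exact ha
    have hA : ∀ V : Subgroup G, V ≠ ⊤ → A ≤ V → (A.subgroupOf V).IsSubnormal := by
      intro V hV hle
      have := hB 1 V hV (by simpa using hle)
      simpa using this
    set S : Subgroup G → Set (Subgroup G) := fun V =>
      {B | (∃ g : G, B = MulAut.conj g • A) ∧ B ≤ V ∧ (B.subgroupOf V).IsSubnormal}
    have hAne : A ≠ ⊤ := fun h => hsn (h ▸ Subgroup.IsSubnormal.top)
    obtain ⟨M, ⟨hMtop, hAM⟩, hM⟩ := H3.zipper A {V : Subgroup G | V ≠ ⊤ ∧ A ≤ V} ⟨A, hAne, le_rfl⟩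
      S (fun V B => Iff.rfl)
      (fun V hV W _ B hB' hBV => ⟨hB'.1, hBV, by
        obtain ⟨⟨g, rfl⟩, -, -⟩ := hB'
        exact hB g V hV.1 hBV⟩)
      (by
        intro V hV W hW
        refine ⟨Subgroup.normalizer ((sSup (S V ∩ S W) : Subgroup G) : Set G), ?_, le_rfl⟩
        refine ⟨fun htop => ?_, ?_⟩
        · -- the join would be normal
          have hJn : (sSup (S V ∩ S W) : Subgroup G).Normal := Subgroup.normalizer_eq_top_iff.1 htop
          have hJV : sSup (S V ∩ S W) ≤ V := sSup_le fun B hB => hB.1.2.1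
          have hAJ : A ≤ sSup (S V ∩ S W) := le_sSup (s := S V ∩ S W)
            ⟨⟨⟨1, by simp⟩, hV.2, hA V hV.1 hV.2⟩, ⟨⟨1, by simp⟩, hW.2, hA W hW.1 hW.2⟩⟩
          exact hsn (Subgroup.IsSubnormal.trans hAJ
            (hA _ (fun h => hV.1 (top_le_iff.1 (h ▸ hJV))) hAJ) hJn.isSubnormal)
        · exact le_trans (le_sSup (s := S V ∩ S W)
            ⟨⟨⟨1, by simp⟩, hV.2, hA V hV.1 hV.2⟩, ⟨⟨1, by simp⟩, hW.2, hA W hW.1 hW.2⟩⟩)
            Subgroup.le_normalizer)
    have hconj : ∀ g : G, MulAut.conj g • A ≤ M := by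
      intro g
      refine le_sup_right.trans (hM (A ⊔ MulAut.conj g • A) ⟨fun htop => hsn ?_, le_sup_left⟩)
      have h1 := h g
      rw [htop] at h1
      exact Subgroup.IsSubnormal.trans le_top h1 Subgroup.IsSubnormal.top
    set N := Subgroup.normalClosure (A : Set G)
    have hAN : A ≤ N := Subgroup.subset_normalClosure
    have hNM : N ≤ M := by
      rw [show N = Subgroup.closure (Group.conjugatesOfSet (A : Set G)) from rfl, Subgroup.closure_le]
      intro x hx
      obtain ⟨a, ha, hax⟩ := Group.mem_conjugatesOfSet_iff.1 hx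
      obtain ⟨c, rfl⟩ := isConj_iff.1 hax
      exact hconj c ⟨a, ha, rfl⟩
    exact hsn (Subgroup.IsSubnormal.trans hAN
      (hA N (fun h => hMtop (top_le_iff.1 (h ▸ hNM))) hAN)
      Subgroup.normalClosure_normal.isSubnormal)

theorem wielandt_criterion {G : Type*} [Group G] [Finite G] (A : Subgroup G)
    (h : ∀ g : G, (A.subgroupOf (A ⊔ MulAut.conj g • A)).IsSubnormal) : A.IsSubnormal :=
  wielandt_criterion_aux _ G rfl A h

end H2
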